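import Groth.Agent.RG.Eft
import Groth.Prelude.Def_FlatCA
import Mathlib.RingTheory.Flat.Localization
import Mathlib.RingTheory.Localization.Module
import Mathlib.RingTheory.Ideal.AssociatedPrime.Localization
import Mathlib.RingTheory.Ideal.AssociatedPrime.Finiteness

/-!
# Points detecting sections of flat modules over a ring with finitely many weakly associated primes
-/

set_option autoImplicit false
set_option linter.style.haveILetI false
set_option backward.isDefEq.respectTransparency false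

universe u

open TensorProduct

namespace Groth.Agent.RG

/-- the kernel of `N → κ(p) ⊗ N` -/
theorem one_tmul_eq_zero_iff {R N : Type u} [CommRing R] [AddCommGroup N] [Module R N] (p : Ideal R) [p.IsPrime]
    (n : N) : (1 : p.ResidueField) ⊗ₜ[R] n = 0 ↔ ∃ c ∉ p, c • n ∈ p • (⊤ : Submodule R N) := by
  constructor
  · intro h
    let e := AlgebraTensorModule.cancelBaseChange R (R ⧸ p) (R ⧸ p) p.ResidueField N
    have h' : (1 : p.ResidueField) ⊗ₜ[R ⧸ p] ((1 : R ⧸ p) ⊗ₜ[R] n) = 0 := by
      apply e.injective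
      rw [map_zero]
      simpa [e] using h
    haveI := (isLocalizedModule_iff_isBaseChange (nonZeroDivisors (R ⧸ p)) p.ResidueField
      (TensorProduct.mk (R ⧸ p) p.ResidueField ((R ⧸ p) ⊗[R] N) 1)).2 (TensorProduct.isBaseChange _ _ _)
    obtain ⟨⟨c, hc⟩, hcn⟩ := (IsLocalizedModule.eq_zero_iff (nonZeroDivisors (R ⧸ p))
      (TensorProduct.mk (R ⧸ p) p.ResidueField ((R ⧸ p) ⊗[R] N) 1)).1 h'
    obtain ⟨c, rfl⟩ := Ideal.Quotient.mk_surjective c
    refine ⟨c, fun hcp => nonZeroDivisors.ne_zero hc (Ideal.Quotient.eq_zero_iff_mem.2 hcp), ?_⟩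
    have h2 : Ideal.Quotient.mk p c ⊗ₜ[R] n = 0 := by
      rw [Submonoid.smul_def, smul_tmul', smul_eq_mul, mul_one] at hcn
      exact hcn
    have h3 := congrArg (TensorProduct.quotTensorEquivQuotSMul N p) h2
    rwa [map_zero, TensorProduct.quotTensorEquivQuotSMul_mk_tmul, Submodule.Quotient.mk_eq_zero] at h3
  · rintro ⟨c, hc, hcn⟩
    have h0 : ∀ m ∈ p • (⊤ : Submodule R N), (1 : p.ResidueField) ⊗ₜ[R] m = 0 := by
      intro m hm
      induction hm using Submodule.smul_induction_on' with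
      | smul a ha x _ =>
        rw [← smul_tmul, Algebra.smul_def, mul_one, Ideal.algebraMap_residueField_eq_zero.2 ha, zero_tmul]
      | add x _ y _ hx hy => rw [tmul_add, hx, hy, add_zero]
    have hu : IsUnit (algebraMap R p.ResidueField c) :=
      isUnit_iff_ne_zero.2 fun h => hc (Ideal.algebraMap_residueField_eq_zero.1 h)
    have h1 : algebraMap R p.ResidueField c • ((1 : p.ResidueField) ⊗ₜ[R] n) = 0 := by
      rw [algebraMap_smul, ← tmul_smul]
      exact h0 _ hcn
    exact hu.smul_eq_zero.1 h1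

theorem exists_mk {S N : Type u} [CommRing S] [AddCommGroup N] [Module S N] {U : Submonoid S} (y : LocalizedModule U N) :
    ∃ (m : N) (s : U), y = LocalizedModule.mk m s := by
  induction y using LocalizedModule.induction_on with
  | _ m s => exact ⟨m, s, rfl⟩

/-- numerators of elements of `p • N_σ` -/
theorem exists_smul_mem_of_mk {R S N : Type u} [CommRing R] [CommRing S] [Algebra R S] [AddCommGroup N] [Module S N]
    [Module R N] [IsScalarTower R S N] (p : Ideal R) (U : Submonoid S) {n : N}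
    (h : LocalizedModule.mk n (1 : U) ∈ p • (⊤ : Submodule R (LocalizedModule U N))) :
    ∃ t ∈ U, t • n ∈ p • (⊤ : Submodule R N) := by
  have hmul : ∀ (t : S) {m : N}, m ∈ p • (⊤ : Submodule R N) → t • m ∈ p • (⊤ : Submodule R N) := fun t m hm => by
    have := Submodule.mem_map_of_mem (f := (LinearMap.lsmul S N t).restrictScalars R) hm
    rw [Submodule.map_smul''] at this
    exact Submodule.smul_mono le_rfl le_top this
  suffices key : ∀ x ∈ p • (⊤ : Submodule R (LocalizedModule U N)),
      ∃ (m : N) (s : U), x = LocalizedModule.mk m s ∧ m ∈ p • (⊤ : Submodule R N) by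
    obtain ⟨m, s, hms, hm⟩ := key _ h
    obtain ⟨t, ht⟩ := LocalizedModule.mk_eq.1 hms
    refine ⟨(t * s : U), (t * s : U).2, ?_⟩
    rw [Submonoid.coe_mul, mul_smul]
    simp only [Submonoid.smul_def, one_smul, Submonoid.coe_one] at ht
    rw [ht]
    exact hmul _ hm
  intro x hx
  induction hx using Submodule.smul_induction_on' with
  | smul a ha y _ =>
    obtain ⟨m, s, rfl⟩ := exists_mk y
    exact ⟨a • m, s, by rw [← LocalizedModule.smul'_mk], Submodule.smul_mem_smul ha trivial⟩
  | add x _ y _ hx hy =>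
    obtain ⟨m, s, rfl, hm⟩ := hx
    obtain ⟨m', s', rfl, hm'⟩ := hy
    exact ⟨s' • m + s • m', s * s', LocalizedModule.mk_add_mk, add_mem (hmul _ hm) (hmul _ hm')⟩

section points

attribute [local instance] Algebra.TensorProduct.rightAlgebra

variable (R : Type u) (S : Type u) [CommRing R] [CommRing S] [Algebra R S] (N : Type u) [AddCommGroup N] [Module S N]
  [Module R N] [IsScalarTower R S N]

/-- points of `N` which are associated in their fibre over a weakly associated prime of the base -/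
def assPts (p : Ideal R) [p.IsPrime] : Set (Ideal S) :=
  (fun Q : Ideal (p.Fiber S) => Q.comap Algebra.TensorProduct.includeRight.toRingHom) ''
    associatedPrimes (p.Fiber S) (FlatCA.fiberMod p S N)

theorem isPrime_of_mem_assPts {p : Ideal R} [p.IsPrime] {σ : Ideal S} (h : σ ∈ assPts R S N p) :
    σ.IsPrime ∧ σ.comap (algebraMap R S) = p := by
  obtain ⟨Q, hQ, rfl⟩ := h
  haveI : Q.IsPrime := AssociatedPrimes.mem_iff.1 hQ |>.isPrime
  refine ⟨Ideal.IsPrime.comap _, ?_⟩
  rw [Ideal.comap_comap]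
  have : (Algebra.TensorProduct.includeRight : S →ₐ[R] p.Fiber S).toRingHom.comp (algebraMap R S) =
      algebraMap R (p.Fiber S) := RingHom.ext fun r => Algebra.TensorProduct.includeRight.commutes r
  rw [this]
  exact (Ideal.over_def Q p).symm

theorem finite_assPts [Algebra.FiniteType R S] [Module.Finite S N] (p : Ideal R) [p.IsPrime] :
    (assPts R S N p).Finite := by
  haveI : IsNoetherianRing (p.Fiber S) := Algebra.FiniteType.isNoetherianRing p.ResidueField _
  haveI : Module.Finite (p.Fiber S) (FlatCA.fiberMod p S N) :=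
    inferInstanceAs (Module.Finite (p.Fiber S) ((p.Fiber S) ⊗[S] N))
  exact (associatedPrimes.finite _ _).image _

variable {N}

/-- if `n` is outside `pN` near `Q`, some point associated in the fibre below `Q` sees this -/
theorem exists_assPts_of_not_mem [Algebra.FiniteType R S] [Module.Finite S N] (p : Ideal R) [p.IsPrime]
    (Q : Ideal S) [Q.IsPrime] (hQp : Q.comap (algebraMap R S) = p) (n : N)
    (h : ∀ t ∉ Q, t • n ∉ p • (⊤ : Submodule R N)) :
    ∃ σ ∈ assPts R S N p, σ ≤ Q ∧ ∀ t ∉ σ, t • n ∉ p • (⊤ : Submodule R N) := by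
  let T := p.Fiber S
  let F := T ⊗[S] N
  haveI : IsNoetherianRing T := Algebra.FiniteType.isNoetherianRing p.ResidueField _
  let nb : F := (1 : T) ⊗ₜ[S] n
  let W : Submodule T F := Submodule.span T {nb}
  let I : Ideal T := W.annihilator
  let inc : S →+* T := (Algebra.TensorProduct.includeRight : S →ₐ[R] T).toRingHom
  let eF : F ≃ₗ[p.ResidueField] p.ResidueField ⊗[R] N :=
    Algebra.IsPushout.cancelBaseChange R p.ResidueField S T N
  have hIt : ∀ t : S, inc t ∈ I ↔ (1 : p.ResidueField) ⊗ₜ[R] (t • n) = 0 := by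
    intro t
    rw [Submodule.mem_annihilator_span_singleton]
    have : inc t • nb = (1 : T) ⊗ₜ[S] (t • n) := by
      change (algebraMap S T t) • ((1 : T) ⊗ₜ[S] n) = _
      rw [algebraMap_smul, tmul_smul]
    rw [this, ← eF.map_eq_zero_iff, Algebra.IsPushout.cancelBaseChange_tmul]
  have hdisj : Disjoint (I : Set T) (Q.primeCompl.map inc.toMonoidHom : Set T) := by
    rw [Set.disjoint_left]
    rintro _ hI ⟨t, ht, rfl⟩
    obtain ⟨c, hc, hcn⟩ := (one_tmul_eq_zero_iff p _).1 ((hIt t).1 hI)
    refine h (algebraMap R S c * t) (fun hmem => ?_) (by rwa [mul_smul, algebraMap_smul])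
    rcases (‹Q.IsPrime›).mem_or_mem hmem with h1 | h1
    · exact hc (hQp ▸ h1)
    · exact ht h1
  obtain ⟨Q₁, hQ₁, hIQ₁, hd₁⟩ := Ideal.exists_le_prime_disjoint _ _ hdisj
  obtain ⟨Q₂, hQ₂, hQ₂₁⟩ := Ideal.exists_minimalPrimes_le hIQ₁
  have hass : Q₂ ∈ associatedPrimes T F :=
    associatedPrimes.subset_of_injective W.injective_subtype
      (Module.associatedPrimes.minimalPrimes_annihilator_subset_associatedPrimes T W hQ₂)
  refine ⟨Q₂.comap inc, ⟨Q₂, hass, rfl⟩, fun t ht => ?_, fun t ht htn => ?_⟩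
  · by_contra htQ
    exact Set.disjoint_left.1 hd₁ (hQ₂₁ ht) ⟨t, htQ, rfl⟩
  · exact ht (hQ₂.1.2 ((hIt t).2 ((one_tmul_eq_zero_iff p _).2
      ⟨1, fun h1 => (‹p.IsPrime›).ne_top ((Ideal.eq_top_iff_one p).2 h1), by rwa [one_smul]⟩)))

/-- a finite module flat at the fibre-associated points below `Q` is flat at `Q`, and embeds there -/
theorem local_embedding [Algebra.FiniteType R S] [Module.Finite S N] (p : Ideal R) [p.IsPrime]
    (Q : Ideal S) [Q.IsPrime] (hQp : Q.comap (algebraMap R S) = p)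
    (hflat' : ∀ (σ : Ideal S) [σ.IsPrime], σ ∈ assPts R S N p → σ ≤ Q → Module.Flat R (LocalizedModule σ.primeCompl N)) :
    Module.Flat R (LocalizedModule Q.primeCompl N) ∧
      ∀ x : N, (∀ σ ∈ assPts R S N p, σ ≤ Q → ∃ t ∉ σ, t • x = 0) → ∃ t ∉ Q, t • x = 0 := by
  classical
  let A := Localization.AtPrime p
  let B := Localization.AtPrime Q
  let X := LocalizedModule Q.primeCompl N
  letI : Algebra A B := (Localization.localRingHom p Q (algebraMap R S) hQp.symm).toAlgebra
  haveI : IsScalarTower R A B := IsScalarTower.of_algebraMap_eq fun r => by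
    rw [RingHom.algebraMap_toAlgebra, Localization.localRingHom_to_map, IsScalarTower.algebraMap_apply R S B]
  haveI : IsLocalHom (algebraMap A B) := Localization.isLocalHom_localRingHom p Q (algebraMap R S) hQp.symm
  haveI : Algebra.EssFiniteType S B := Algebra.EssFiniteType.of_isLocalization B Q.primeCompl
  haveI : Algebra.EssFiniteType R B := Algebra.EssFiniteType.comp R S B
  haveI : Algebra.EssFiniteType A B := Algebra.EssFiniteType.of_comp R A B
  letI : Module A X := Module.compHom X (algebraMap A B)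
  haveI : IsScalarTower A B X := IsScalarTower.of_algebraMap_smul fun _ _ => rfl
  haveI : IsScalarTower R A X := IsScalarTower.of_algebraMap_smul fun r x => by
    change algebraMap A B (algebraMap R A r) • x = r • x
    rw [← IsScalarTower.algebraMap_apply, algebraMap_smul]
  haveI : Module.Finite B X := Module.Finite.of_isLocalizedModule Q.primeCompl (LocalizedModule.mkLinearMap _ N)
  let ι := {σ : Ideal S // σ ∈ assPts R S N p ∧ σ ≤ Q}
  haveI : Finite ι := ((finite_assPts R S N p).subset fun σ h => h.1).to_subtype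
  letI : ∀ i : ι, i.1.IsPrime := fun i => (isPrime_of_mem_assPts R S N i.2.1).1
  haveI : ∀ i : ι, Module.Flat R (LocalizedModule i.1.primeCompl N) := fun i => hflat' i.1 i.2.1 i.2.2
  let M := ∀ i : ι, LocalizedModule i.1.primeCompl N
  haveI : Fintype ι := Fintype.ofFinite ι
  haveI : Module.Flat R M :=
    Module.Flat.of_linearEquiv (DirectSum.linearEquivFunOnFintype R ι fun i => LocalizedModule i.1.primeCompl N).symm
  let M' := LocalizedModule p.primeCompl M
  haveI : Module.Flat A M' := Module.Flat.localizedModule p.primeCompl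
  have hunit : ∀ (i : ι), ∀ t : Q.primeCompl,
      IsUnit (algebraMap S (Module.End S (LocalizedModule i.1.primeCompl N)) t) := fun i t =>
    IsLocalizedModule.map_units (LocalizedModule.mkLinearMap i.1.primeCompl N)
      (⟨(t : S), fun h => t.2 (i.2.2 h)⟩ : i.1.primeCompl)
  let u₀ : X →ₗ[R] M := LinearMap.pi fun i =>
    (IsLocalizedModule.lift Q.primeCompl (LocalizedModule.mkLinearMap Q.primeCompl N)
      (LocalizedModule.mkLinearMap i.1.primeCompl N) (hunit i)).restrictScalars R
  let u₁ : X →ₗ[R] M' := (LocalizedModule.mkLinearMap p.primeCompl M) ∘ₗ u₀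
  let u : X →ₗ[A] M' := LinearMap.extendScalarsOfIsLocalization p.primeCompl A u₁
  have hu₀ : ∀ (n : N) i, u₀ (LocalizedModule.mk n 1) i = LocalizedModule.mk n 1 := fun n i =>
    IsLocalizedModule.lift_apply Q.primeCompl (LocalizedModule.mkLinearMap Q.primeCompl N)
      (LocalizedModule.mkLinearMap i.1.primeCompl N) (hunit i) n
  have hAR : ∀ {Y : Type u} [AddCommGroup Y] [Module R Y] [Module A Y] [IsScalarTower R A Y] (y : Y),
      y ∈ IsLocalRing.maximalIdeal A • (⊤ : Submodule A Y) → y ∈ p • (⊤ : Submodule R Y) := by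
    intro Y _ _ _ _ y hy
    rw [← Localization.AtPrime.map_eq_maximalIdeal] at hy
    refine Submodule.smul_induction_on hy (fun a ha z _ => ?_) fun _ _ => add_mem
    induction ha using Submodule.span_induction generalizing z with
    | mem a ha =>
      obtain ⟨r, hr, rfl⟩ := ha
      rw [algebraMap_smul]
      exact Submodule.smul_mem_smul hr trivial
    | zero => rw [zero_smul]; exact zero_mem _
    | add a b _ _ ha hb => rw [add_smul]; exact add_mem (ha z trivial) (hb z trivial)
    | smul c a _ ha => rw [smul_eq_mul, mul_comm, mul_smul]; exact ha _ trivial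
  have hRA : ∀ {Y : Type u} [AddCommGroup Y] [Module R Y] [Module A Y] [IsScalarTower R A Y] (y : Y),
      y ∈ p • (⊤ : Submodule R Y) → y ∈ IsLocalRing.maximalIdeal A • (⊤ : Submodule A Y) := by
    intro Y _ _ _ _ y hy
    refine Submodule.smul_induction_on hy (fun a ha z _ => ?_) fun _ _ => add_mem
    rw [← algebraMap_smul A a z]
    exact Submodule.smul_mem_smul (Localization.AtPrime.map_eq_maximalIdeal (I := p) ▸ Ideal.mem_map_of_mem _ ha) trivial
  have hu : ∀ y, u y ∈ IsLocalRing.maximalIdeal A • (⊤ : Submodule A M') →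
      y ∈ IsLocalRing.maximalIdeal A • (⊤ : Submodule A X) := by
    intro y hy
    obtain ⟨n, s, rfl⟩ := exists_mk y
    have hs : (s : S) • LocalizedModule.mk n s = LocalizedModule.mk n (1 : Q.primeCompl) := by
      rw [LocalizedModule.smul'_mk, ← Submonoid.smul_def, LocalizedModule.mk_cancel]
    have h1 : LocalizedModule.mk (u₀ (LocalizedModule.mk n s)) (1 : p.primeCompl) ∈ p • (⊤ : Submodule R M') :=
      hAR _ hy
    obtain ⟨c, hc, hcm⟩ := exists_smul_mem_of_mk p p.primeCompl h1
    -- no point below `Q` sees `n`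
    have hn : ∃ t ∉ Q, t • n ∈ p • (⊤ : Submodule R N) := by
      by_contra hcon'
      push Not at hcon'
      obtain ⟨σ, hσ, hσQ, hσn⟩ := exists_assPts_of_not_mem R S p Q hQp n hcon'
      haveI := (isPrime_of_mem_assPts R S N hσ).1
      let i : ι := ⟨σ, hσ, hσQ⟩
      have h4 := Submodule.mem_map_of_mem (f := ((LinearMap.lsmul S (LocalizedModule i.1.primeCompl N) (s : S)).restrictScalars R) ∘ₗ
        (LinearMap.proj i : M →ₗ[R] _)) hcm
      rw [Submodule.map_smul''] at h4
      have h5 : LocalizedModule.mk (c • n) (1 : σ.primeCompl) ∈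
          p • (⊤ : Submodule R (LocalizedModule σ.primeCompl N)) := by
        have h6 := Submodule.smul_mono (le_refl p) le_top h4
        convert h6 using 1
        change _ = (s : S) • (c • u₀ (LocalizedModule.mk n s) i)
        have h7 : (s : S) • u₀ (LocalizedModule.mk n s) i = LocalizedModule.mk n (1 : i.1.primeCompl) := by
          rw [← hu₀ n i, ← hs]
          exact (LinearMap.map_smul (IsLocalizedModule.lift Q.primeCompl (LocalizedModule.mkLinearMap Q.primeCompl N)
            (LocalizedModule.mkLinearMap i.1.primeCompl N) (hunit i)) (s : S) (LocalizedModule.mk n s)).symm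
        rw [smul_comm, h7, ← algebraMap_smul S c n, ← LocalizedModule.smul'_mk, algebraMap_smul]
      obtain ⟨t, ht, htn⟩ := exists_smul_mem_of_mk p σ.primeCompl h5
      refine hσn (algebraMap R S c * t) (fun hmem => ?_) (by rwa [mul_smul, algebraMap_smul, smul_comm])
      rcases (inferInstance : σ.IsPrime).mem_or_mem hmem with h6 | h6
      · exact hc ((isPrime_of_mem_assPts R S N hσ).2.le h6)
      · exact ht h6
    obtain ⟨t, ht, htn⟩ := hn
    apply hRA
    have h7 : LocalizedModule.mk n s = Localization.mk 1 (s * ⟨t, ht⟩) • LocalizedModule.mk (t • n) (1 : Q.primeCompl) := by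
      rw [LocalizedModule.mk_smul_mk, one_smul, mul_one, ← LocalizedModule.mk_cancel_common_left ⟨t, ht⟩ s n, mul_comm s]
      rfl
    rw [h7]
    have h8 := Submodule.mem_map_of_mem
      (f := (LinearMap.lsmul B X (Localization.mk 1 (s * ⟨t, ht⟩))).restrictScalars R ∘ₗ
        (LocalizedModule.mkLinearMap Q.primeCompl N).restrictScalars R) htn
    rw [Submodule.map_smul''] at h8
    exact Submodule.smul_mono le_rfl le_top h8
  obtain ⟨hflX, -, hpure⟩ := eft_main (B := B) X u hu
  refine ⟨(Module.flat_iff_of_isLocalization A p.primeCompl X).1 hflX, fun x hcon => ?_⟩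
  have hinj : Function.Injective u := fun a b hab =>
    (TensorProduct.rid A _).symm.injective (hpure A (by simp [hab]))
  have hz : u (LocalizedModule.mk x 1) = 0 := by
    change u₁ (LocalizedModule.mk x 1) = 0
    rw [show u₁ (LocalizedModule.mk x 1) = LocalizedModule.mkLinearMap p.primeCompl M (u₀ (LocalizedModule.mk x 1)) from rfl,
      show u₀ (LocalizedModule.mk x 1) = 0 from funext fun i => ?_, map_zero]
    obtain ⟨t, ht, htx⟩ := hcon i.1 i.2.1 i.2.2
    rw [hu₀, Pi.zero_apply]
    exact (IsLocalizedModule.eq_zero_iff i.1.primeCompl (LocalizedModule.mkLinearMap i.1.primeCompl N)).2 ⟨⟨t, ht⟩, htx⟩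
  obtain ⟨⟨t, ht⟩, htx⟩ := (IsLocalizedModule.eq_zero_iff Q.primeCompl (LocalizedModule.mkLinearMap Q.primeCompl N)).1
    (hinj (hz.trans (map_zero _).symm))
  exact ⟨t, ht, htx⟩

/-- for `N` flat near `Q`, a section nonzero at `Q` is nonzero at a point associated in the fibre below `Q` -/
theorem exists_assPts_le [Algebra.FiniteType R S] [Module.Finite S N] (p : Ideal R) [p.IsPrime]
    (Q : Ideal S) [Q.IsPrime] (hQp : Q.comap (algebraMap R S) = p)
    (hflat' : ∀ (σ : Ideal S) [σ.IsPrime], σ ≤ Q → Module.Flat R (LocalizedModule σ.primeCompl N))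
    (x : N) (hx : ∀ t ∉ Q, t • x ≠ 0) :
    ∃ σ ∈ assPts R S N p, σ ≤ Q ∧ ∀ t ∉ σ, t • x ≠ 0 := by
  by_contra hcon
  push Not at hcon
  obtain ⟨t, ht, htx⟩ := (local_embedding R S p Q hQp fun σ _ _ hσ => hflat' σ hσ).2 x hcon
  exact hx t ht htx

theorem exists_prime_over (p : Ideal R) [p.IsPrime] (q : Ideal S) [q.IsPrime] (hq : q.comap (algebraMap R S) = p) :
    ∃ Q' : Ideal (p.Fiber S),
      Q'.comap (Algebra.TensorProduct.includeRight : S →ₐ[R] p.Fiber S).toRingHom = q := by
  obtain ⟨Q', hQ'⟩ := (PrimeSpectrum.preimageEquivFiber R S ⟨p, inferInstance⟩).symm.surjective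
    ⟨⟨q, inferInstance⟩, PrimeSpectrum.ext hq⟩
  exact ⟨Q'.asIdeal, congrArg (fun z => z.1.asIdeal) hQ'⟩

/-- primes of the fibre ring are extended -/
theorem fiberIdeal_comap (p : Ideal R) [p.IsPrime] (Q : Ideal (p.Fiber S)) [Q.IsPrime] :
    FlatCA.fiberIdeal p (Q.comap (Algebra.TensorProduct.includeRight : S →ₐ[R] p.Fiber S).toRingHom) = Q := by
  refine le_antisymm (Ideal.map_le_iff_le_comap.2 le_rfl) fun x hx => ?_
  obtain ⟨c, hc, s, hs⟩ := Ideal.Fiber.exists_smul_eq_one_tmul p x
  have hu : IsUnit (algebraMap R (p.Fiber S) c) := by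
    rw [IsScalarTower.algebraMap_apply R p.ResidueField (p.Fiber S)]
    exact (isUnit_iff_ne_zero.2 fun h => hc (Ideal.algebraMap_residueField_eq_zero.1 h)).map _
  rw [← Ideal.unit_mul_mem_iff_mem _ hu, ← Algebra.smul_def, hs]
  refine Ideal.mem_map_of_mem _ (?_ : (1 : p.ResidueField) ⊗ₜ[R] s ∈ Q)
  rw [← hs, Algebra.smul_def]
  exact Q.mul_mem_left _ hx

theorem mem_assPts_iff (p : Ideal R) [p.IsPrime] (q : Ideal S) [q.IsPrime] (hq : q.comap (algebraMap R S) = p) :
    q ∈ assPts R S N p ↔ FlatCA.fiberIdeal p q ∈ associatedPrimes (p.Fiber S) (FlatCA.fiberMod p S N) := by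
  constructor
  · rintro ⟨Q, hQ, rfl⟩
    haveI : Q.IsPrime := AssociatedPrimes.mem_iff.1 hQ |>.isPrime
    exact (fiberIdeal_comap R S p Q).symm ▸ hQ
  · intro hQ
    haveI hQp := (AssociatedPrimes.mem_iff.1 hQ).isPrime
    refine ⟨_, hQ, le_antisymm ?_ Ideal.le_comap_map⟩
    obtain ⟨Q', hQ'⟩ := exists_prime_over R S p q hq
    exact (Ideal.comap_mono (Ideal.map_le_iff_le_comap.2 hQ'.ge)).trans hQ'.le

end points

/-- in a flat module over a ring with finitely many weakly associated primes, a nonzero element stays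
nonzero at one of them -/
theorem exists_weakAss_ne_zero {R M : Type u} [CommRing R] (hR : (FlatCA.weakAss R R).Finite) [AddCommGroup M]
    [Module R M] [Module.Flat R M] (P : Ideal R) [P.IsPrime] (hP : ∀ c ∉ P, ∀ m : M, c • m = 0 → m = 0)
    (x : M) (hx : x ≠ 0) :
    ∃ p ∈ FlatCA.weakAss R R, p ≤ P ∧ ∀ c ∉ p, c • x ≠ 0 := by
  classical
  by_contra hcon
  push Not at hcon
  let ι := {p : Ideal R // p ∈ FlatCA.weakAss R R ∧ p ≤ P}
  haveI : Finite ι := (hR.subset fun p h => h.1).to_subtype
  haveI : Fintype ι := Fintype.ofFinite ι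
  choose c hc hcx using fun i : ι => hcon i.1 i.2.1 i.2.2
  let φ : R →ₗ[R] (ι → R) := LinearMap.pi fun i => LinearMap.lsmul R R (c i)
  have hker : ∀ r ∈ LinearMap.ker φ, ∃ d ∉ P, d * r = 0 := by
    intro r hr
    by_contra hcon'
    push Not at hcon'
    have hle : (Submodule.span R {r}).annihilator ≤ P := fun d hd => by
      by_contra hdP
      exact hcon' d hdP (by simpa using (Submodule.mem_annihilator_span_singleton r d).1 hd)
    obtain ⟨p, hp, hpP⟩ := Ideal.exists_minimalPrimes_le hle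
    refine hc ⟨p, ⟨r, hp⟩, hpP⟩ (hp.1.2 ((Submodule.mem_annihilator_span_singleton _ _).2 ?_))
    exact congrFun (LinearMap.mem_ker.1 hr) ⟨p, ⟨r, hp⟩, hpP⟩
  obtain ⟨y, hy⟩ : ∃ y : M ⊗[R] LinearMap.ker φ, (LinearMap.ker φ).subtype.lTensor M y = x ⊗ₜ 1 := by
    refine (Module.Flat.lTensor_exact M (LinearMap.exact_subtype_ker_map φ) _).1 ?_
    apply (TensorProduct.piScalarRight R R M ι).injective
    funext i
    simp [φ, hcx i]
  have key : ∀ y : M ⊗[R] LinearMap.ker φ,
      ∃ d ∉ P, d • TensorProduct.rid R M ((LinearMap.ker φ).subtype.lTensor M y) = 0 := by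
    intro y
    induction y using TensorProduct.induction_on with
    | zero => exact ⟨1, fun h => (‹P.IsPrime›).ne_top ((Ideal.eq_top_iff_one P).2 h), by simp⟩
    | tmul m r =>
      obtain ⟨d, hd, hdr⟩ := hker r.1 r.2
      exact ⟨d, hd, by simp [smul_smul, hdr]⟩
    | add a b ha hb =>
      obtain ⟨d, hd, h1⟩ := ha
      obtain ⟨e, he, h2⟩ := hb
      refine ⟨d * e, ‹P.IsPrime›.mul_notMem hd he, ?_⟩
      rw [map_add, map_add, smul_add, mul_comm, mul_smul, h1, smul_zero, zero_add, mul_comm, mul_smul, h2, smul_zero]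
  obtain ⟨d, hd, hdy⟩ := key y
  rw [hy, TensorProduct.rid_tmul, one_smul] at hdy
  exact hx (hP d hd x hdy)

/-- sections of a module flat near `D(U)` are detected at finitely many points -/
theorem exists_assPt {R S : Type u} [CommRing R] [CommRing S] [Algebra R S] [Algebra.FiniteType R S]
    (hR : (FlatCA.weakAss R R).Finite) (N : Type u) [AddCommGroup N] [Module S N] [Module R N]
    [IsScalarTower R S N] [Module.Finite S N] (U : Submonoid S)
    (hflat : ∀ (σ : Ideal S) [σ.IsPrime], Disjoint (σ : Set S) (U : Set S) → Module.Flat R (LocalizedModule σ.primeCompl N))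
    (x : N) (hx : ∀ u ∈ U, u • x ≠ 0) :
    ∃ (p : Ideal R) (_ : p.IsPrime) (σ : Ideal S), p ∈ FlatCA.weakAss R R ∧ σ ∈ assPts R S N p ∧
      Disjoint (σ : Set S) (U : Set S) ∧ ∀ t ∉ σ, t • x ≠ 0 := by
  classical
  let 𝔞 : Ideal S := LinearMap.ker (LinearMap.toSpanSingleton S N x)
  have aux : ∀ (V : Submonoid S), Disjoint (𝔞 : Set S) (V : Set S) → U ≤ V →
      ∃ (Q : Ideal S) (p' : Ideal R), Q.IsPrime ∧ Disjoint (Q : Set S) (V : Set S) ∧
        p' ∈ FlatCA.weakAss R R ∧ p' ≤ Q.comap (algebraMap R S) ∧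
        (∀ u ∈ U, ∀ c ∉ p', (algebraMap R S c * u) • x ≠ 0) ∧ ∀ t ∉ Q, t • x ≠ 0 := by
    intro V hV hUV
    obtain ⟨Q, hQ, hle, hd⟩ := Ideal.exists_le_prime_disjoint _ _ hV
    haveI := hQ
    have hxQ : ∀ t ∉ Q, t • x ≠ 0 := fun t ht h => ht (hle h)
    haveI := hflat Q (hd.mono_right hUV)
    let P := Q.comap (algebraMap R S)
    obtain ⟨p', hp', hp'P, hp'x⟩ := exists_weakAss_ne_zero hR P
      (fun c hc (m : LocalizedModule Q.primeCompl N) hm => by
        rw [← algebraMap_smul S c m] at hm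
        exact (IsLocalizedModule.map_units (LocalizedModule.mkLinearMap Q.primeCompl N)
          (⟨algebraMap R S c, hc⟩ : Q.primeCompl) |> fun h => ((Module.End.isUnit_iff _).1 h).1
            (show algebraMap R S c • m = algebraMap R S c • (0 : LocalizedModule Q.primeCompl N) from
              hm.trans (smul_zero _).symm)))
      (LocalizedModule.mk x (1 : Q.primeCompl)) fun h => by
        obtain ⟨⟨t, ht⟩, htx⟩ := (IsLocalizedModule.eq_zero_iff Q.primeCompl
          (LocalizedModule.mkLinearMap Q.primeCompl N)).1 h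
        exact hxQ t ht htx
    refine ⟨Q, p', hQ, hd, hp', hp'P, fun u hu c hc h => ?_, hxQ⟩
    have huQ : u ∉ Q := fun h' => Set.disjoint_left.1 hd h' (hUV hu)
    refine hp'x c hc ((IsLocalizedModule.map_units (LocalizedModule.mkLinearMap Q.primeCompl N)
      (⟨u, huQ⟩ : Q.primeCompl) |> fun h' => ((Module.End.isUnit_iff _).1 h').1) ?_)
    change u • c • LocalizedModule.mk x (1 : Q.primeCompl) = u • (0 : LocalizedModule Q.primeCompl N)
    rw [smul_zero, ← algebraMap_smul S c, smul_smul, mul_comm, LocalizedModule.smul'_mk, h, LocalizedModule.zero_mk]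
  let P : Set (Ideal R) := {p | p ∈ FlatCA.weakAss R R ∧ ∀ u ∈ U, ∀ c ∉ p, (algebraMap R S c * u) • x ≠ 0}
  obtain ⟨Q₀, p₀, -, -, hp₀, -, hp₀x, -⟩ :=
    aux U (Set.disjoint_left.2 fun u hu hu' => hx u hu' hu) le_rfl
  obtain ⟨p, hp⟩ := (hR.subset fun p (h : p ∈ P) => h.1).exists_minimal ⟨p₀, hp₀, hp₀x⟩
  obtain ⟨m, hm⟩ := hp.prop.1
  haveI hpp : p.IsPrime := hm.1.1
  obtain ⟨Q, p', hQ, hd, hp', hp'Q, hp'x, hxQ⟩ := aux (U ⊔ p.primeCompl.map (algebraMap R S)) (by
    rw [Set.disjoint_left]
    intro y hy hy'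
    obtain ⟨u, hu, _, ⟨c, hc, rfl⟩, rfl⟩ := Submonoid.mem_sup.1 hy'
    exact hp.prop.2 u hu c hc (by rw [mul_comm]; exact hy)) le_sup_left
  haveI := hQ
  have hQp : Q.comap (algebraMap R S) ≤ p := fun c hc => by
    by_contra hcp
    exact Set.disjoint_left.1 hd hc (Submonoid.mem_sup_right ⟨c, hcp, rfl⟩)
  have hdU : Disjoint (Q : Set S) (U : Set S) := hd.mono_right (le_sup_left (a := U))
  have hpp' : p ≤ p' := hp.le_of_le ⟨hp', hp'x⟩ (hp'Q.trans hQp)
  obtain ⟨σ, hσ, hσQ, hσx⟩ := exists_assPts_le R S p Q (le_antisymm hQp (hpp'.trans hp'Q))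
    (fun σ _ hσ => hflat σ (hdU.mono_left hσ)) x hxQ
  exact ⟨p, hpp, σ, hp.prop.1, hσ, hdU.mono_left hσQ, hσx⟩

end Groth.Agent.RG
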