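import Groth.Agent.RG.Eft
import Groth.Agent.RG.AssPts
import Groth.Agent.InjFibre.Loc
import Mathlib.RingTheory.Localization.BaseChange

/-!
# Universal injectivity of maps which are injective on all fibres
-/

set_option autoImplicit false
set_option linter.style.haveILetI false
set_option backward.isDefEq.respectTransparency false

universe u

open TensorProduct

namespace Groth.Agent.RG

theorem HasSocle.of_equiv {A X Y : Type u} [CommRing A] [IsLocalRing A] [AddCommGroup X] [Module A X]
    [AddCommGroup Y] [Module A Y] (e : X ≃ₗ[A] Y) (h : HasSocle A Y) : HasSocle A X := by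
  intro Q _ _ z hz hmin
  refine h Q (e.rTensor Q z) (fun h0 => hz ((e.rTensor Q).injective (h0.trans (map_zero _).symm))) fun W' hW' => ?_
  change W'.mkQ.lTensor Y (e.toLinearMap.rTensor Q z) = 0
  rw [← LinearMap.comp_apply, LinearMap.lTensor_comp_rTensor, ← LinearMap.rTensor_comp_lTensor, LinearMap.comp_apply,
    hmin W' hW', map_zero]

theorem localized_socle {A S : Type u} [CommRing A] [IsLocalRing A] [CommRing S] [Algebra A S]
    [Algebra.FinitePresentation A S] (q : Ideal S) [q.IsPrime] [q.LiesOver (IsLocalRing.maximalIdeal A)]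
    (N : Type u) [AddCommGroup N] [Module (Localization.AtPrime q) N] [Module A N]
    [IsScalarTower A (Localization.AtPrime q) N] [Module.Finite (Localization.AtPrime q) N] [Module.Flat A N] :
    HasSocle A N := by
  haveI := (localized_main q N (LinearMap.id : N →ₗ[A] N) fun _ h => h).2.1
  obtain ⟨M₀, _, _, _, _, _, ⟨e⟩⟩ := exists_localized_model (A := A) q N
  haveI : Module.Flat A (LocalizedModule q.primeCompl M₀) := Module.Flat.of_linearEquiv e
  exact ((main_socle q M₀ LinearMap.id fun _ h => h).2).of_equiv e.symm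

/-- finite flat modules over a local algebra essentially of finite type have the socle property -/
theorem eft_socle {A B : Type u} [CommRing A] [IsLocalRing A] [CommRing B] [IsLocalRing B] [Algebra A B]
    [IsLocalHom (algebraMap A B)] [Algebra.EssFiniteType A B] (N : Type u) [AddCommGroup N] [Module B N] [Module A N]
    [IsScalarTower A B N] [Module.Finite B N] [Module.Flat A N] : HasSocle A N := by
  obtain ⟨n, q, _, _, g, hg⟩ := exists_presentation A B
  letI := g.toRingHom.toAlgebra
  letI : Module (Localization.AtPrime q) N := Module.compHom N g.toRingHom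
  haveI : IsScalarTower (Localization.AtPrime q) B N := IsScalarTower.of_algebraMap_smul fun _ _ => rfl
  haveI : IsScalarTower A (Localization.AtPrime q) N := IsScalarTower.of_algebraMap_smul fun a x => by
    change g (algebraMap A _ a) • x = _
    rw [AlgHom.commutes, algebraMap_smul]
  haveI : Module.Finite (Localization.AtPrime q) B :=
    Module.Finite.of_surjective (Algebra.linearMap (Localization.AtPrime q) B) hg
  haveI : Module.Finite (Localization.AtPrime q) N := Module.Finite.trans B N
  exact localized_socle q N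

/-- Zorn reduction of a kernel element -/
theorem exists_minimal_kernel {A X M Q : Type u} [CommRing A] [AddCommGroup X] [Module A X] [AddCommGroup M]
    [Module A M] [AddCommGroup Q] [Module A Q] (u : X →ₗ[A] M) (z₀ : X ⊗[A] Q) (hz₀ : u.rTensor Q z₀ = 0)
    (hne : z₀ ≠ 0) :
    ∃ (W : Submodule A Q) (z : X ⊗[A] (Q ⧸ W)), z ≠ 0 ∧ u.rTensor (Q ⧸ W) z = 0 ∧
      ∀ W' : Submodule A (Q ⧸ W), W' ≠ ⊥ → W'.mkQ.lTensor X z = 0 := by
  obtain ⟨W, hzW, hWmax⟩ := exists_maximal_survive z₀ hne
  refine ⟨W, W.mkQ.lTensor X z₀, hzW, ?_, fun W' hW' => ?_⟩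
  · rw [← LinearMap.comp_apply, LinearMap.rTensor_comp_lTensor, ← LinearMap.lTensor_comp_rTensor,
      LinearMap.comp_apply, hz₀, map_zero]
  · let W'' := W'.comap W.mkQ
    have hlt : W < W'' := by
      refine lt_of_le_of_ne (Submodule.le_comap_mkQ W W') fun h => hW' ?_
      rw [← Submodule.map_comap_eq_of_surjective (Submodule.mkQ_surjective W) W']
      change Submodule.map W.mkQ W'' = ⊥
      rw [← h, Submodule.mkQ_map_self]
    let p : Q ⧸ W'' →ₗ[A] (Q ⧸ W) ⧸ W' := W''.mapQ W' W.mkQ le_rfl
    have := congrArg (p.lTensor X) (hWmax W'' hlt)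
    rw [map_zero, ← LinearMap.lTensor_comp_apply] at this
    rw [← LinearMap.lTensor_comp_apply]
    exact this

/-- the socle property localised at the prime of all zero divisors -/
theorem exists_killed_at {A L : Type u} [CommRing A] [CommRing L] [Algebra A L] [Algebra.EssFiniteType A L]
    {N : Type u} [AddCommGroup N] [Module L N] [Module A N] [IsScalarTower A L N] [Module.Finite L N] [Module.Flat A N]
    {Q : Type u} [AddCommGroup Q] [Module A Q] (z : N ⊗[A] Q) (σ : Ideal L) [σ.IsPrime]
    (hσ : ∀ t ∉ σ, t • z ≠ 0) (hinj : ∀ a ∉ σ.comap (algebraMap A L), ∀ q : Q, a • q = 0 → q = 0)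
    (hmin : ∀ W' : Submodule A Q, W' ≠ ⊥ → W'.mkQ.lTensor N z = 0) :
    ∃ q : Q, q ≠ 0 ∧ ∀ a ∈ σ.comap (algebraMap A L), a • q = 0 := by
  let P := σ.comap (algebraMap A L)
  let A' := Localization.AtPrime P
  let B' := Localization.AtPrime σ
  let X := LocalizedModule σ.primeCompl N
  letI : Algebra A' B' := (Localization.localRingHom P σ (algebraMap A L) rfl).toAlgebra
  haveI : IsScalarTower A A' B' := IsScalarTower.of_algebraMap_eq fun r => by
    rw [RingHom.algebraMap_toAlgebra, Localization.localRingHom_to_map, IsScalarTower.algebraMap_apply A L B']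
  haveI : IsLocalHom (algebraMap A' B') := Localization.isLocalHom_localRingHom P σ (algebraMap A L) rfl
  haveI : Algebra.EssFiniteType L B' := Algebra.EssFiniteType.of_isLocalization B' σ.primeCompl
  haveI : Algebra.EssFiniteType A B' := Algebra.EssFiniteType.comp A L B'
  haveI : Algebra.EssFiniteType A' B' := Algebra.EssFiniteType.of_comp A A' B'
  letI : Module A' X := Module.compHom X (algebraMap A' B')
  haveI : IsScalarTower A' B' X := IsScalarTower.of_algebraMap_smul fun _ _ => rfl
  haveI : IsScalarTower A A' X := IsScalarTower.of_algebraMap_smul fun r x => by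
    change algebraMap A' B' (algebraMap A A' r) • x = r • x
    rw [← IsScalarTower.algebraMap_apply, algebraMap_smul]
  haveI : Module.Finite B' X := Module.Finite.of_isLocalizedModule σ.primeCompl (LocalizedModule.mkLinearMap _ N)
  haveI : Module.Flat A X := InjFibre.flat_localized σ.primeCompl (LocalizedModule.mkLinearMap σ.primeCompl N)
  haveI : Module.Flat A' X := (Module.flat_iff_of_isLocalization A' P.primeCompl X).2 inferInstance
  let Q' := LocalizedModule P.primeCompl Q
  let ι : Q →ₗ[A] Q' := LocalizedModule.mkLinearMap P.primeCompl Q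
  have hι : Function.Injective ι := (injective_iff_map_eq_zero ι).2 fun q hq => by
    obtain ⟨⟨c, hc⟩, hcq⟩ := (IsLocalizedModule.eq_zero_iff P.primeCompl ι).1 hq
    exact hinj c hc q hcq
  let e : X ⊗[A'] Q' ≃ₗ[A'] X ⊗[A] Q' := IsLocalization.moduleTensorEquiv P.primeCompl A' X Q'
  let jX : N →ₗ[A] X := (LocalizedModule.mkLinearMap σ.primeCompl N).restrictScalars A
  let zX : X ⊗[A] Q' := ι.lTensor X (jX.rTensor Q z)
  have hzX : zX ≠ 0 := by
    intro h0
    have h1 := Module.Flat.lTensor_preserves_injective_linearMap (M := X) ι hι (h0.trans (map_zero _).symm)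
    obtain ⟨⟨t, ht⟩, htz⟩ := (IsLocalizedModule.eq_zero_iff σ.primeCompl
      (AlgebraTensorModule.rTensor A Q (LocalizedModule.mkLinearMap σ.primeCompl N))).1
      (show AlgebraTensorModule.rTensor A Q (LocalizedModule.mkLinearMap σ.primeCompl N) z = 0 from h1)
    exact hσ t ht htz
  obtain ⟨q', hq', hkill⟩ := eft_socle (A := A') (B := B') X Q' (e.symm zX)
    (fun h => hzX (e.symm.injective (h.trans (map_zero _).symm))) fun W' hW' => by
      let W₀ : Submodule A Q := (W'.restrictScalars A).comap ι
      have hW₀ : W₀ ≠ ⊥ := by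
        obtain ⟨y, hy, hy0⟩ := (Submodule.ne_bot_iff W').1 hW'
        obtain ⟨q, s, rfl⟩ := exists_mk y
        refine (Submodule.ne_bot_iff W₀).2 ⟨q, ?_, fun h => hy0 (by rw [h, LocalizedModule.zero_mk])⟩
        change LocalizedModule.mk q 1 ∈ W'
        have : LocalizedModule.mk q (1 : P.primeCompl) = algebraMap A A' (s : A) • LocalizedModule.mk q s := by
          rw [algebraMap_smul, LocalizedModule.smul'_mk, ← Submonoid.smul_def, LocalizedModule.mk_cancel]
        rw [this]
        exact W'.smul_mem _ hy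
      let ιb : (Q ⧸ W₀) →ₗ[A] Q' ⧸ W' := W₀.liftQ (W'.mkQ.restrictScalars A ∘ₗ ι) fun y hy => by
        change W'.mkQ (ι y) = 0
        exact (Submodule.Quotient.mk_eq_zero W').2 hy
      let e' : X ⊗[A'] (Q' ⧸ W') ≃ₗ[A'] X ⊗[A] (Q' ⧸ W') := IsLocalization.moduleTensorEquiv P.primeCompl A' X (Q' ⧸ W')
      have hnat : ∀ y : X ⊗[A'] Q', e' (W'.mkQ.lTensor X y) = (W'.mkQ.restrictScalars A).lTensor X (e y) := by
        intro y
        induction y using TensorProduct.induction_on with
        | zero => simp
        | tmul x q => simp [e, e', IsLocalization.moduleTensorEquiv, equivOfCompatibleSMul]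
        | add a b ha hb => simp only [map_add, ha, hb]
      apply e'.injective
      rw [hnat, e.apply_symm_apply, map_zero]
      have h2 : (W'.mkQ.restrictScalars A).lTensor X zX = ιb.lTensor X (jX.rTensor _ (W₀.mkQ.lTensor N z)) := by
        rw [← LinearMap.comp_apply (jX.rTensor _) (W₀.mkQ.lTensor N), LinearMap.rTensor_comp_lTensor,
          ← LinearMap.lTensor_comp_rTensor, LinearMap.comp_apply, ← LinearMap.lTensor_comp_apply,
          ← LinearMap.lTensor_comp_apply]
        rfl
      rw [h2, hmin W₀ hW₀, map_zero, map_zero]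
  obtain ⟨q, s, rfl⟩ := exists_mk q'
  refine ⟨q, fun h => hq' (by rw [h, LocalizedModule.zero_mk]), fun a ha => hι ?_⟩
  rw [map_zero]
  change LocalizedModule.mk (a • q) (1 : P.primeCompl) = 0
  have h3 : algebraMap A A' a • LocalizedModule.mk q s = (0 : Q') :=
    hkill _ ((IsLocalization.AtPrime.to_map_mem_maximal_iff A' P a).2 ha)
  rw [algebraMap_smul, LocalizedModule.smul'_mk] at h3
  rw [← LocalizedModule.mk_cancel (s := s) (m := a • q), Submonoid.smul_def, ← LocalizedModule.smul'_mk, h3, smul_zero]

/-- a map from a finite flat module over an algebra essentially of finite type which is injective on all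
fibres is universally injective -/
theorem rTensor_injective_of_fibres {A L : Type u} [CommRing A] [CommRing L] [Algebra A L] [Algebra.EssFiniteType A L]
    {N : Type u} [AddCommGroup N] [Module L N] [Module A N] [IsScalarTower A L N] [Module.Finite L N] [Module.Flat A N]
    {M : Type u} [AddCommGroup M] [Module A M] [Module.Flat A M] (u : N →ₗ[A] M)
    (h : ∀ (p : Ideal A) [p.IsPrime], Function.Injective (u.lTensor p.ResidueField))
    (Q₀ : Type u) [AddCommGroup Q₀] [Module A Q₀] : Function.Injective (u.rTensor Q₀) := by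
  classical
  rw [injective_iff_map_eq_zero]
  intro z₀ hz₀
  by_contra hne
  obtain ⟨W, z, hz, huz, hmin⟩ := exists_minimal_kernel u z₀ hz₀ hne
  let Q := Q₀ ⧸ W
  let P : Ideal A := LinearMap.ker (LinearMap.toSpanSingleton A _ z)
  have hPmem : ∀ a, a ∈ P ↔ a • z = 0 := fun a => Iff.rfl
  have hdec : ∀ q : Q, q ≠ 0 → ∃ n : N, n ⊗ₜ[A] q = z := fun q hq => by
    obtain ⟨y, hy⟩ := (lTensor_exact N (LinearMap.exact_subtype_mkQ (Submodule.span A {q}))
      (Submodule.mkQ_surjective _) z).1 (hmin _ fun h => hq ((Submodule.span_singleton_eq_bot).1 h))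
    obtain ⟨n, hn⟩ := exists_tmul_of_mem_span q y
    exact ⟨n, hn.trans hy⟩
  have hdivP : ∀ (a : A) (q : Q), a • q = 0 → q ≠ 0 → a ∈ P := by
    intro a q h hq
    obtain ⟨n, hn⟩ := hdec q hq
    rw [hPmem, ← hn, ← tmul_smul, h, tmul_zero]
  have hinj : ∀ a ∉ P, ∀ q : Q, a • q = 0 → q = 0 := fun a ha q h => by
    by_contra hq
    exact ha (hdivP a q h hq)
  have hinjN : ∀ a ∉ P, ∀ y : N ⊗[A] Q, a • y = 0 → y = 0 := by
    intro a ha y hy
    refine Module.Flat.lTensor_preserves_injective_linearMap (M := N) (LinearMap.lsmul A Q a)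
      ((injective_iff_map_eq_zero _).2 fun q h => hinj a ha q h) ?_
    rw [map_zero]
    refine (?_ : _ = a • y).trans hy
    clear hy
    induction y using TensorProduct.induction_on with
    | zero => simp
    | tmul n q => simp
    | add x y hx hy => rw [map_add, smul_add, hx, hy]
  haveI hPp : P.IsPrime := by
    refine ⟨fun h => hz ?_, fun {a b} hab => ?_⟩
    · simpa using (hPmem 1).1 (h ▸ trivial)
    · by_contra hcon
      push Not at hcon
      refine hcon.2 ((hPmem b).2 (hinjN a hcon.1 _ ?_))
      rw [smul_smul]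
      exact (hPmem _).1 hab
  let 𝔞 : Ideal L := LinearMap.ker (LinearMap.toSpanSingleton L _ z)
  have hd : Disjoint (𝔞 : Set L) ((P.primeCompl.map (algebraMap A L) : Submonoid L) : Set L) := by
    rw [Set.disjoint_left]
    rintro _ hmem ⟨a, ha, rfl⟩
    refine hz (hinjN a ha z ?_)
    rw [← algebraMap_smul L a z]
    exact hmem
  obtain ⟨σ, hσp, hσle, hσd⟩ := Ideal.exists_le_prime_disjoint _ _ hd
  haveI := hσp
  have hcomap : σ.comap (algebraMap A L) = P := by
    refine le_antisymm (fun a ha => ?_) fun a ha => hσle ?_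
    · by_contra hap
      exact Set.disjoint_left.1 hσd ha ⟨a, hap, rfl⟩
    · change algebraMap A L a • z = 0
      rw [algebraMap_smul]
      exact (hPmem a).1 ha
  obtain ⟨q, hq, hPq⟩ := exists_killed_at z σ (fun t ht h' => ht (hσle h'))
    (fun a ha => hinj a (hcomap ▸ ha)) hmin
  rw [hcomap] at hPq
  obtain ⟨n, hn⟩ := hdec q hq
  let g : (A ⧸ P) →ₗ[A] Q := Submodule.liftQ P (LinearMap.toSpanSingleton A Q q) fun a ha => hPq a ha
  have hg : Function.Injective g := LinearMap.ker_eq_bot.1 (Submodule.ker_liftQ_eq_bot _ _ _ fun a ha => hdivP a q ha hq)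
  have hun : u n ⊗ₜ[A] (Ideal.Quotient.mk P 1) = (0 : M ⊗[A] (A ⧸ P)) := by
    apply Module.Flat.lTensor_preserves_injective_linearMap (M := M) g hg
    rw [map_zero, LinearMap.lTensor_tmul]
    change u n ⊗ₜ[A] ((1 : A) • q) = 0
    rw [one_smul, ← LinearMap.rTensor_tmul, hn, huz]
  have h1 : (1 : P.ResidueField) ⊗ₜ[A] u n = 0 := by
    have := congrArg ((Algebra.linearMap (A ⧸ P) P.ResidueField).restrictScalars A |>.lTensor M) hun
    rw [map_zero, LinearMap.lTensor_tmul] at this
    have h2 := congrArg (TensorProduct.comm A M P.ResidueField) this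
    simpa using h2
  have h3 : (1 : P.ResidueField) ⊗ₜ[A] n = 0 := h P ((LinearMap.lTensor_tmul _ _ _ _).trans (h1.trans (map_zero _).symm))
  obtain ⟨c, hc, hcn⟩ := (one_tmul_eq_zero_iff P n).1 h3
  refine hz (hinjN c hc z ?_)
  rw [← hn, smul_tmul']
  refine Submodule.smul_induction_on hcn (fun a ha x _ => ?_) fun x y hx hy => ?_
  · rw [smul_tmul, hPq a ha, tmul_zero]
  · rw [add_tmul, hx, hy, add_zero]

end Groth.Agent.RG
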