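import Groth.Agent.RG.Main
import Groth.Agent.FibCrit.EssFP
import Mathlib.RingTheory.EssentialFiniteness

/-!
# Raynaud–Gruson for algebras essentially of finite type
-/

set_option autoImplicit false
set_option linter.style.haveILetI false
set_option backward.isDefEq.respectTransparency false

universe u

open TensorProduct

namespace Groth.Agent.RG

local notation "𝔪" => IsLocalRing.maximalIdeal

/-- the fibre of a local ring of a finite type algebra is Noetherian -/
theorem isNoetherian_fibre {A S : Type u} [CommRing A] [IsLocalRing A] [CommRing S] [Algebra A S]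
    [Algebra.FiniteType A S] (q : Ideal S) [q.IsPrime] :
    IsNoetherian (Localization.AtPrime q)
      (Localization.AtPrime q ⧸ (𝔪 A).map (algebraMap A (Localization.AtPrime q))) := by
  let R := Localization.AtPrime q
  let I := (𝔪 A).map (algebraMap A R)
  let I₀ := (𝔪 A).map (algebraMap A S)
  letI := Ideal.Quotient.field (𝔪 A)
  haveI : Algebra.FiniteType (A ⧸ 𝔪 A) (S ⧸ I₀) := Algebra.FiniteType.of_restrictScalars_finiteType A _ _
  haveI : IsNoetherianRing (S ⧸ I₀) := Algebra.FiniteType.isNoetherianRing (A ⧸ 𝔪 A) _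
  have e : I₀.map (algebraMap S R) = I := by
    rw [Ideal.map_map, ← IsScalarTower.algebraMap_eq]
  haveI : IsNoetherianRing (R ⧸ I₀.map (algebraMap S R)) :=
    IsLocalization.isNoetherianRing (Algebra.algebraMapSubmonoid (S ⧸ I₀) q.primeCompl) _ inferInstance
  haveI : IsNoetherianRing (R ⧸ I) := e ▸ this
  let l : (R ⧸ I) →ₛₗ[Ideal.Quotient.mk I] (R ⧸ I) :=
    { toFun := id
      map_add' := fun _ _ => rfl
      map_smul' := fun r x => Algebra.smul_def r x }
  haveI : RingHomSurjective (Ideal.Quotient.mk I) := ⟨Ideal.Quotient.mk_surjective⟩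
  exact (l.isNoetherian_iff_of_bijective Function.bijective_id).2 inferInstance

/-- a finite module agrees modulo `m` with a finitely presented one -/
theorem exists_fp_cover {A S : Type u} [CommRing A] [IsLocalRing A] [CommRing S] [Algebra A S]
    [Algebra.FiniteType A S] (q : Ideal S) [q.IsPrime] {N : Type u} [AddCommGroup N]
    [Module (Localization.AtPrime q) N] [Module A N] [IsScalarTower A (Localization.AtPrime q) N]
    [Module.Finite (Localization.AtPrime q) N] :
    ∃ (r : ℕ) (K : Submodule (Localization.AtPrime q) (Fin r → Localization.AtPrime q))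
      (π : ((Fin r → Localization.AtPrime q) ⧸ K) →ₗ[Localization.AtPrime q] N), K.FG ∧ Function.Surjective π ∧
      ∀ x, π x ∈ 𝔪 A • (⊤ : Submodule A N) →
        x ∈ 𝔪 A • (⊤ : Submodule A ((Fin r → Localization.AtPrime q) ⧸ K)) := by
  let R := Localization.AtPrime q
  let I := (𝔪 A).map (algebraMap A R)
  obtain ⟨r, φ, hφ⟩ := Module.Finite.exists_fin' R N
  haveI : IsNoetherian R (R ⧸ I) := isNoetherian_fibre q
  let p : (Fin r → R) →ₗ[R] (Fin r → R ⧸ I) := LinearMap.pi fun i => I.mkQ ∘ₗ LinearMap.proj i
  obtain ⟨s, hs⟩ := ((LinearMap.ker φ).map p).fg_iff_exists_fin_generating_family.1 (IsNoetherian.noetherian _)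
  obtain ⟨v, hv⟩ := hs
  have hv' : ∀ i, ∃ k ∈ LinearMap.ker φ, p k = v i := fun i =>
    (hv ▸ Submodule.subset_span ⟨i, rfl⟩ : v i ∈ (LinearMap.ker φ).map p)
  choose k hk hkv using hv'
  let K := Submodule.span R (Set.range k)
  refine ⟨r, K, K.liftQ φ (Submodule.span_le.2 (by rintro _ ⟨i, rfl⟩; exact hk i)), Submodule.fg_span (Set.finite_range k),
    fun n => ?_, fun x hx => ?_⟩
  · obtain ⟨x, rfl⟩ := hφ n
    exact ⟨K.mkQ x, rfl⟩
  obtain ⟨x, rfl⟩ := Submodule.mkQ_surjective K x
  rw [Submodule.mkQ_apply, Submodule.liftQ_apply] at hx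
  -- write `φ x = φ x'` with `x' ∈ m (Rʳ)`
  obtain ⟨x', hx', hxx'⟩ : ∃ x' ∈ 𝔪 A • (⊤ : Submodule A (Fin r → R)), φ x' = φ x := by
    refine Submodule.smul_induction_on hx (fun a ha n _ => ?_) fun n n' hn hn' => ?_
    · obtain ⟨y, rfl⟩ := hφ n
      exact ⟨a • y, Submodule.smul_mem_smul ha trivial, by rw [LinearMap.map_smul_of_tower]⟩
    · obtain ⟨y, hy, rfl⟩ := hn
      obtain ⟨y', hy', rfl⟩ := hn'
      exact ⟨y + y', add_mem hy hy', map_add _ _ _⟩
  have hker : x - x' ∈ LinearMap.ker φ := by rw [LinearMap.mem_ker, map_sub, hxx', sub_self]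
  have hp : p (x - x') ∈ K.map p := by
    refine (Submodule.map_span p _).ge (?_ : p (x - x') ∈ Submodule.span R (p '' Set.range k))
    rw [← Set.range_comp, show p ∘ k = v from funext hkv, hv]
    exact Submodule.mem_map_of_mem hker
  obtain ⟨y, hy, hyp⟩ := hp
  have hm : x - x' - y ∈ 𝔪 A • (⊤ : Submodule A (Fin r → R)) := by
    rw [← Finset.univ_sum_single (x - x' - y)]
    refine Submodule.sum_mem _ fun i _ => ?_
    have hi : (x - x' - y) i ∈ I := by
      have h0 : p (x - x' - y) = 0 := by rw [map_sub, hyp, sub_self]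
      exact (Submodule.Quotient.mk_eq_zero I).1 (congrFun h0 i)
    have hI : (x - x' - y) i ∈ 𝔪 A • (⊤ : Submodule A R) := by
      rw [Ideal.smul_top_eq_map]
      exact hi
    have := Submodule.mem_map_of_mem (f := LinearMap.single A (fun _ : Fin r => R) i) hI
    rw [Submodule.map_smul''] at this
    exact Submodule.smul_mono le_rfl le_top this
  rw [Submodule.mkQ_apply, show x = (x - x' - y) + x' + y by abel, Submodule.Quotient.mk_add,
    (Submodule.Quotient.mk_eq_zero K).2 hy, add_zero]
  have := Submodule.mem_map_of_mem (f := K.mkQ.restrictScalars A) (add_mem hm hx')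
  rw [Submodule.map_smul''] at this
  exact Submodule.smul_mono le_rfl le_top this

/-- finitely presented modules over a localization are localizations -/
theorem exists_localized_model {A S : Type u} [CommRing A] [CommRing S] [Algebra A S] (q : Ideal S) [q.IsPrime]
    (N : Type u) [AddCommGroup N] [Module (Localization.AtPrime q) N] [Module A N]
    [IsScalarTower A (Localization.AtPrime q) N] [Module.FinitePresentation (Localization.AtPrime q) N] :
    ∃ (M₀ : Type u) (_ : AddCommGroup M₀) (_ : Module S M₀) (_ : Module A M₀) (_ : IsScalarTower A S M₀),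
      Module.FinitePresentation S M₀ ∧ Nonempty (LocalizedModule q.primeCompl M₀ ≃ₗ[A] N) := by
  obtain ⟨M₀, _, _, hfp, ⟨e⟩⟩ := FibCrit.exists_module_model (Q' := Localization.AtPrime q) q.primeCompl (M := N)
  letI : Module A M₀ := Module.compHom M₀ (algebraMap A S)
  haveI : IsScalarTower A S M₀ := IsScalarTower.of_algebraMap_smul fun _ _ => rfl
  exact ⟨M₀, inferInstance, inferInstance, inferInstance, inferInstance, hfp,
    ⟨((LocalizedModule.equivTensorProduct q.primeCompl M₀).trans e).restrictScalars A⟩⟩

/-- the main theorem for finite modules over a local ring of a finitely presented algebra -/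
theorem localized_main {A S : Type u} [CommRing A] [IsLocalRing A] [CommRing S] [Algebra A S]
    [Algebra.FinitePresentation A S] (q : Ideal S) [q.IsPrime] [q.LiesOver (𝔪 A)]
    (N : Type u) [AddCommGroup N] [Module (Localization.AtPrime q) N] [Module A N]
    [IsScalarTower A (Localization.AtPrime q) N] [Module.Finite (Localization.AtPrime q) N]
    {M : Type u} [AddCommGroup M] [Module A M] [Module.Flat A M] (u : N →ₗ[A] M)
    (hu : ∀ x, u x ∈ 𝔪 A • (⊤ : Submodule A M) → x ∈ 𝔪 A • (⊤ : Submodule A N)) :
    Module.Flat A N ∧ Module.FinitePresentation (Localization.AtPrime q) N ∧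
      ∀ (Q : Type u) [AddCommGroup Q] [Module A Q], Function.Injective (u.rTensor Q) := by
  obtain ⟨r, K, π, hK, hπ, hπm⟩ := exists_fp_cover (A := A) q (N := N)
  let X := (Fin r → Localization.AtPrime q) ⧸ K
  haveI : Module.FinitePresentation (Localization.AtPrime q) X :=
    Module.finitePresentation_of_surjective K.mkQ (Submodule.mkQ_surjective K) (by rwa [Submodule.ker_mkQ])
  obtain ⟨M₀, _, _, _, _, _, ⟨e⟩⟩ := exists_localized_model (A := A) q X
  let uS : LocalizedModule q.primeCompl M₀ →ₗ[A] M := u ∘ₗ π.restrictScalars A ∘ₗ e.toLinearMap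
  obtain ⟨hfl, hinj⟩ := main q M₀ uS fun x hx => by
    have h := hπm _ (hu _ hx)
    have := Submodule.mem_map_of_mem (f := e.symm.toLinearMap) h
    rw [Submodule.map_smul'', show e.symm.toLinearMap (e.toLinearMap x) = x from e.symm_apply_apply x] at this
    exact Submodule.smul_mono le_rfl le_top this
  have hinj' : Function.Injective uS := fun a b hab =>
    (TensorProduct.rid A _).symm.injective (hinj A (by simp [hab]))
  have hπi : Function.Injective π := fun a b hab => e.symm.injective (hinj'
    (show u (π (e (e.symm a))) = u (π (e (e.symm b))) by rw [e.apply_symm_apply, e.apply_symm_apply, hab]))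
  let eπ : X ≃ₗ[Localization.AtPrime q] N := LinearEquiv.ofBijective π ⟨hπi, hπ⟩
  haveI : Module.Flat A X := Module.Flat.of_linearEquiv e.symm
  refine ⟨Module.Flat.of_linearEquiv (eπ.restrictScalars A).symm, Module.FinitePresentation.of_equiv eπ,
    fun Q _ _ => ?_⟩
  let g : N →ₗ[A] LocalizedModule q.primeCompl M₀ := e.symm.toLinearMap ∘ₗ (eπ.symm.restrictScalars A).toLinearMap
  have hg : uS ∘ₗ g = u := LinearMap.ext fun n => by
    change u (π (e (e.symm (eπ.symm n)))) = u n
    rw [e.apply_symm_apply]
    exact congrArg u (eπ.apply_symm_apply n)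
  rw [← hg, LinearMap.rTensor_comp]
  exact (hinj Q).comp (((eπ.symm.restrictScalars A).trans e.symm).rTensor Q).injective

/-- contents for finite flat modules over henselian rings -/
theorem localized_ctn {A S : Type u} [CommRing A] [HenselianLocalRing A] [CommRing S] [Algebra A S]
    [Algebra.FinitePresentation A S] (q : Ideal S) [q.IsPrime] [q.LiesOver (𝔪 A)]
    (N : Type u) [AddCommGroup N] [Module (Localization.AtPrime q) N] [Module A N]
    [IsScalarTower A (Localization.AtPrime q) N] [Module.Finite (Localization.AtPrime q) N] [Module.Flat A N] :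
    Ctn A N := by
  haveI := (localized_main q N (LinearMap.id : N →ₗ[A] N) fun _ h => h).2.1
  obtain ⟨M₀, _, _, _, _, _, ⟨e⟩⟩ := exists_localized_model (A := A) q N
  haveI : Module.Flat A (LocalizedModule q.primeCompl M₀) := Module.Flat.of_linearEquiv e
  exact ((good_any q M₀ RelFlat.of_flat).2).of_equiv e.symm

/-- an algebra essentially of finite type is a quotient of a local ring of a polynomial ring -/
theorem exists_presentation (A B : Type u) [CommRing A] [IsLocalRing A] [CommRing B] [IsLocalRing B] [Algebra A B]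
    [IsLocalHom (algebraMap A B)] [Algebra.EssFiniteType A B] :
    ∃ (n : ℕ) (q : Ideal (MvPolynomial (Fin n) A)) (_ : q.IsPrime) (_ : q.LiesOver (𝔪 A))
      (g : Localization.AtPrime q →ₐ[A] B), Function.Surjective g := by
  let B₁ := Algebra.EssFiniteType.subalgebra A B
  obtain ⟨n, f, hf⟩ := Algebra.FiniteType.iff_quotient_mvPolynomial''.1 (inferInstance : Algebra.FiniteType A B₁)
  let F : MvPolynomial (Fin n) A →ₐ[A] B := (IsScalarTower.toAlgHom A B₁ B).comp f
  let q : Ideal (MvPolynomial (Fin n) A) := (𝔪 B).comap F.toRingHom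
  haveI : q.IsPrime := Ideal.IsPrime.comap _
  haveI : q.LiesOver (𝔪 A) := ⟨by
    ext a
    change a ∈ 𝔪 A ↔ F (algebraMap A _ a) ∈ 𝔪 B
    rw [AlgHom.commutes, IsLocalRing.mem_maximalIdeal, IsLocalRing.mem_maximalIdeal, map_mem_nonunits_iff]⟩
  have hu : ∀ y : q.primeCompl, IsUnit (F y) := fun y => IsLocalRing.notMem_maximalIdeal.1 y.2
  let g : Localization.AtPrime q →ₐ[A] B := IsLocalization.liftAlgHom (M := q.primeCompl) (f := F) hu
  refine ⟨n, q, inferInstance, inferInstance, g, fun b => ?_⟩
  obtain ⟨x, s, rfl⟩ := IsLocalization.exists_mk'_eq (Algebra.EssFiniteType.submonoid A B) b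
  obtain ⟨X, rfl⟩ := hf x
  obtain ⟨Y, hY⟩ := hf s.1
  have hYq : Y ∉ q := fun h => (IsLocalRing.mem_maximalIdeal _).1 h (by
    change IsUnit (algebraMap B₁ B (f Y))
    rw [hY]
    exact s.2)
  refine ⟨IsLocalization.mk' (Localization.AtPrime q) X (⟨Y, hYq⟩ : q.primeCompl), ?_⟩
  have hg : ∀ z, g (algebraMap _ _ z) = F z := fun z => IsLocalization.lift_eq _ z
  rw [eq_comm, IsLocalization.mk'_eq_iff_eq_mul]
  have := congrArg g (IsLocalization.mk'_spec (Localization.AtPrime q) X (⟨Y, hYq⟩ : q.primeCompl))
  rw [map_mul, hg, hg] at this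
  rw [← hY]
  exact this.symm

/-- finite presentation passes to a quotient ring -/
theorem fp_of_surjective {R B N : Type u} [CommRing R] [CommRing B] [Algebra R B]
    (hs : Function.Surjective (algebraMap R B)) [AddCommGroup N] [Module R N] [Module B N] [IsScalarTower R B N]
    [Module.FinitePresentation R N] : Module.FinitePresentation B N := by
  haveI : Module.FinitePresentation B (B ⊗[R] N) := inferInstance
  let l : B ⊗[R] N →ₗ[B] N := LinearMap.liftBaseChange B LinearMap.id
  have h1 : ∀ z : B ⊗[R] N, z = 1 ⊗ₜ l z := by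
    intro z
    induction z using TensorProduct.induction_on with
    | zero => simp
    | tmul b n =>
      obtain ⟨r, rfl⟩ := hs b
      simp [l, Algebra.algebraMap_eq_smul_one, smul_tmul]
    | add x y hx hy => rw [map_add, tmul_add, ← hx, ← hy]
  refine Module.FinitePresentation.of_equiv (LinearEquiv.ofBijective l ⟨fun x y h => ?_, fun n => ⟨1 ⊗ₜ n, by simp [l]⟩⟩)
  rw [h1 x, h1 y, h]

/-- Raynaud–Gruson for algebras essentially of finite type over a local ring -/
theorem eft_main {A B : Type u} [CommRing A] [IsLocalRing A] [CommRing B] [IsLocalRing B] [Algebra A B]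
    [IsLocalHom (algebraMap A B)] [Algebra.EssFiniteType A B] (N : Type u) [AddCommGroup N] [Module B N] [Module A N]
    [IsScalarTower A B N] [Module.Finite B N] {M : Type u} [AddCommGroup M] [Module A M] [Module.Flat A M]
    (u : N →ₗ[A] M) (hu : ∀ x, u x ∈ 𝔪 A • (⊤ : Submodule A M) → x ∈ 𝔪 A • (⊤ : Submodule A N)) :
    Module.Flat A N ∧ Module.FinitePresentation B N ∧
      ∀ (Q : Type u) [AddCommGroup Q] [Module A Q], Function.Injective (u.rTensor Q) := by
  obtain ⟨n, q, _, _, g, hg⟩ := exists_presentation A B
  letI := g.toRingHom.toAlgebra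
  letI : Module (Localization.AtPrime q) N := Module.compHom N g.toRingHom
  haveI : IsScalarTower (Localization.AtPrime q) B N := IsScalarTower.of_algebraMap_smul fun _ _ => rfl
  haveI : IsScalarTower A (Localization.AtPrime q) N := IsScalarTower.of_algebraMap_smul fun a x => by
    change g (algebraMap A _ a) • x = _
    rw [AlgHom.commutes, algebraMap_smul]
  haveI : Module.Finite (Localization.AtPrime q) B :=
    Module.Finite.of_surjective (Algebra.linearMap (Localization.AtPrime q) B) hg
  haveI : Module.Finite (Localization.AtPrime q) N := Module.Finite.trans B N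
  obtain ⟨h1, h2, h3⟩ := localized_main q N u hu
  exact ⟨h1, fp_of_surjective (R := Localization.AtPrime q) hg, h3⟩

/-- finite flat modules over algebras essentially of finite type over a henselian ring have contents -/
theorem eft_ctn {A B : Type u} [CommRing A] [HenselianLocalRing A] [CommRing B] [IsLocalRing B] [Algebra A B]
    [IsLocalHom (algebraMap A B)] [Algebra.EssFiniteType A B] (N : Type u) [AddCommGroup N] [Module B N] [Module A N]
    [IsScalarTower A B N] [Module.Finite B N] [Module.Flat A N] : Ctn A N := by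
  obtain ⟨n, q, _, _, g, hg⟩ := exists_presentation A B
  letI := g.toRingHom.toAlgebra
  letI : Module (Localization.AtPrime q) N := Module.compHom N g.toRingHom
  haveI : IsScalarTower (Localization.AtPrime q) B N := IsScalarTower.of_algebraMap_smul fun _ _ => rfl
  haveI : IsScalarTower A (Localization.AtPrime q) N := IsScalarTower.of_algebraMap_smul fun a x => by
    change g (algebraMap A _ a) • x = _
    rw [AlgHom.commutes, algebraMap_smul]
  haveI : Module.Finite (Localization.AtPrime q) B :=
    Module.Finite.of_surjective (Algebra.linearMap (Localization.AtPrime q) B) hg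
  haveI : Module.Finite (Localization.AtPrime q) N := Module.Finite.trans B N
  exact localized_ctn q N

end Groth.Agent.RG
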