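import Groth.Agent.RG.Socle
import Groth.Agent.RG.AssPts

/-!
# `N → S' ⊗ N` is injective on fibres when `S'` sees the associated points
-/

set_option autoImplicit false
set_option linter.style.haveILetI false
set_option backward.isDefEq.respectTransparency false

universe u

open TensorProduct

namespace Groth.Agent.RG

/-- every element of `κ(p) ⊗ N` is a unit times some `1 ⊗ n` -/
theorem exists_smul_eq_one_tmul_mod {R N : Type u} [CommRing R] [AddCommGroup N] [Module R N] (p : Ideal R) [p.IsPrime]
    (y : p.ResidueField ⊗[R] N) : ∃ c ∉ p, ∃ n : N, c • y = (1 : p.ResidueField) ⊗ₜ[R] n := by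
  induction y using TensorProduct.induction_on with
  | zero => exact ⟨1, fun h => (‹p.IsPrime›).ne_top ((Ideal.eq_top_iff_one p).2 h), 0, by simp⟩
  | tmul k n =>
    obtain ⟨c, hc, r, hr⟩ := Ideal.Fiber.exists_smul_eq_one_tmul (S := R) p (k ⊗ₜ 1)
    refine ⟨c, hc, r • n, ?_⟩
    have h1 := congrArg (TensorProduct.rid R p.ResidueField) hr
    rw [map_smul, TensorProduct.rid_tmul, TensorProduct.rid_tmul, one_smul] at h1
    rw [smul_tmul', h1, smul_tmul]
  | add x y hx hy =>
    obtain ⟨c, hc, n, hn⟩ := hx
    obtain ⟨d, hd, m, hm⟩ := hy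
    refine ⟨d * c, (‹p.IsPrime›).mul_notMem hd hc, d • n + c • m, ?_⟩
    rw [smul_add, mul_smul, hn, mul_comm, mul_smul, hm, tmul_add, tmul_smul, tmul_smul]

/-- an element of `N/pN` seen at a prime which lifts to a flat extension survives there -/
theorem not_mem_of_lift {R S S' N : Type u} [CommRing R] [CommRing S] [CommRing S'] [Algebra R S] [Algebra S S']
    [Algebra R S'] [IsScalarTower R S S'] [Module.Flat S S'] [AddCommGroup N] [Module S N] [Module R N] [IsScalarTower R S N]
    (I : Ideal R) (σ : Ideal S) (q' : Ideal S') [q'.IsPrime] (hq' : q'.comap (algebraMap S S') = σ) (n : N)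
    (hn : ∀ t ∉ σ, t • n ∉ I • (⊤ : Submodule R N)) :
    (1 : S') ⊗ₜ[S] n ∉ I • (⊤ : Submodule R (S' ⊗[S] N)) := by
  intro hmem
  let W := Localization.AtPrime q'
  haveI : Module.Flat S' W := IsLocalization.flat W q'.primeCompl
  haveI : Module.Flat S W := Module.Flat.trans S S' W
  let J : Submodule S N :=
    { toAddSubmonoid := (I • (⊤ : Submodule R N)).toAddSubmonoid
      smul_mem' := fun t x hx => by
        have := Submodule.mem_map_of_mem (f := (LinearMap.lsmul S N t).restrictScalars R) hx
        rw [Submodule.map_smul''] at this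
        exact Submodule.smul_mono le_rfl le_top this }
  let f : S' ⊗[S] N →ₗ[S] W ⊗[S] (N ⧸ J) :=
    TensorProduct.map ((Algebra.linearMap S' W).restrictScalars S) J.mkQ
  have h0 : ∀ y ∈ I • (⊤ : Submodule R (S' ⊗[S] N)), f y = 0 := by
    intro y hy
    induction hy using Submodule.smul_induction_on' with
    | smul a ha y _ =>
      rw [← algebraMap_smul S a y, map_smul]
      generalize f y = w
      induction w using TensorProduct.induction_on with
      | zero => rw [smul_zero]
      | tmul x z =>
        obtain ⟨z, rfl⟩ := Submodule.mkQ_surjective J z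
        rw [← tmul_smul, ← map_smul, Submodule.mkQ_apply, (Submodule.Quotient.mk_eq_zero J).2, tmul_zero]
        change algebraMap R S a • z ∈ I • (⊤ : Submodule R N)
        rw [algebraMap_smul]
        exact Submodule.smul_mem_smul ha trivial
      | add x y hx hy => rw [smul_add, hx, hy, add_zero]
    | add x _ y _ hx hy => rw [map_add, hx, hy, add_zero]
  have h1 : (1 : W) ⊗ₜ[S] J.mkQ n = 0 := by
    rw [← h0 _ hmem]
    simp [f]
  obtain ⟨t, ht, htn⟩ := exists_smul_eq_zero (J.mkQ n) h1
  refine hn t (fun h => ht ?_) ((Submodule.Quotient.mk_eq_zero J).1 htn)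
  rw [Ideal.mem_comap, IsScalarTower.algebraMap_apply S S' W]
  exact (IsLocalization.AtPrime.to_map_mem_maximal_iff W q' _).2 (hq'.ge h)

attribute [local instance] Algebra.TensorProduct.rightAlgebra in
/-- injectivity on every fibre -/
theorem lTensor_residue_injective {R S S' : Type u} [CommRing R] [CommRing S] [CommRing S'] [Algebra R S]
    [Algebra S S'] [Algebra R S'] [IsScalarTower R S S'] [Algebra.FiniteType R S] [Module.Flat S S']
    (N : Type u) [AddCommGroup N] [Module S N] [Module R N] [IsScalarTower R S N] [Module.Finite S N]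
    (p : Ideal R) [p.IsPrime]
    (h : ∀ σ ∈ assPts R S N p, ∃ q' : Ideal S', q'.IsPrime ∧ q'.comap (algebraMap S S') = σ) :
    Function.Injective (((TensorProduct.mk S S' N 1).restrictScalars R).lTensor p.ResidueField) := by
  rw [injective_iff_map_eq_zero]
  intro y hy
  obtain ⟨c, hc, n, hn⟩ := exists_smul_eq_one_tmul_mod p y
  have hu : IsUnit (algebraMap R p.ResidueField c) :=
    isUnit_iff_ne_zero.2 fun h => hc (Ideal.algebraMap_residueField_eq_zero.1 h)
  refine hu.smul_eq_zero.1 ?_
  rw [algebraMap_smul, hn]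
  have h1 : (1 : p.ResidueField) ⊗ₜ[R] ((1 : S') ⊗ₜ[S] n) = 0 := by
    have := congrArg (((TensorProduct.mk S S' N 1).restrictScalars R).lTensor p.ResidueField) hn
    rw [map_smul, hy, smul_zero] at this
    exact this.symm
  obtain ⟨d, hd, hdn⟩ := (one_tmul_eq_zero_iff p _).1 h1
  by_contra hne
  -- a prime over `p` seeing `n`
  let I : Ideal S := LinearMap.ker (LinearMap.toSpanSingleton S _ ((1 : p.Fiber S) ⊗ₜ[S] n))
  have hI : ∀ t, t ∈ I → ∀ d, t = algebraMap R S d → d ∈ p := by
    intro t ht d hd
    subst hd
    by_contra hdp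
    refine hne ?_
    have hd' : IsUnit (algebraMap R p.ResidueField d) :=
      isUnit_iff_ne_zero.2 fun h => hdp (Ideal.algebraMap_residueField_eq_zero.1 h)
    refine hd'.smul_eq_zero.1 ?_
    have h2 := congrArg (Algebra.IsPushout.cancelBaseChange R p.ResidueField S (p.Fiber S) N)
      (show (1 : p.Fiber S) ⊗ₜ[S] (algebraMap R S d • n) = 0 by rw [tmul_smul]; exact ht)
    rw [map_zero, Algebra.IsPushout.cancelBaseChange_tmul, algebraMap_smul, tmul_smul] at h2
    rwa [algebraMap_smul]
  have hdis : Disjoint (I : Set S) ((p.primeCompl.map (algebraMap R S) : Submonoid S) : Set S) := by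
    rw [Set.disjoint_left]
    rintro _ hmem ⟨e, he, rfl⟩
    exact he (hI _ hmem e rfl)
  obtain ⟨Q, hQ, hIQ, hdQ⟩ := Ideal.exists_le_prime_disjoint _ _ hdis
  haveI := hQ
  have hQp : Q.comap (algebraMap R S) = p := by
    refine le_antisymm (fun e he => ?_) fun e he => hIQ ?_
    · by_contra hep
      exact Set.disjoint_left.1 hdQ he ⟨e, hep, rfl⟩
    · change algebraMap R S e • ((1 : p.Fiber S) ⊗ₜ[S] n) = 0
      apply (Algebra.IsPushout.cancelBaseChange R p.ResidueField S (p.Fiber S) N).injective
      rw [map_zero, ← tmul_smul, Algebra.IsPushout.cancelBaseChange_tmul, algebraMap_smul, tmul_smul,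
        ← algebraMap_smul p.ResidueField e, Ideal.algebraMap_residueField_eq_zero.2 he, zero_smul]
  have hnQ : ∀ t ∉ Q, t • n ∉ p • (⊤ : Submodule R N) := by
    intro t ht htn
    refine ht (hIQ ?_)
    change t • ((1 : p.Fiber S) ⊗ₜ[S] n) = 0
    apply (Algebra.IsPushout.cancelBaseChange R p.ResidueField S (p.Fiber S) N).injective
    rw [map_zero, ← tmul_smul, Algebra.IsPushout.cancelBaseChange_tmul]
    exact (one_tmul_eq_zero_iff p _).2
      ⟨1, fun h1 => (‹p.IsPrime›).ne_top ((Ideal.eq_top_iff_one p).2 h1), by rwa [one_smul]⟩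
  obtain ⟨σ, hσ, -, hσn⟩ := exists_assPts_of_not_mem R S p Q hQp n hnQ
  obtain ⟨q', hq'p, hq'⟩ := h σ hσ
  haveI := hq'p
  haveI := (isPrime_of_mem_assPts R S N hσ).1
  refine not_mem_of_lift p σ q' hq' (d • n) (fun t ht htn => ?_) (by rwa [← algebraMap_smul S d n, tmul_smul, algebraMap_smul])
  refine hσn (t * algebraMap R S d) (fun hmem => ?_) (by rwa [mul_smul, algebraMap_smul])
  rcases (isPrime_of_mem_assPts R S N hσ).1.mem_or_mem hmem with h' | h'
  · exact ht h'
  · exact hd ((isPrime_of_mem_assPts R S N hσ).2.le h')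

theorem univInj_baseChange {R S S' : Type u} [CommRing R] [CommRing S] [CommRing S'] [Algebra R S]
    [Algebra S S'] [Algebra R S'] [IsScalarTower R S S'] [Algebra.FiniteType R S] [Module.Flat S S']
    (N : Type u) [AddCommGroup N] [Module S N] [Module R N] [IsScalarTower R S N] [Module.Finite S N] [Module.Flat R N]
    (h : ∀ (p : Ideal R) (q : Ideal S) [p.IsPrime] [q.IsPrime] [q.LiesOver p],
      FlatCA.fiberIdeal p q ∈ associatedPrimes (p.Fiber S) (FlatCA.fiberMod p S N) →
      ∃ q' : Ideal S', q'.IsPrime ∧ q'.comap (algebraMap S S') = q)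
    (Q : Type u) [AddCommGroup Q] [Module R Q] :
    Function.Injective (((TensorProduct.mk S S' N 1).restrictScalars R).rTensor Q) := by
  haveI : Module.Flat R (S' ⊗[S] N) := by
    refine Module.Flat.iff_lTensor_injective'.2 fun I => ?_
    rw [LinearMap.lTensor_inj_iff_rTensor_inj]
    have h1 : Function.Injective (AlgebraTensorModule.lTensor S N I.subtype) := by
      rw [AlgebraTensorModule.coe_lTensor]
      exact Module.Flat.lTensor_preserves_injective_linearMap _ I.injective_subtype
    have h2 := Module.Flat.lTensor_preserves_injective_linearMap (M := S') _ h1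
    have h3 : Function.Injective (I.subtype.lTensor (S' ⊗[S] N)) := by
      intro a b hab
      apply (AlgebraTensorModule.assoc R S S S' N I).injective
      apply h2
      have key : ∀ a : (S' ⊗[S] N) ⊗[R] I, (AlgebraTensorModule.lTensor S N I.subtype).lTensor S'
          (AlgebraTensorModule.assoc R S S S' N I a) =
          AlgebraTensorModule.assoc R S S S' N R (I.subtype.lTensor (S' ⊗[S] N) a) := by
        intro a
        induction a using TensorProduct.induction_on with
        | zero => simp
        | tmul x i =>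
          induction x using TensorProduct.induction_on with
          | zero => simp
          | tmul s n => simp
          | add x y hx hy => simp only [add_tmul, map_add, hx, hy]
        | add x y hx hy => simp only [map_add, hx, hy]
      rw [key, key, hab]
    exact (LinearMap.lTensor_inj_iff_rTensor_inj _ _).1 h3
  refine rTensor_injective_of_fibres (L := S) ((TensorProduct.mk S S' N 1).restrictScalars R) (fun p hp => ?_) Q
  refine lTensor_residue_injective N p fun σ hσ => ?_
  obtain ⟨hσp, hσc⟩ := isPrime_of_mem_assPts R S N hσ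
  haveI := hσp
  haveI : σ.LiesOver p := ⟨hσc.symm⟩
  exact h p σ ((mem_assPts_iff R S p σ hσc).1 hσ)

end Groth.Agent.RG
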