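import Groth.Agent.RG.Eft
import Groth.Agent.RG.AssPts
import Groth.Agent.RG.Pure.Fibre
import Groth.Agent.RG.Pure.Above
import Groth.Agent.Hensel.Henselization
import Groth.Agent.Hensel.HenselizationProps
import Groth.Agent.S1234
import Mathlib.RingTheory.Flat.FaithfullyFlat.Basic
import Mathlib.RingTheory.Ideal.AssociatedPrime.Finiteness
import Mathlib.RingTheory.EssentialFiniteness

/-!
# Weakly associated primes of a tensor product with a flat finite module
-/

set_option autoImplicit false
set_option linter.style.haveILetI false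
set_option backward.isDefEq.respectTransparency false

universe u

open TensorProduct IsLocalRing

namespace Groth.Agent.RG.WAss

/-- weakly associated primes, on the localisation -/
theorem mem_weakAss_iff {R M M' : Type u} [CommRing R] [AddCommGroup M] [Module R M] [AddCommGroup M'] [Module R M']
    (p : Ideal R) [p.IsPrime] (f : M →ₗ[R] M') [IsLocalizedModule p.primeCompl f] :
    p ∈ FlatCA.weakAss R M ↔ ∃ m' : M', m' ≠ 0 ∧ ∀ a ∈ p, ∃ k : ℕ, a ^ k • m' = 0 := by
  constructor
  · rintro ⟨m, hm⟩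
    refine ⟨f m, fun h => ?_, fun a ha => ?_⟩
    · obtain ⟨⟨c, hc⟩, h'⟩ := (IsLocalizedModule.eq_zero_iff p.primeCompl f).1 h
      exact hc (hm.1.2 ((Submodule.mem_annihilator_span_singleton _ _).2 h'))
    · let V : Submonoid R := p.primeCompl ⊔ Submonoid.powers a
      have hV : ¬ Disjoint ((Submodule.span R {m}).annihilator : Set R) (V : Set R) := fun hd => by
        obtain ⟨P, hP, hle, hdP⟩ := Ideal.exists_le_prime_disjoint _ _ hd
        have hPp : P ≤ p := fun x hx => by
          by_contra h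
          exact Set.disjoint_left.1 hdP hx ((le_sup_left : p.primeCompl ≤ V) h)
        exact Set.disjoint_left.1 hdP (hm.2 ⟨hP, hle⟩ hPp ha)
          ((le_sup_right : Submonoid.powers a ≤ V) (Submonoid.mem_powers a))
      obtain ⟨x, hx, hxV⟩ := Set.not_disjoint_iff.1 hV
      obtain ⟨c, hc, _, ⟨k, rfl⟩, rfl⟩ := Submonoid.mem_sup.1 hxV
      refine ⟨k, ?_⟩
      rw [← map_smul]
      exact (IsLocalizedModule.eq_zero_iff p.primeCompl f).2 ⟨⟨c, hc⟩, by
        rw [Submonoid.mk_smul, smul_smul]
        exact (Submodule.mem_annihilator_span_singleton _ _).1 hx⟩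
  · rintro ⟨m', hm', hk⟩
    obtain ⟨⟨m, s⟩, hs⟩ := IsLocalizedModule.surj p.primeCompl f m'
    have hne : ∀ c ∉ p, c • m ≠ 0 := fun c hc h => hm' (by
      have h1 : ((⟨c, hc⟩ * s : p.primeCompl)) • m' = 0 := by
        rw [mul_smul, hs]
        change c • f _ = 0
        rw [← map_smul, h, map_zero]
      exact (IsLocalizedModule.smul_injective f (⟨c, hc⟩ * s)) (h1.trans (smul_zero _).symm))
    refine ⟨m, ⟨inferInstance, fun x hx => by_contra fun h => hne x h ((Submodule.mem_annihilator_span_singleton _ _).1 hx)⟩,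
      fun P hP hPp a ha => ?_⟩
    obtain ⟨k, hk⟩ := hk a ha
    have h1 : f (a ^ k • m) = 0 := by
      rw [map_smul, ← hs, smul_comm, hk, smul_zero]
    obtain ⟨⟨c, hc⟩, h2⟩ := (IsLocalizedModule.eq_zero_iff p.primeCompl f).1 h1
    rw [Submonoid.mk_smul, smul_smul] at h2
    exact hP.1.mem_of_pow_mem k
      ((hP.1.mem_or_mem (hP.2 ((Submodule.mem_annihilator_span_singleton _ _).2 h2))).resolve_left fun h => hc (hPp h))

/-- finitely many locally nilpotent scalars have a common non-zero killed multiple -/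
theorem exists_multiple_killed {A M : Type u} [CommRing A] [AddCommGroup M] [Module A M] (T : Finset A) :
    ∀ (m : M), m ≠ 0 → (∀ a ∈ T, ∃ k : ℕ, a ^ k • m = 0) → ∃ c : A, c • m ≠ 0 ∧ ∀ a ∈ T, a • c • m = 0 := by
  classical
  induction T using Finset.induction with
  | empty => exact fun m hm _ => ⟨1, by rwa [one_smul], fun a ha => absurd ha (by simp)⟩
  | insert a T _ ih =>
    intro m hm h
    obtain ⟨c, hc, hT⟩ := ih m hm fun b hb => h b (Finset.mem_insert_of_mem hb)
    obtain ⟨k, hk⟩ := h a (Finset.mem_insert_self a T)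
    have hex : ∃ j, a ^ j • c • m = 0 := ⟨k, by rw [smul_comm, hk, smul_zero]⟩
    have hj : Nat.find hex ≠ 0 := fun h0 => hc (by simpa [h0] using Nat.find_spec hex)
    refine ⟨a ^ (Nat.find hex - 1) * c, ?_, fun b hb => ?_⟩
    · rw [mul_smul]
      exact Nat.find_min hex (by omega)
    · rcases Finset.mem_insert.1 hb with rfl | hb
      · rw [mul_smul, smul_smul, ← pow_succ', show Nat.find hex - 1 + 1 = Nat.find hex by omega]
        exact Nat.find_spec hex
      · rw [mul_smul, smul_comm, hT b hb, smul_zero]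

/-- content: a killed tensor forces a killed vector -/
theorem exists_killed_of_ctn {H X M : Type u} [CommRing H] [AddCommGroup X] [Module H X] [Module.Flat H X]
    [AddCommGroup M] [Module H M] (hX : Ctn H X) (z : X ⊗[H] M) (hz : z ≠ 0) :
    ∃ w : M, w ≠ 0 ∧ ∀ a : H, ∀ k : ℕ, a ^ k • z = 0 → a ^ k • w = 0 := by
  classical
  obtain ⟨S, hS⟩ := TensorProduct.exists_finset z
  let r := S.card
  let es := S.equivFin
  let x : Fin r → X := fun i => (es.symm i).1.1
  let φ : (Fin r → H) →ₗ[H] M := Fintype.linearCombination H fun i => (es.symm i).1.2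
  have hres : ∀ (g : M →ₗ[H] M),
      g.lTensor X z = ((LinearMap.ker (g ∘ₗ φ)).liftQ (g ∘ₗ φ) le_rfl).lTensor X (res (LinearMap.ker (g ∘ₗ φ)) x) := by
    intro g
    rw [hS, map_sum, ← Finset.sum_coe_sort, ← es.symm.sum_comp]
    simp [res, map_sum, x, φ, Fintype.linearCombination_apply_single]
    rfl
  obtain ⟨V, -, hV⟩ := hX r x
  obtain ⟨v₀, hv₀, hv₀'⟩ : ∃ v₀ ∈ V, φ v₀ ≠ 0 := by
    by_contra hcon
    push Not at hcon
    refine hz ?_
    have h := hres LinearMap.id
    rw [LinearMap.lTensor_id, LinearMap.id_apply] at h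
    rw [h, (hV _).2 fun v hv => by simpa using hcon v hv, map_zero]
  refine ⟨φ v₀, hv₀', fun a k hk => ?_⟩
  have hle : V ≤ LinearMap.ker (LinearMap.lsmul H M (a ^ k) ∘ₗ φ) := by
    refine (hV _).1 (Module.Flat.lTensor_preserves_injective_linearMap _
      (LinearMap.ker_eq_bot.1 (Submodule.ker_liftQ_eq_bot _ _ le_rfl le_rfl)) ?_)
    rw [map_zero, ← hres]
    have : ∀ y : X ⊗[H] M, (LinearMap.lsmul H M (a ^ k)).lTensor X y = a ^ k • y := fun y => by
      induction y using TensorProduct.induction_on with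
      | zero => simp
      | tmul x m => simp
      | add y y' hy hy' => rw [map_add, hy, hy', smul_add]
    rw [this, hk]
  simpa using hle hv₀

attribute [local instance] Algebra.TensorProduct.rightAlgebra in
/-- a tensor killed at the closed point gives a vector killed at the closed point of the henselization -/
theorem exists_killed_henselian {A H B X M : Type u} [CommRing A] [IsLocalRing A] [CommRing H] [HenselianLocalRing H]
    [Algebra A H] [Module.Flat A H] [IsLocalHom (algebraMap A H)] (hmap : (maximalIdeal A).map (algebraMap A H) = maximalIdeal H)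
    [CommRing B] [Algebra A B] [Algebra.EssFiniteType A B] [AddCommGroup X] [Module B X] [Module A X]
    [IsScalarTower A B X] [Module.Finite B X] [Module.Flat A X] [AddCommGroup M] [Module A M]
    (z : X ⊗[A] M) (hz : z ≠ 0) (hk : ∀ a ∈ maximalIdeal A, ∃ k : ℕ, a ^ k • z = 0) :
    ∃ w : H ⊗[A] M, w ≠ 0 ∧ ∀ h ∈ maximalIdeal H, ∃ k : ℕ, h ^ k • w = 0 := by
  classical
  haveI : Module.FaithfullyFlat A H := Module.FaithfullyFlat.of_flat_of_isLocalHom
  let C := H ⊗[A] B
  let XH := C ⊗[B] X
  let TH := C ⊗[B] (X ⊗[A] M)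
  let eT : TH ≃ₗ[H] H ⊗[A] (X ⊗[A] M) := Algebra.IsPushout.cancelBaseChange A H B C (X ⊗[A] M)
  let z₁ : TH := (1 : C) ⊗ₜ[B] z
  have hz₁ : z₁ ≠ 0 := fun h => hz (Module.FaithfullyFlat.tensorProduct_mk_injective (A := A) (B := H) (X ⊗[A] M) (by
    rw [TensorProduct.mk_apply, TensorProduct.mk_apply, tmul_zero,
      ← Algebra.IsPushout.cancelBaseChange_tmul (R := A) (S := H) (A := B) (B := C) (M := X ⊗[A] M) z]
    exact (congrArg eT h).trans (map_zero _)))
  let J : Ideal C := (Submodule.span C {z₁}).annihilator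
  obtain ⟨Q, hQ, hJQ⟩ := Ideal.exists_le_maximal J fun h => hz₁ (by
    have := (Submodule.mem_annihilator_span_singleton z₁ (1 : C)).1 ((Ideal.eq_top_iff_one _).1 h)
    rwa [one_smul] at this)
  have hQH : Q.comap (algebraMap H C) = maximalIdeal H := by
    refine ((IsLocalRing.maximalIdeal.isMaximal H).eq_of_le (Ideal.IsPrime.comap _).ne_top ?_).symm
    rw [← hmap, Ideal.map_le_iff_le_comap]
    intro a ha
    obtain ⟨k, hk⟩ := hk a ha
    refine Ideal.mem_comap.2 (Ideal.mem_comap.2 (hQ.isPrime.mem_of_pow_mem k (hJQ ?_)))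
    refine (Submodule.mem_annihilator_span_singleton _ _).2 ?_
    rw [← map_pow, ← map_pow, ← IsScalarTower.algebraMap_apply A H C, algebraMap_smul]
    change a ^ k • ((1 : C) ⊗ₜ[B] z) = 0
    rw [← tmul_smul, hk, tmul_zero]
  let B' := Localization.AtPrime Q
  let X' := LocalizedModule Q.primeCompl XH
  haveI : Module.Flat H XH := Module.Flat.of_linearEquiv (Algebra.IsPushout.cancelBaseChange A H B C X)
  haveI : Module.Flat H X' := InjFibre.flat_localized (R := H) (S := C) (M := XH) (M' := LocalizedModule Q.primeCompl XH) Q.primeCompl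
    (LocalizedModule.mkLinearMap Q.primeCompl XH)
  haveI : IsLocalHom (algebraMap H B') := ⟨fun h hh => by
    by_contra hu
    have hm : h ∈ maximalIdeal H := hu
    rw [← hQH, Ideal.mem_comap] at hm
    rw [IsScalarTower.algebraMap_apply H C B', IsLocalization.AtPrime.isUnit_to_map_iff B' Q] at hh
    exact hh hm⟩
  haveI : Algebra.EssFiniteType C B' := Algebra.EssFiniteType.of_isLocalization B' Q.primeCompl
  haveI : Algebra.EssFiniteType H C := inferInstance
  haveI : Algebra.EssFiniteType H B' := Algebra.EssFiniteType.comp H C B'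
  haveI : Module.Finite B' X' := Module.Finite.of_isLocalizedModule Q.primeCompl (LocalizedModule.mkLinearMap _ XH)
  have hctn : Ctn H X' := eft_ctn (B := B') X'
  let as := AlgebraTensorModule.assoc A B C C X M
  let L : XH ⊗[A] M →ₗ[C] X' ⊗[A] M := AlgebraTensorModule.rTensor A M (LocalizedModule.mkLinearMap Q.primeCompl XH)
  haveI : IsLocalizedModule Q.primeCompl L := inferInstance
  let z' : X' ⊗[A] M := L (as.symm z₁)
  have hz' : z' ≠ 0 := fun h => by
    obtain ⟨⟨c, hc⟩, hcz⟩ := (IsLocalizedModule.eq_zero_iff Q.primeCompl L).1 h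
    refine hc (hJQ ((Submodule.mem_annihilator_span_singleton _ _).2 (as.symm.injective ?_)))
    rw [map_smul, map_zero]
    exact hcz
  have hkz : ∀ a ∈ maximalIdeal A, ∃ k : ℕ, a ^ k • z' = 0 := fun a ha => by
    obtain ⟨k, hk⟩ := hk a ha
    refine ⟨k, ?_⟩
    simp only [z', z₁]
    rw [← LinearMap.map_smul_of_tower, ← algebraMap_smul C (a ^ k), ← map_smul as.symm, algebraMap_smul,
      ← tmul_smul, hk, tmul_zero, map_zero, map_zero]
  let ec : X' ⊗[H] (H ⊗[A] M) ≃ₗ[H] X' ⊗[A] M := AlgebraTensorModule.cancelBaseChange A H H X' M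
  obtain ⟨w, hw, hw'⟩ := exists_killed_of_ctn hctn (ec.symm z') fun h => hz' (by
    rw [← ec.apply_symm_apply z', h, map_zero])
  refine ⟨w, hw, fun h hh => ?_⟩
  let 𝔄 : Ideal H := (Submodule.span H {w}).annihilator.radical
  suffices maximalIdeal H ≤ 𝔄 by
    obtain ⟨k, hk⟩ := this hh
    exact ⟨k, (Submodule.mem_annihilator_span_singleton _ _).1 hk⟩
  rw [← hmap, Ideal.map_le_iff_le_comap]
  intro a ha
  obtain ⟨k, hk⟩ := hkz a ha
  refine ⟨k, (Submodule.mem_annihilator_span_singleton _ _).2 (hw' _ k (ec.injective ?_))⟩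
  rw [map_smul, LinearEquiv.apply_symm_apply, map_zero, ← map_pow, algebraMap_smul]
  exact hk

section local_core

variable {A B X M : Type u} [CommRing A] [IsLocalRing A] [CommRing B] [IsLocalRing B] [Algebra A B]
  [IsLocalHom (algebraMap A B)] [Algebra.EssFiniteType A B] [AddCommGroup X] [Module B X] [Module A X]
  [IsScalarTower A B X] [Module.Finite B X] [Module.Flat A X] [AddCommGroup M] [Module A M]

omit [Module.Flat A X] [Module.Finite B X] [IsLocalRing B] [IsLocalHom (algebraMap A B)] [Algebra.EssFiniteType A B] in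
theorem mem_map_smul_top (x : X) : x ∈ (maximalIdeal A).map (algebraMap A B) • (⊤ : Submodule B X) ↔
    x ∈ maximalIdeal A • (⊤ : Submodule A X) := by
  rw [← Submodule.restrictScalars_mem A, Ideal.smul_restrictScalars, Submodule.restrictScalars_top]

/-- a tensor killed at the closed point gives a killed point of the closed fibre -/
theorem exists_fibre_killed (z : X ⊗[A] M) (hz : z ≠ 0) (hk : ∀ b ∈ maximalIdeal B, ∃ k : ℕ, b ^ k • z = 0) :
    ∃ x : X, x ∉ maximalIdeal A • (⊤ : Submodule A X) ∧
      ∀ b ∈ maximalIdeal B, ∃ k : ℕ, b ^ k • x ∈ maximalIdeal A • (⊤ : Submodule A X) := by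
  classical
  let I := (maximalIdeal A).map (algebraMap A B)
  let B₀ := B ⧸ I
  let W := X ⧸ (I • ⊤ : Submodule B X)
  letI := Ideal.Quotient.field (maximalIdeal A)
  haveI : Algebra.EssFiniteType A B₀ := Algebra.EssFiniteType.comp A B B₀
  haveI : Algebra.EssFiniteType (A ⧸ maximalIdeal A) B₀ := Algebra.EssFiniteType.of_comp A _ _
  haveI : IsNoetherianRing B₀ := Algebra.EssFiniteType.isNoetherianRing (A ⧸ maximalIdeal A) _
  haveI : Module.Finite B₀ W := Module.Finite.of_restrictScalars_finite B B₀ W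
  by_cases hb : ∀ b ∈ maximalIdeal B, ∃ w : W, w ≠ 0 ∧ b • w = 0
  · have hfin := associatedPrimes.finite B₀ W
    have hsub : ((maximalIdeal B).map (Ideal.Quotient.mk I) : Set B₀) ⊆ ⋃ P ∈ associatedPrimes B₀ W, (P : Set B₀) := by
      intro x hx
      obtain ⟨b, hbm, rfl⟩ := (Ideal.mem_map_iff_of_surjective _ Ideal.Quotient.mk_surjective).1 hx
      rw [biUnion_associatedPrimes_eq_zero_divisors]
      obtain ⟨w, hw, hbw⟩ := hb b hbm
      exact ⟨w, hw, hbw⟩
    obtain ⟨P, hP, hle⟩ := (Ideal.subset_union_prime_finite hfin ⊥ ⊥ fun P hP _ _ => hP.isPrime).1 hsub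
    obtain ⟨-, w, hw⟩ := id hP
    obtain ⟨x, rfl⟩ := Submodule.mkQ_surjective _ w
    refine ⟨x, fun hx => hP.isPrime.ne_top ?_, fun b hbm => ?_⟩
    · rw [hw, show (I • ⊤ : Submodule B X).mkQ x = 0 from (Submodule.Quotient.mk_eq_zero _).2 ((mem_map_smul_top (B := B) x).2 hx)]
      simp
    · obtain ⟨k, hk⟩ := (hw ▸ hle (Ideal.mem_map_of_mem (Ideal.Quotient.mk I) hbm) :
        Ideal.Quotient.mk I b ∈ ((⊥ : Submodule B₀ W).colon {(I • ⊤ : Submodule B X).mkQ x}).radical)
      refine ⟨k, (mem_map_smul_top (B := B) _).1 ((Submodule.Quotient.mk_eq_zero _).1 ?_)⟩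
      rw [← map_pow, Submodule.mem_colon_singleton, Submodule.mem_bot] at hk
      exact hk
  push Not at hb
  obtain ⟨b, hbm, hb⟩ := hb
  exfalso
  let u : X →ₗ[A] X := (LinearMap.lsmul B X b).restrictScalars A
  have hu : ∀ x, u x ∈ maximalIdeal A • (⊤ : Submodule A X) → x ∈ maximalIdeal A • (⊤ : Submodule A X) := fun x hx => by
    rw [← mem_map_smul_top (B := B)] at hx ⊢
    by_contra h
    exact hb ((I • ⊤ : Submodule B X).mkQ x) (fun h0 => h ((Submodule.Quotient.mk_eq_zero _).1 h0))
      ((Submodule.Quotient.mk_eq_zero _).2 hx)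
  obtain ⟨-, -, hinj⟩ := eft_main (B := B) X u hu
  have hsm : ∀ y : X ⊗[A] M, u.rTensor M y = b • y := fun y => by
    induction y using TensorProduct.induction_on with
    | zero => simp
    | tmul x m => simp [u, smul_tmul']
    | add y y' hy hy' => rw [map_add, hy, hy', smul_add]
  obtain ⟨k, hk⟩ := hk b hbm
  refine hz ?_
  induction k with
  | zero => simpa using hk
  | succ k ih => exact ih (hinj M (by rw [hsm, map_zero, smul_smul, ← pow_succ']; exact hk))

/-- a killed point of the closed fibre and a killed vector give a killed tensor -/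
theorem exists_tensor_killed (x : X) (hx : x ∉ maximalIdeal A • (⊤ : Submodule A X))
    (hk : ∀ b ∈ maximalIdeal B, ∃ k : ℕ, b ^ k • x ∈ maximalIdeal A • (⊤ : Submodule A X))
    (m : M) (hm : m ≠ 0) (hkm : ∀ a ∈ maximalIdeal A, ∃ k : ℕ, a ^ k • m = 0) :
    ∃ z : X ⊗[A] M, z ≠ 0 ∧ ∀ b ∈ maximalIdeal B, ∃ k : ℕ, b ^ k • z = 0 := by
  classical
  let I := (maximalIdeal A).map (algebraMap A B)
  letI := Ideal.Quotient.field (maximalIdeal A)
  haveI : Algebra.EssFiniteType A (B ⧸ I) := Algebra.EssFiniteType.comp A B _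
  haveI : Algebra.EssFiniteType (A ⧸ maximalIdeal A) (B ⧸ I) := Algebra.EssFiniteType.of_comp A _ _
  haveI : IsNoetherianRing (B ⧸ I) := Algebra.EssFiniteType.isNoetherianRing (A ⧸ maximalIdeal A) _
  obtain ⟨T₀, hT₀⟩ := IsNoetherian.noetherian ((maximalIdeal B).map (Ideal.Quotient.mk I))
  have hlift : ∀ y : T₀, ∃ b ∈ maximalIdeal B, Ideal.Quotient.mk I b = y := fun y =>
    (Ideal.mem_map_iff_of_surjective _ Ideal.Quotient.mk_surjective).1 (hT₀.le (Submodule.subset_span y.2))
  choose g hg hg' using hlift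
  choose n hn using fun y : T₀ => hk (g y) (hg y)
  -- finitely many scalars
  have hfin : ∀ y : X, y ∈ maximalIdeal A • (⊤ : Submodule A X) →
      ∃ T : Finset A, (T : Set A) ⊆ maximalIdeal A ∧ ∀ m' : M, (∀ a ∈ T, a • m' = 0) → y ⊗ₜ[A] m' = 0 := by
    intro y hy
    refine Submodule.smul_induction_on hy (fun a ha x _ => ⟨{a}, by simpa using ha, fun m' h => ?_⟩)
      fun y y' hy hy' => ?_
    · rw [smul_tmul, h a (Finset.mem_singleton_self a), tmul_zero]
    · obtain ⟨T, hT, h1⟩ := hy
      obtain ⟨T', hT', h2⟩ := hy'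
      exact ⟨T ∪ T', by simp [hT, hT'], fun m' h => by
        rw [add_tmul, h1 m' fun a ha => h a (Finset.mem_union_left _ ha),
          h2 m' fun a ha => h a (Finset.mem_union_right _ ha), add_zero]⟩
  choose T hT hT' using fun y : T₀ => hfin _ (hn y)
  obtain ⟨c, hc, hcT⟩ := exists_multiple_killed (Finset.univ.biUnion T) m hm fun a ha => by
    obtain ⟨y, -, hy⟩ := Finset.mem_biUnion.1 ha
    exact hkm a (hT y hy)
  let m' := c • m
  refine ⟨x ⊗ₜ m', fun h => hx ?_, ?_⟩
  · let v : A →ₗ[A] M := LinearMap.toSpanSingleton A M m'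
    let J : Ideal A := LinearMap.ker v
    have hJ : J ≤ maximalIdeal A := IsLocalRing.le_maximalIdeal fun h => hc (by
      simpa [J, v, m'] using (Ideal.eq_top_iff_one _).1 h)
    let v' : (A ⧸ J) →ₗ[A] M := J.liftQ v le_rfl
    have hv' : Function.Injective v' := LinearMap.ker_eq_bot.1 (Submodule.ker_liftQ_eq_bot _ _ le_rfl le_rfl)
    have h0 : x ⊗ₜ[A] (Ideal.Quotient.mk J 1) = 0 := Module.Flat.lTensor_preserves_injective_linearMap v' hv' (by
      rw [map_zero, LinearMap.lTensor_tmul]
      change x ⊗ₜ[A] ((1 : A) • m') = 0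
      rwa [one_smul])
    have h1 := congrArg (TensorProduct.tensorQuotEquivQuotSMul X J) h0
    rw [TensorProduct.tensorQuotEquivQuotSMul_tmul_mk, one_smul, map_zero, Submodule.Quotient.mk_eq_zero] at h1
    exact Submodule.smul_mono hJ le_rfl h1
  let 𝔅 : Ideal B := (Submodule.span B {x ⊗ₜ[A] m'}).annihilator.radical
  suffices h : maximalIdeal B ≤ 𝔅 by
    intro b hb
    obtain ⟨k, hk⟩ := h hb
    exact ⟨k, (Submodule.mem_annihilator_span_singleton _ _).1 hk⟩
  have hgen : ∀ y : T₀, g y ∈ 𝔅 := fun y => ⟨n y, (Submodule.mem_annihilator_span_singleton _ _).2 (by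
    rw [smul_tmul']
    exact hT' y m' fun a ha => hcT a (Finset.mem_biUnion.2 ⟨y, Finset.mem_univ _, ha⟩))⟩
  have hI : I ≤ 𝔅 := Ideal.map_le_iff_le_comap.2 fun a ha => by
    obtain ⟨k, hk⟩ := hkm a ha
    refine ⟨k, (Submodule.mem_annihilator_span_singleton _ _).2 ?_⟩
    rw [← map_pow, algebraMap_smul, ← tmul_smul]
    simp only [m']
    rw [smul_comm, hk, smul_zero, tmul_zero]
  intro b hb
  have h1 : Ideal.Quotient.mk I b ∈ 𝔅.map (Ideal.Quotient.mk I) := by
    refine (hT₀ ▸ Submodule.span_le.2 ?_ : (maximalIdeal B).map (Ideal.Quotient.mk I) ≤ 𝔅.map (Ideal.Quotient.mk I))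
      (Ideal.mem_map_of_mem _ hb)
    intro y hy
    have h := Ideal.mem_map_of_mem (Ideal.Quotient.mk I) (hgen ⟨y, hy⟩)
    rwa [hg'] at h
  have h2 : b ∈ (𝔅.map (Ideal.Quotient.mk I)).comap (Ideal.Quotient.mk I) := h1
  rwa [Ideal.comap_map_of_surjective _ Ideal.Quotient.mk_surjective, ← RingHom.ker_eq_comap_bot, Ideal.mk_ker,
    sup_eq_left.2 hI] at h2

end local_core

attribute [local instance] Algebra.TensorProduct.rightAlgebra in
/-- associated points of a fibre, elementwise -/
theorem mem_assPts_iff_elem {R S N : Type u} [CommRing R] [CommRing S] [Algebra R S] [Algebra.FiniteType R S]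
    [AddCommGroup N] [Module S N] [Module R N] [IsScalarTower R S N] [Module.Finite S N] (p : Ideal R) [p.IsPrime] (q : Ideal S) [q.IsPrime]
    (hq : q.comap (algebraMap R S) = p) :
    q ∈ assPts R S N p ↔ ∃ x : LocalizedModule q.primeCompl N, x ∉ p • (⊤ : Submodule R _) ∧
      ∀ s ∈ q, ∃ k : ℕ, s ^ k • x ∈ p • (⊤ : Submodule R (LocalizedModule q.primeCompl N)) := by
  have hcq : ∀ c : R, c ∉ p → algebraMap R S c ∉ q := fun c hc h => hc (hq.le h)
  have hloc : ∀ {y : N}, y ∈ p • (⊤ : Submodule R N) →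
      LocalizedModule.mk y (1 : q.primeCompl) ∈ p • (⊤ : Submodule R (LocalizedModule q.primeCompl N)) := fun {y} hy => by
    have := Submodule.mem_map_of_mem (f := (LocalizedModule.mkLinearMap q.primeCompl N).restrictScalars R) hy
    rw [Submodule.map_smul''] at this
    exact Submodule.smul_mono le_rfl le_top this
  have hmul : ∀ (t : S) {M : Type u} [AddCommGroup M] [Module S M] [Module R M] [IsScalarTower R S M] {y : M},
      y ∈ p • (⊤ : Submodule R M) → t • y ∈ p • (⊤ : Submodule R M) := fun t {M} _ _ _ _ {y} hy => by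
    have := Submodule.mem_map_of_mem (f := (LinearMap.lsmul S M t).restrictScalars R) hy
    rw [Submodule.map_smul''] at this
    exact Submodule.smul_mono le_rfl le_top this
  constructor
  · intro h
    obtain ⟨n, hn, hs⟩ := Pure.exists_vector_of_assAt (inferInstance : q.IsPrime) (Pure.assAt_of_mem_assPts h)
    refine ⟨LocalizedModule.mk n 1, fun h => ?_, fun s hsq => ?_⟩
    · obtain ⟨t, ht, htn⟩ := exists_smul_mem_of_mk p q.primeCompl h
      exact hn t ht htn
    · obtain ⟨k, c, hc, hck⟩ := hs s hsq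
      refine ⟨k, ?_⟩
      have h1 := hmul (1 : S) (hloc hck)
      rw [one_smul, ← algebraMap_smul S c, ← LocalizedModule.smul'_mk, ← LocalizedModule.smul'_mk] at h1
      have h2 := hmul (M := LocalizedModule q.primeCompl N) (1 : S) h1
      rw [one_smul] at h2
      have h3 : (Localization.mk 1 (⟨algebraMap R S c, hcq c hc⟩ : q.primeCompl) : Localization q.primeCompl) •
          algebraMap R S c • s ^ k • LocalizedModule.mk n (1 : q.primeCompl) = s ^ k • LocalizedModule.mk n 1 := by
        rw [← algebraMap_smul (Localization q.primeCompl) (algebraMap R S c), smul_smul,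
          ← Localization.mk_one_eq_algebraMap, Localization.mk_mul, one_mul, mul_one,
          Localization.mk_self (⟨algebraMap R S c, hcq c hc⟩ : q.primeCompl), one_smul]
      rw [← h3]
      have h4 := Submodule.mem_map_of_mem (f := (LinearMap.lsmul (Localization q.primeCompl) _
        (Localization.mk 1 (⟨algebraMap R S c, hcq c hc⟩ : q.primeCompl))).restrictScalars R) h2
      rw [Submodule.map_smul''] at h4
      exact Submodule.smul_mono le_rfl le_top h4
  · rintro ⟨x, hx, hk⟩
    obtain ⟨n, u, rfl⟩ := exists_mk x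
    have hn : ∀ t ∉ q, t • n ∉ p • (⊤ : Submodule R N) := by
      intro t ht h
      refine hx ?_
      have h1 := Submodule.mem_map_of_mem (f := (LinearMap.lsmul (Localization q.primeCompl) _
        (Localization.mk 1 (u * ⟨t, ht⟩))).restrictScalars R) (hloc h)
      rw [Submodule.map_smul''] at h1
      have h2 := Submodule.smul_mono le_rfl le_top h1
      simp only [LinearMap.coe_restrictScalars, LinearMap.lsmul_apply, LocalizedModule.mk_smul_mk, one_smul, mul_one] at h2
      rwa [show (t • n : N) = (⟨t, ht⟩ : q.primeCompl) • n from rfl, mul_comm u,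
        LocalizedModule.mk_cancel_common_left] at h2
    obtain ⟨τ, hτ, hτq, hτn⟩ := exists_assPts_of_not_mem R S p q hq n hn
    suffices h : q ≤ τ by rwa [le_antisymm h hτq]
    intro s hs
    by_contra hsτ
    obtain ⟨k, hk⟩ := hk s hs
    have h1 := hmul (u : S) hk
    rw [smul_comm, LocalizedModule.smul'_mk, ← Submonoid.smul_def, LocalizedModule.mk_cancel,
      LocalizedModule.smul'_mk] at h1
    obtain ⟨t, ht, htn⟩ := exists_smul_mem_of_mk p q.primeCompl h1
    haveI := (isPrime_of_mem_assPts R S N hτ).1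
    refine hτn (t * s ^ k) ?_ (by rwa [mul_smul])
    exact (inferInstance : τ.IsPrime).mul_notMem (fun h => ht (hτq h)) fun h =>
      hsτ ((inferInstance : τ.IsPrime).mem_of_pow_mem k h)

/-- the closed point is weakly associated when a vector is killed there -/
theorem maximal_mem_weakAss {A M : Type u} [CommRing A] [IsLocalRing A] [AddCommGroup M] [Module A M] (w : M) (hw : w ≠ 0)
    (hk : ∀ a ∈ maximalIdeal A, ∃ k : ℕ, a ^ k • w = 0) : maximalIdeal A ∈ FlatCA.weakAss A M := by
  refine ⟨w, ⟨inferInstance, IsLocalRing.le_maximalIdeal fun h => hw ?_⟩, fun P hP _ a ha => ?_⟩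
  · simpa using (Submodule.mem_annihilator_span_singleton w (1 : A)).1 ((Ideal.eq_top_iff_one _).1 h)
  · obtain ⟨k, hk⟩ := hk a ha
    exact hP.1.mem_of_pow_mem k (hP.2 ((Submodule.mem_annihilator_span_singleton _ _).2 hk))

theorem mem_extend_smul_top {R A X : Type u} [CommRing R] [CommRing A] [Algebra R A] [AddCommGroup X] [Module A X]
    [Module R X] [IsScalarTower R A X] (p : Ideal R) (x : X) :
    x ∈ p.map (algebraMap R A) • (⊤ : Submodule A X) ↔ x ∈ p • (⊤ : Submodule R X) := by
  rw [← Submodule.restrictScalars_mem R, Ideal.smul_restrictScalars, Submodule.restrictScalars_top]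

/-- weakly associated primes of a tensor product, with the henselization abstracted -/
theorem mem_weakAss_tensor_iff_aux {R S N M : Type u} [CommRing R] [CommRing S] [Algebra R S] [Algebra.FiniteType R S]
    [AddCommGroup N] [Module S N] [Module R N] [IsScalarTower R S N] [Module.Finite S N] [AddCommGroup M] [Module R M]
    (p : Ideal R) [p.IsPrime] (q : Ideal S) [q.IsPrime] (hq : q.comap (algebraMap R S) = p)
    [Module.Flat R (LocalizedModule q.primeCompl N)]
    (H : Type u) [CommRing H] [HenselianLocalRing H] [Algebra (Localization.AtPrime p) H]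
    [Module.Flat (Localization.AtPrime p) H] [IsLocalHom (algebraMap (Localization.AtPrime p) H)]
    (hmap : (maximalIdeal (Localization.AtPrime p)).map (algebraMap (Localization.AtPrime p) H) = maximalIdeal H)
    (hH : maximalIdeal H ∈ FlatCA.weakAss H (H ⊗[Localization.AtPrime p] LocalizedModule p.primeCompl M) →
      p ∈ FlatCA.weakAss R M) :
    q ∈ FlatCA.weakAss S (N ⊗[R] M) ↔ (p ∈ FlatCA.weakAss R M ∧ q ∈ assPts R S N p) := by
  let A := Localization.AtPrime p
  let B := Localization.AtPrime q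
  let X := LocalizedModule q.primeCompl N
  let Mp := LocalizedModule p.primeCompl M
  letI : Algebra A B := (Localization.localRingHom p q (algebraMap R S) hq.symm).toAlgebra
  haveI : IsScalarTower R A B := IsScalarTower.of_algebraMap_eq fun r => by
    rw [RingHom.algebraMap_toAlgebra, Localization.localRingHom_to_map, IsScalarTower.algebraMap_apply R S B]
  haveI : IsLocalHom (algebraMap A B) := Localization.isLocalHom_localRingHom p q (algebraMap R S) hq.symm
  haveI : Algebra.EssFiniteType S B := Algebra.EssFiniteType.of_isLocalization B q.primeCompl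
  haveI : Algebra.EssFiniteType R B := Algebra.EssFiniteType.comp R S B
  haveI : Algebra.EssFiniteType A B := Algebra.EssFiniteType.of_comp R A B
  letI : Module A X := Module.compHom X (algebraMap A B)
  haveI : IsScalarTower A B X := IsScalarTower.of_algebraMap_smul fun _ _ => rfl
  haveI : IsScalarTower R A X := IsScalarTower.of_algebraMap_smul fun r x => by
    change algebraMap A B (algebraMap R A r) • x = r • x
    rw [← IsScalarTower.algebraMap_apply, algebraMap_smul]
  haveI : SMulCommClass A S X := ⟨fun a s x => by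
    change algebraMap A B a • s • x = s • algebraMap A B a • x
    rw [smul_comm]⟩
  -- the localised tensor product
  let g : N ⊗[R] M →ₗ[S] X ⊗[R] M := AlgebraTensorModule.rTensor R M (LocalizedModule.mkLinearMap q.primeCompl N)
  haveI : IsLocalizedModule q.primeCompl g := inferInstance
  let eB : X ⊗[A] Mp ≃ₗ[B] X ⊗[R] M :=
    AlgebraTensorModule.congr (LinearEquiv.refl B X) (LocalizedModule.equivTensorProduct p.primeCompl M) ≪≫ₗ
      AlgebraTensorModule.cancelBaseChange R A B X M
  let eS : X ⊗[R] M ≃ₗ[S] X ⊗[A] Mp := (eB.restrictScalars S).symm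
  let θ : N ⊗[R] M →ₗ[S] X ⊗[A] Mp := eS.toLinearMap ∘ₗ g
  haveI : IsLocalizedModule q.primeCompl θ := IsLocalizedModule.of_linearEquiv q.primeCompl g eS
  haveI : Module.Finite B X := Module.Finite.of_isLocalizedModule q.primeCompl (LocalizedModule.mkLinearMap _ N)
  haveI : Module.Flat A X := (Module.flat_iff_of_isLocalization A p.primeCompl X).2 inferInstance
  have hsmul : ∀ x : X, x ∈ maximalIdeal A • (⊤ : Submodule A X) ↔ x ∈ p • (⊤ : Submodule R X) := fun x => by
    rw [← Localization.AtPrime.map_eq_maximalIdeal, mem_extend_smul_top]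
  have hB : ∀ {V : Type u} [AddCommGroup V] [Module B V] [Module S V] [IsScalarTower S B V] (Pz : Submodule S V) (v : V),
      (∀ (c : B) (y : V), y ∈ Pz → c • y ∈ Pz) →
      ((∀ b ∈ maximalIdeal B, ∃ k : ℕ, b ^ k • v ∈ Pz) ↔ ∀ s ∈ q, ∃ k : ℕ, s ^ k • v ∈ Pz) := by
    intro V _ _ _ _ Pz v hstab
    refine ⟨fun h s hs => ?_, fun h b hb => ?_⟩
    · obtain ⟨k, hk⟩ := h (algebraMap S B s) ((IsLocalization.AtPrime.to_map_mem_maximal_iff B q s).2 hs)
      exact ⟨k, by rwa [← map_pow, algebraMap_smul] at hk⟩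
    · obtain ⟨s, u, rfl⟩ := IsLocalization.exists_mk'_eq q.primeCompl b
      obtain ⟨k, hk⟩ := h s ((IsLocalization.AtPrime.mk'_mem_maximal_iff B q s u).1 hb)
      refine ⟨k, ?_⟩
      rw [IsLocalization.mk'_eq_mul_mk'_one, mul_pow, mul_comm, mul_smul, ← map_pow, algebraMap_smul]
      exact hstab _ _ hk
  rw [mem_weakAss_iff q θ, mem_assPts_iff_elem p q hq]
  constructor
  · rintro ⟨z, hz, hk⟩
    have hkB : ∀ b ∈ maximalIdeal B, ∃ k : ℕ, b ^ k • z = 0 := fun b hb => by
      simpa using (hB (⊥ : Submodule S (X ⊗[A] Mp)) z fun c y hy => by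
        rw [(Submodule.mem_bot S).1 hy, smul_zero]; exact zero_mem _).2 (by simpa using hk) b hb
    constructor
    · obtain ⟨w, hw, hwk⟩ := exists_killed_henselian (B := B) (X := X) (M := Mp) hmap z hz fun a ha => by
        obtain ⟨k, hk⟩ := hkB (algebraMap A B a) (map_nonunit (algebraMap A B) a ha)
        exact ⟨k, by rwa [← map_pow, algebraMap_smul] at hk⟩
      exact hH (maximal_mem_weakAss w hw hwk)
    · obtain ⟨x, hx, hxk⟩ := exists_fibre_killed (A := A) (B := B) z hz hkB
      refine ⟨x, fun h => hx ((hsmul x).2 h), fun s hs => ?_⟩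
      obtain ⟨k, hk⟩ := hxk (algebraMap S B s) ((IsLocalization.AtPrime.to_map_mem_maximal_iff B q s).2 hs)
      refine ⟨k, ?_⟩
      rw [← map_pow, algebraMap_smul] at hk
      exact (hsmul _).1 hk
  · rintro ⟨hpM, x, hx, hxk⟩
    obtain ⟨m, hm, hmk⟩ := (mem_weakAss_iff p (LocalizedModule.mkLinearMap p.primeCompl M)).1 hpM
    have hmA : ∀ a ∈ maximalIdeal A, ∃ k : ℕ, a ^ k • m = 0 := fun a ha => by
      obtain ⟨r, u, rfl⟩ := IsLocalization.exists_mk'_eq p.primeCompl a
      obtain ⟨k, hk⟩ := hmk r ((IsLocalization.AtPrime.mk'_mem_maximal_iff A p r u).1 ha)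
      refine ⟨k, ?_⟩
      rw [IsLocalization.mk'_eq_mul_mk'_one, mul_pow, mul_comm, mul_smul, ← map_pow, algebraMap_smul, hk, smul_zero]
    have hxB : ∀ b ∈ maximalIdeal B, ∃ k : ℕ, b ^ k • x ∈ maximalIdeal A • (⊤ : Submodule A X) := fun b hb => by
      obtain ⟨s, u, rfl⟩ := IsLocalization.exists_mk'_eq q.primeCompl b
      obtain ⟨k, hk⟩ := hxk s ((IsLocalization.AtPrime.mk'_mem_maximal_iff B q s u).1 hb)
      refine ⟨k, ?_⟩
      rw [IsLocalization.mk'_eq_mul_mk'_one, mul_pow, mul_comm, mul_smul, ← map_pow, algebraMap_smul,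
        ← mem_map_smul_top (B := B)]
      exact Submodule.smul_mem _ _ ((mem_map_smul_top (B := B) _).2 ((hsmul _).2 hk))
    obtain ⟨z, hz, hzk⟩ := exists_tensor_killed (A := A) (B := B) x (fun h => hx ((hsmul x).1 h)) hxB m hm hmA
    refine ⟨z, hz, fun s hs => ?_⟩
    obtain ⟨k, hk⟩ := hzk (algebraMap S B s) ((IsLocalization.AtPrime.to_map_mem_maximal_iff B q s).2 hs)
    exact ⟨k, by rwa [← map_pow, algebraMap_smul] at hk⟩

set_option backward.isDefEq.respectTransparency true in
/-- weakly associated primes of a tensor product with a module flat at the point -/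
theorem mem_weakAss_tensor_iff {R S N M : Type u} [CommRing R] [CommRing S] [Algebra R S] [Algebra.FiniteType R S]
    [AddCommGroup N] [Module S N] [Module R N] [IsScalarTower R S N] [Module.Finite S N] [AddCommGroup M] [Module R M]
    (p : Ideal R) [p.IsPrime] (q : Ideal S) [q.IsPrime] (hq : q.comap (algebraMap R S) = p)
    [Module.Flat R (LocalizedModule q.primeCompl N)] :
    q ∈ FlatCA.weakAss S (N ⊗[R] M) ↔ (p ∈ FlatCA.weakAss R M ∧ q ∈ assPts R S N p) := by
  let A := Localization.AtPrime p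
  obtain ⟨hloc, hhens⟩ := Groth.Agent.Hensel.exists_henselization A
  obtain ⟨hloc', hsh⟩ := Groth.Agent.Hensel.exists_strictHenselization A
  haveI := hloc
  haveI := hhens
  haveI := hloc'
  haveI := hsh
  haveI := Hensel.flat_env A (IsLocalRing.ResidueField A)
  haveI := Hensel.henselian_env A (IsLocalRing.ResidueField A)
  have hmap := Hensel.map_maximalIdeal_env A (IsLocalRing.ResidueField A)
  exact mem_weakAss_tensor_iff_aux p q hq (Hensel.Env A (IsLocalRing.ResidueField A)) hmap
    ((Groth.Agent.S1234.result M p (Hensel.Env A (IsLocalRing.ResidueField A))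
      (Hensel.Env A (SeparableClosure (IsLocalRing.ResidueField A)))).out 2 0).1

end Groth.Agent.RG.WAss
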