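import Groth.Agent.RG.Fibres
import Mathlib.RingTheory.EssentialFiniteness

/-!
# `N → S' ⊗ N` for local rings
-/

set_option autoImplicit false
set_option linter.style.haveILetI false
set_option backward.isDefEq.respectTransparency false

universe u

open TensorProduct

namespace Groth.Agent.RG

theorem flat_tensor {R S S' N : Type u} [CommRing R] [CommRing S] [CommRing S'] [Algebra R S] [Algebra S S']
    [Algebra R S'] [IsScalarTower R S S'] [Module.Flat S S'] [AddCommGroup N] [Module S N] [Module R N]
    [IsScalarTower R S N] [Module.Flat R N] : Module.Flat R (S' ⊗[S] N) := by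
  refine Module.Flat.iff_lTensor_injective'.2 fun I => ?_
  have h1 : Function.Injective (AlgebraTensorModule.lTensor S N I.subtype) := by
    rw [AlgebraTensorModule.coe_lTensor]
    exact Module.Flat.lTensor_preserves_injective_linearMap _ I.injective_subtype
  have h2 := Module.Flat.lTensor_preserves_injective_linearMap (M := S') _ h1
  have key : ∀ a : (S' ⊗[S] N) ⊗[R] I, (AlgebraTensorModule.lTensor S N I.subtype).lTensor S'
      (AlgebraTensorModule.assoc R S S S' N I a) =
      AlgebraTensorModule.assoc R S S S' N R (I.subtype.lTensor (S' ⊗[S] N) a) := by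
    intro a
    induction a using TensorProduct.induction_on with
    | zero => simp
    | tmul x i =>
      induction x using TensorProduct.induction_on with
      | zero => simp
      | tmul s n => simp
      | add x y hx hy => simp only [add_tmul, map_add, hx, hy]
    | add x y hx hy => simp only [map_add, hx, hy]
  intro a b hab
  exact (AlgebraTensorModule.assoc R S S S' N I).injective (h2 (by rw [key, key, hab]))

attribute [local instance] Algebra.TensorProduct.rightAlgebra in
theorem mem_smul_top_of_mk_mem {R S S' : Type u} [CommRing R] [IsLocalRing R] [CommRing S] [CommRing S'] [Algebra R S]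
    [Algebra S S'] [Algebra R S'] [IsScalarTower R S S'] [Algebra.EssFiniteType R S] [Module.Flat S S']
    (N : Type u) [AddCommGroup N] [Module S N] [Module R N] [IsScalarTower R S N] [Module.Finite S N]
    (h : ∀ q ∈ associatedPrimes S (FlatCA.fiberMod (IsLocalRing.maximalIdeal R) S N),
      ∃ q' : Ideal S', q'.IsPrime ∧ q'.comap (algebraMap S S') = q)
    (x : N) (hx : (1 : S') ⊗ₜ[S] x ∈ IsLocalRing.maximalIdeal R • (⊤ : Submodule R (S' ⊗[S] N))) :
    x ∈ IsLocalRing.maximalIdeal R • (⊤ : Submodule R N) := by
  let m := IsLocalRing.maximalIdeal R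
  let T := m.Fiber S
  let F := T ⊗[S] N
  haveI : Algebra.EssFiniteType m.ResidueField T := inferInstance
  haveI : IsNoetherianRing T := Algebra.EssFiniteType.isNoetherianRing m.ResidueField T
  let inc : S →+* T := algebraMap S T
  let eF : F ≃ₗ[m.ResidueField] m.ResidueField ⊗[R] N :=
    Algebra.IsPushout.cancelBaseChange R m.ResidueField S T N
  by_contra hne
  have hunit : ∀ c ∉ m, IsUnit c := fun c hc => IsLocalRing.notMem_maximalIdeal.1 hc
  have hiff : ∀ t : S, t • ((1 : T) ⊗ₜ[S] x) = 0 ↔ t • x ∈ m • (⊤ : Submodule R N) := by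
    intro t
    rw [← tmul_smul, ← eF.map_eq_zero_iff, Algebra.IsPushout.cancelBaseChange_tmul, one_tmul_eq_zero_iff]
    refine ⟨fun ⟨c, hc, hcn⟩ => ?_, fun h => ⟨1, fun h1 => m.ne_top_iff_one.1 (IsLocalRing.maximalIdeal.isMaximal R).ne_top h1,
      by rwa [one_smul]⟩⟩
    obtain ⟨v, rfl⟩ := hunit c hc
    have := Submodule.smul_mem _ (↑v⁻¹ : R) hcn
    rwa [smul_smul, Units.inv_mul, one_smul] at this
  have hx0 : (1 : T) ⊗ₜ[S] x ≠ (0 : F) := fun h0 => by
    refine hne ?_
    have := (hiff 1).1 (by rw [one_smul]; exact h0)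
    rwa [one_smul] at this
  obtain ⟨P, hP, hle⟩ := exists_le_isAssociatedPrime_of_isNoetherianRing T _ hx0
  haveI := hP.isPrime
  have hσ : P.comap inc ∈ associatedPrimes S (FlatCA.fiberMod m S N) := by
    obtain ⟨z, hz⟩ := hP.2
    refine ⟨Ideal.IsPrime.comap inc, z, ?_⟩
    rw [hz, Ideal.comap_radical]
    congr 1
  obtain ⟨q', hq'p, hq'⟩ := h _ hσ
  haveI := hq'p
  refine not_mem_of_lift m _ q' hq' x (fun t ht htx => ht (hle ?_)) hx
  rw [Submodule.mem_colon_singleton, Submodule.mem_bot, algebraMap_smul]
  exact (hiff t).2 htx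

end Groth.Agent.RG
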