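import Groth.Agent.RG.Eft
import Groth.Prelude.Def_FlatCA
import Mathlib.RingTheory.Flat.Localization
import Mathlib.RingTheory.Localization.Module

/-!
# Finite modules flat at a prime are finitely presented there
-/

set_option autoImplicit false
set_option linter.style.haveILetI false
set_option backward.isDefEq.respectTransparency false

universe u

open TensorProduct

namespace Groth.Agent.RG

theorem fp_of_flatAt {R S : Type u} [CommRing R] [CommRing S] [Algebra R S] [Algebra.EssFiniteType R S]
    (N : Type u) [AddCommGroup N] [Module S N] [Module R N] [IsScalarTower R S N] [Module.Finite S N]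
    (q : Ideal S) [q.IsPrime] [Module.Flat R (LocalizedModule q.primeCompl N)] :
    Module.FinitePresentation (Localization.AtPrime q) (LocalizedModule q.primeCompl N) := by
  let p := q.comap (algebraMap R S)
  let A := Localization.AtPrime p
  let B := Localization.AtPrime q
  let X := LocalizedModule q.primeCompl N
  letI : Algebra A B := (Localization.localRingHom p q (algebraMap R S) rfl).toAlgebra
  haveI : IsScalarTower R A B := IsScalarTower.of_algebraMap_eq fun r => by
    rw [RingHom.algebraMap_toAlgebra, Localization.localRingHom_to_map, IsScalarTower.algebraMap_apply R S B]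
  haveI : IsLocalHom (algebraMap A B) := Localization.isLocalHom_localRingHom p q (algebraMap R S) rfl
  haveI : Algebra.EssFiniteType S B := Algebra.EssFiniteType.of_isLocalization B q.primeCompl
  haveI : Algebra.EssFiniteType R B := Algebra.EssFiniteType.comp R S B
  haveI : Algebra.EssFiniteType A B := Algebra.EssFiniteType.of_comp R A B
  letI : Module A X := Module.compHom X (algebraMap A B)
  haveI : IsScalarTower A B X := IsScalarTower.of_algebraMap_smul fun _ _ => rfl
  haveI : IsScalarTower R A X := IsScalarTower.of_algebraMap_smul fun r x => by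
    change algebraMap A B (algebraMap R A r) • x = r • x
    rw [← IsScalarTower.algebraMap_apply, algebraMap_smul]
  haveI : Module.Finite B X := Module.Finite.of_isLocalizedModule q.primeCompl (LocalizedModule.mkLinearMap _ N)
  haveI : Module.Flat A X := (Module.flat_iff_of_isLocalization A p.primeCompl X).2 inferInstance
  exact (eft_main (A := A) (B := B) X (LinearMap.id : X →ₗ[A] X) fun _ h => h).2.1

theorem essFinitePresentation_of_flat {R S : Type u} [CommRing R] [CommRing S] [Algebra R S] [Algebra.FiniteType R S]
    (q : Ideal S) [q.IsPrime] [Module.Flat R (Localization.AtPrime q)] :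
    FlatCA.EssFinitePresentation R (Localization.AtPrime q) := by
  classical
  obtain ⟨n, f, hf⟩ := Algebra.FiniteType.iff_quotient_mvPolynomial''.1 (inferInstance : Algebra.FiniteType R S)
  let P := MvPolynomial (Fin n) R
  letI : Algebra P S := f.toRingHom.toAlgebra
  haveI : IsScalarTower R P S := IsScalarTower.of_algebraMap_eq fun r => (f.commutes r).symm
  haveI : Module.Finite P S := Module.Finite.of_surjective (Algebra.linearMap P S) hf
  let q₀ : Ideal P := q.comap (algebraMap P S)
  let B := Localization.AtPrime q
  have hM : Algebra.algebraMapSubmonoid S q₀.primeCompl = q.primeCompl := by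
    ext s
    constructor
    · rintro ⟨x, hx, rfl⟩
      exact hx
    · intro hs
      obtain ⟨x, rfl⟩ := hf s
      exact ⟨x, hs, rfl⟩
  haveI : IsLocalization (Algebra.algebraMapSubmonoid S q₀.primeCompl) B := by rw [hM]; infer_instance
  haveI : IsLocalizedModule q₀.primeCompl (IsScalarTower.toAlgHom P S B).toLinearMap :=
    (isLocalizedModule_iff_isLocalization).2 inferInstance
  let e : LocalizedModule q₀.primeCompl S ≃ₗ[P] B :=
    IsLocalizedModule.iso q₀.primeCompl (IsScalarTower.toAlgHom P S B).toLinearMap
  let C := Localization.AtPrime q₀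
  haveI : Module.Flat R (LocalizedModule q₀.primeCompl S) := Module.Flat.of_linearEquiv (e.restrictScalars R)
  haveI := fp_of_flatAt (R := R) S q₀
  have hu : ∀ y : q₀.primeCompl, IsUnit (algebraMap P B y) := fun y =>
    IsLocalization.map_units (M := q.primeCompl) B ⟨algebraMap P S y, y.2⟩
  let g : C →ₐ[P] B := IsLocalization.liftAlgHom (M := q₀.primeCompl) (f := Algebra.ofId P B) hu
  have hg : Function.Surjective g := fun b => by
    obtain ⟨s, t, rfl⟩ := IsLocalization.exists_mk'_eq q.primeCompl b
    obtain ⟨x, rfl⟩ := hf s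
    obtain ⟨y, hy⟩ := hf t.1
    have hyq : y ∈ q₀.primeCompl := fun h => t.2 (hy ▸ h)
    refine ⟨IsLocalization.mk' C x (⟨y, hyq⟩ : q₀.primeCompl), ?_⟩
    have hcom : ∀ z : P, g (algebraMap P C z) = algebraMap S B (f z) := fun z => g.commutes z
    have := congrArg g (IsLocalization.mk'_spec C x (⟨y, hyq⟩ : q₀.primeCompl))
    rw [map_mul, hcom, hcom, hy] at this
    exact IsLocalization.eq_mk'_iff_mul_eq.2 this
  letI : Algebra C B := g.toRingHom.toAlgebra
  haveI : IsScalarTower P C B := IsScalarTower.of_algebraMap_eq fun z => (g.commutes z).symm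
  let eC : LocalizedModule q₀.primeCompl S ≃ₗ[C] B := LinearEquiv.extendScalarsOfIsLocalization q₀.primeCompl C e
  haveI : Module.FinitePresentation C B := Module.FinitePresentation.of_equiv eC
  obtain ⟨T, hT⟩ := Module.FinitePresentation.fg_ker (Algebra.linearMap C B) hg
  choose x s hxs using fun y : T => IsLocalization.exists_mk'_eq q₀.primeCompl y.1
  let J : Ideal P := Ideal.span (Set.range x)
  have hJ : J.map (algebraMap P C) = RingHom.ker g.toRingHom := by
    refine le_antisymm ?_ ?_
    · rw [Ideal.map_span, Ideal.span_le]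
      rintro _ ⟨_, ⟨y, rfl⟩, rfl⟩
      have h : y.1 ∈ LinearMap.ker (Algebra.linearMap C B) := hT ▸ Submodule.subset_span y.2
      have h' : g y.1 = 0 := h
      change g (algebraMap P C (x y)) = 0
      rw [← IsLocalization.mk'_spec C (x y) (s y), hxs, map_mul, h', zero_mul]
    · intro c hc
      have hc' : c ∈ Submodule.span C (T : Set C) := hT.symm ▸ hc
      refine (Submodule.span_le.2 fun y hy => ?_) hc'
      rw [show y = IsLocalization.mk' C (x ⟨y, hy⟩) (s ⟨y, hy⟩) from (hxs ⟨y, hy⟩).symm,
        IsLocalization.mk'_eq_mul_mk'_one]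
      exact Ideal.mul_mem_right _ _ (Ideal.mem_map_of_mem _ (Ideal.subset_span ⟨⟨y, hy⟩, rfl⟩))
  let S₀ := P ⧸ J
  let π : S₀ →ₐ[R] B := Ideal.Quotient.liftₐ J (IsScalarTower.toAlgHom R P B) fun z hz => by
    have h : algebraMap P C z ∈ RingHom.ker g.toRingHom := hJ ▸ Ideal.mem_map_of_mem _ hz
    exact (g.commutes z).symm.trans h
  letI : Algebra S₀ B := π.toRingHom.toAlgebra
  haveI : IsScalarTower R S₀ B := IsScalarTower.of_algebraMap_eq fun r => (π.commutes r).symm
  let eq' : (C ⧸ J.map (algebraMap P C)) ≃+* B :=
    (Ideal.quotEquivOfEq hJ).trans (RingHom.quotientKerEquivOfSurjective hg)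
  let ea : (C ⧸ J.map (algebraMap P C)) ≃ₐ[S₀] B := AlgEquiv.ofRingEquiv (f := eq') fun z => by
    obtain ⟨z, rfl⟩ := Ideal.Quotient.mk_surjective z
    exact g.commutes z
  haveI : IsLocalization (Algebra.algebraMapSubmonoid S₀ q₀.primeCompl) B :=
    IsLocalization.isLocalization_of_algEquiv (S := C ⧸ J.map (algebraMap P C)) (Algebra.algebraMapSubmonoid S₀ q₀.primeCompl) ea
  exact ⟨S₀, inferInstance, inferInstance, inferInstance, inferInstance, Algebra.algebraMapSubmonoid S₀ q₀.primeCompl,
    Algebra.FinitePresentation.quotient (Submodule.fg_span (Set.finite_range x)), inferInstance⟩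

end Groth.Agent.RG
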