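import Groth.Agent.RG.AssPts
import Groth.Agent.RG.FlatAt
import Groth.Agent.FlatSpread.Fp
import Mathlib.Algebra.Module.FinitePresentation
import Mathlib.RingTheory.Flat.Localization

/-!
# Openness of the flat locus over a ring with finitely many weakly associated primes
-/

set_option autoImplicit false
set_option linter.style.haveILetI false
set_option backward.isDefEq.respectTransparency false

universe u

open TensorProduct

namespace Groth.Agent.RG

theorem lmap_mk {S F N : Type u} [CommRing S] [AddCommGroup F] [Module S F] [AddCommGroup N] [Module S N] (U : Submonoid S)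
    (π : F →ₗ[S] N) (k : F) (s : U) : LocalizedModule.map U π (LocalizedModule.mk k s) = LocalizedModule.mk (π k) s := by
  rw [IsLocalizedModule.mk_eq_mk', IsLocalizedModule.mk_eq_mk']
  exact IsLocalizedModule.map_mk' U _ _ π k s

/-- localising twice -/
theorem flat_localized_powers {R S : Type u} [CommRing R] [CommRing S] [Algebra R S] (M : Type u) [AddCommGroup M]
    [Module S M] [Module R M] [IsScalarTower R S M] (g : S)
    (h : ∀ (σ : Ideal S) [σ.IsPrime], g ∉ σ → Module.Flat R (LocalizedModule σ.primeCompl M)) :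
    Module.Flat R (LocalizedModule (Submonoid.powers g) M) := by
  let S₁ := Localization (Submonoid.powers g)
  let Y := LocalizedModule (Submonoid.powers g) M
  refine Module.flat_of_isLocalized_maximal S₁ Y
    (fun P : Ideal S₁ => LocalizedModule P.primeCompl Y) (fun P => LocalizedModule.mkLinearMap P.primeCompl Y)
    fun P _ => ?_
  let σ := P.comap (algebraMap S S₁)
  have hgσ : g ∉ σ := fun hg =>
    (Ideal.IsMaximal.ne_top (I := P) inferInstance) (Ideal.eq_top_of_isUnit_mem P (show algebraMap S S₁ g ∈ P from hg)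
      (IsLocalization.map_units S₁ (⟨g, Submonoid.mem_powers g⟩ : Submonoid.powers g)))
  let Z := LocalizedModule P.primeCompl Y
  let ψ : M →ₗ[S] Z := ((LocalizedModule.mkLinearMap P.primeCompl Y).restrictScalars S) ∘ₗ
    LocalizedModule.mkLinearMap (Submonoid.powers g) M
  haveI : IsLocalizedModule σ.primeCompl ψ := by
    refine { map_units := fun t => ?_, surj := fun z => ?_, exists_of_eq := fun {x₁ x₂} hx => ?_ }
    · rw [Module.End.isUnit_iff]
      have hb := (Module.End.isUnit_iff _).1
        (IsLocalizedModule.map_units (LocalizedModule.mkLinearMap P.primeCompl Y) (⟨algebraMap S S₁ t, t.2⟩ : P.primeCompl))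
      convert hb using 1
      funext z
      simp only [Module.algebraMap_end_apply]
      exact (algebraMap_smul S₁ (t : S) z).symm
    · obtain ⟨y, s, rfl⟩ := exists_mk z
      obtain ⟨m, gk, rfl⟩ := exists_mk y
      obtain ⟨a, gl, has⟩ := IsLocalization.exists_mk'_eq (Submonoid.powers g) (s : S₁)
      have ha : a ∉ σ := fun h => s.2 (by
        change (s : S₁) ∈ P
        rw [← has, IsLocalization.mk'_eq_mul_mk'_one]
        exact P.mul_mem_right _ h)
      have hgk : (gk : S) ∉ σ := by
        obtain ⟨k, hk⟩ := gk.2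
        exact fun h => hgσ (Ideal.IsPrime.mem_of_pow_mem inferInstance k
          (show g ^ k ∈ σ by rw [show g ^ k = (gk : S) from hk]; exact h))
      refine ⟨⟨(gl : S) • m, ⟨a * gk, Ideal.IsPrime.mul_notMem inferInstance ha hgk⟩⟩, ?_⟩
      change (a * (gk : S)) • LocalizedModule.mk (LocalizedModule.mk m gk) s = ψ ((gl : S) • m)
      have e1 : algebraMap S S₁ a = algebraMap S S₁ (gl : S) * (s : S₁) := by
        rw [← has, mul_comm]
        exact (IsLocalization.mk'_spec S₁ a gl).symm
      rw [map_smul, mul_smul, ← algebraMap_smul S₁ a, e1, mul_smul, algebraMap_smul]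
      congr 1
      rw [← algebraMap_smul S₁ (gk : S), ← mul_smul, LocalizedModule.smul'_mk]
      change LocalizedModule.mk _ s = LocalizedModule.mk (LocalizedModule.mk m 1) 1
      rw [mul_smul, algebraMap_smul, LocalizedModule.smul'_mk, ← Submonoid.smul_def gk m, LocalizedModule.mk_cancel,
        ← Submonoid.smul_def, LocalizedModule.mk_cancel]
    · have h0 : ψ (x₁ - x₂) = 0 := by rw [map_sub, hx, sub_self]
      obtain ⟨s, hs⟩ := (IsLocalizedModule.eq_zero_iff P.primeCompl (LocalizedModule.mkLinearMap P.primeCompl Y)).1 h0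
      obtain ⟨a, gl, has⟩ := IsLocalization.exists_mk'_eq (Submonoid.powers g) (s : S₁)
      have ha : a ∉ σ := fun h => s.2 (by
        change (s : S₁) ∈ P
        rw [← has, IsLocalization.mk'_eq_mul_mk'_one]
        exact P.mul_mem_right _ h)
      have h1 : LocalizedModule.mkLinearMap (Submonoid.powers g) M (a • (x₁ - x₂)) = 0 := by
        rw [map_smul, ← algebraMap_smul S₁ a, ← IsLocalization.mk'_spec S₁ a gl, has, mul_comm, mul_smul]
        rw [show (s : S₁) • _ = (0 : Y) from hs, smul_zero]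
      obtain ⟨gk, hgk⟩ := (IsLocalizedModule.eq_zero_iff (Submonoid.powers g)
        (LocalizedModule.mkLinearMap (Submonoid.powers g) M)).1 h1
      have hgk' : (gk : S) ∉ σ := by
        obtain ⟨k, hk⟩ := gk.2
        exact fun h => hgσ (Ideal.IsPrime.mem_of_pow_mem inferInstance k
          (show g ^ k ∈ σ by rw [show g ^ k = (gk : S) from hk]; exact h))
      refine ⟨⟨(gk : S) * a, Ideal.IsPrime.mul_notMem inferInstance hgk' ha⟩, ?_⟩
      rw [← sub_eq_zero]
      change ((gk : S) * a) • x₁ - ((gk : S) * a) • x₂ = 0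
      rw [← smul_sub, mul_smul]
      exact hgk
  haveI := h σ hgσ
  exact Module.Flat.of_linearEquiv ((IsLocalizedModule.iso σ.primeCompl ψ).restrictScalars R).symm

/-- a surjection which is injective near `U` becomes bijective after localising at `U` -/
theorem exists_localized_equiv {S F N : Type u} [CommRing S] [AddCommGroup F] [Module S F] [AddCommGroup N] [Module S N]
    (π : F →ₗ[S] N) (hπ : Function.Surjective π) (U : Submonoid S) (h : ∀ k, π k = 0 → ∃ t ∈ U, t • k = 0) :
    Nonempty (LocalizedModule U F ≃ₗ[Localization U] LocalizedModule U N) := by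
  refine ⟨LinearEquiv.ofBijective (LocalizedModule.map U π) ⟨?_, fun z => ?_⟩⟩
  · rw [injective_iff_map_eq_zero]
    intro z hz
    obtain ⟨k, s, rfl⟩ := exists_mk z
    rw [lmap_mk] at hz
    obtain ⟨t, ht⟩ := LocalizedModule.mk_eq.1 (hz.trans (LocalizedModule.zero_mk 1).symm)
    simp only [Submonoid.smul_def, Submonoid.coe_one, one_smul, smul_zero] at ht
    rw [← map_smul] at ht
    obtain ⟨t', ht', hk⟩ := h _ ht
    rw [← LocalizedModule.mk_cancel_common_left (⟨t', ht'⟩ * t) s k]
    rw [Submonoid.smul_def, Submonoid.coe_mul, mul_smul, hk, LocalizedModule.zero_mk]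
  · obtain ⟨n, s, rfl⟩ := exists_mk z
    obtain ⟨k, rfl⟩ := hπ n
    exact ⟨LocalizedModule.mk k s, by rw [lmap_mk]⟩

/-- near a point of flatness, a presentation becomes finite and flat -/
theorem exists_nhd_flat {R S : Type u} [CommRing R] [CommRing S] [Algebra R S] [Algebra.FinitePresentation R S]
    (hR : (FlatCA.weakAss R R).Finite) {r : ℕ} {N : Type u} [AddCommGroup N] [Module S N] [Module R N]
    [IsScalarTower R S N] (φ : (Fin r → S) →ₗ[S] N) (hφ : Function.Surjective φ)
    (q : Ideal S) [q.IsPrime] (hq : Module.Flat R (LocalizedModule q.primeCompl N)) :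
    ∃ (g : S) (K₀ : Submodule S (Fin r → S)), g ∉ q ∧ K₀.FG ∧ K₀ ≤ LinearMap.ker φ ∧
      (∀ k ∈ LinearMap.ker φ, ∃ n : ℕ, g ^ n • k ∈ K₀) ∧
      ∀ (σ : Ideal S) [σ.IsPrime], g ∉ σ → Module.Flat R (LocalizedModule σ.primeCompl ((Fin r → S) ⧸ K₀)) := by
  classical
  haveI : Module.Finite S N := Module.Finite.of_surjective φ hφ
  haveI := fp_of_flatAt (R := R) N q
  let K := LinearMap.ker φ
  let F := LocalizedModule q.primeCompl (Fin r → S)
  let φq : F →ₗ[Localization.AtPrime q] LocalizedModule q.primeCompl N := LocalizedModule.map q.primeCompl φ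
  have hφq : Function.Surjective φq := fun z => by
    obtain ⟨n, s, rfl⟩ := exists_mk z
    obtain ⟨k, rfl⟩ := hφ n
    exact ⟨LocalizedModule.mk k s, lmap_mk _ φ k s⟩
  haveI : Module.Finite (Localization.AtPrime q) F :=
    Module.Finite.of_isLocalizedModule q.primeCompl (LocalizedModule.mkLinearMap _ (Fin r → S))
  obtain ⟨T, hT⟩ := Module.FinitePresentation.fg_ker φq hφq
  have hnum : ∀ y : T, ∃ k ∈ K, ∃ s : q.primeCompl,
      (s : S) • (y : F) = LocalizedModule.mkLinearMap q.primeCompl _ k := by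
    intro y
    have hy : φq y = 0 := by
      have : (y : F) ∈ LinearMap.ker φq := hT ▸ Submodule.subset_span y.2
      exact this
    obtain ⟨k, s, hks⟩ := exists_mk (y : F)
    rw [hks, show φq (LocalizedModule.mk k s) = LocalizedModule.mk (φ k) s from lmap_mk _ φ k s] at hy
    obtain ⟨t, ht⟩ := LocalizedModule.mk_eq.1 (hy.trans (LocalizedModule.zero_mk 1).symm)
    simp only [Submonoid.smul_def, Submonoid.coe_one, one_smul, smul_zero] at ht
    refine ⟨(t : S) • k, by rw [LinearMap.mem_ker, map_smul, ht], t * s, ?_⟩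
    rw [hks, LocalizedModule.smul'_mk, Submonoid.coe_mul, mul_comm, mul_smul, ← Submonoid.smul_def,
      LocalizedModule.mk_cancel]
    rfl
  choose k hkK s hs using hnum
  let K₀ := Submodule.span S (Set.range k)
  let M₀ := (Fin r → S) ⧸ K₀
  have hK₀ : K₀ ≤ K := Submodule.span_le.2 (by rintro _ ⟨y, rfl⟩; exact hkK y)
  let π : M₀ →ₗ[S] N := K₀.liftQ φ hK₀
  have hπ : Function.Surjective π := fun n => by
    obtain ⟨x, rfl⟩ := hφ n
    exact ⟨K₀.mkQ x, rfl⟩
  have hloc : ∀ x, π x = 0 → ∃ t ∉ q, t • x = 0 := by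
    intro x hx
    obtain ⟨x, rfl⟩ := Submodule.mkQ_surjective K₀ x
    let L : F →ₗ[Localization.AtPrime q] LocalizedModule q.primeCompl M₀ := LocalizedModule.map q.primeCompl K₀.mkQ
    have h1 : LocalizedModule.mk x (1 : q.primeCompl) ∈ Submodule.span (Localization.AtPrime q) (T : Set F) := by
      rw [hT, LinearMap.mem_ker]
      refine (lmap_mk q.primeCompl φ x 1).trans ?_
      rw [show φ x = 0 from hx, LocalizedModule.zero_mk]
    have hmem : L (LocalizedModule.mk x (1 : q.primeCompl)) = 0 := by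
      refine LinearMap.mem_ker.1 ((Submodule.span_le.2 fun y hy => LinearMap.mem_ker.2 ?_) h1)
      have e := congrArg L (hs ⟨y, hy⟩)
      rw [LinearMap.map_smul_of_tower] at e
      have e0 : L (LocalizedModule.mkLinearMap q.primeCompl _ (k ⟨y, hy⟩)) = 0 := by
        change L (LocalizedModule.mk _ 1) = 0
        refine (lmap_mk q.primeCompl K₀.mkQ _ 1).trans ?_
        rw [show K₀.mkQ (k ⟨y, hy⟩) = 0 from
          (Submodule.Quotient.mk_eq_zero K₀).2 (Submodule.subset_span ⟨⟨y, hy⟩, rfl⟩), LocalizedModule.zero_mk]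
      rw [e0] at e
      exact ((Module.End.isUnit_iff _).1 (IsLocalizedModule.map_units
        (LocalizedModule.mkLinearMap q.primeCompl M₀) (s ⟨y, hy⟩))).1 (e.trans (map_zero _).symm)
    replace hmem := (lmap_mk q.primeCompl K₀.mkQ x 1).symm.trans hmem
    obtain ⟨⟨t, ht⟩, htx⟩ := (IsLocalizedModule.eq_zero_iff q.primeCompl (LocalizedModule.mkLinearMap q.primeCompl M₀)).1 hmem
    exact ⟨t, ht, htx⟩
  haveI : Module.FinitePresentation S M₀ :=
    Module.finitePresentation_of_surjective K₀.mkQ (Submodule.mkQ_surjective K₀)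
      (by rw [Submodule.ker_mkQ]; exact Submodule.fg_span (Set.finite_range k))
  obtain ⟨eq'⟩ := exists_localized_equiv π hπ q.primeCompl fun x hx => by
    obtain ⟨t, ht, htx⟩ := hloc x hx
    exact ⟨t, ht, htx⟩
  have hM₀q : Module.Flat R (LocalizedModule q.primeCompl M₀) :=
    Module.Flat.of_linearEquiv (eq'.restrictScalars R)
  obtain ⟨_, ⟨g₀, rfl⟩, hgq, hsub⟩ := PrimeSpectrum.isTopologicalBasis_basic_opens.exists_subset_of_mem_open
    (show (⟨q, inferInstance⟩ : PrimeSpectrum S) ∈
      {q' : PrimeSpectrum S | Module.Flat R (LocalizedModule q'.asIdeal.primeCompl M₀)} from hM₀q)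
    FlatSpread.isOpen_flatLocus
  have hflat : ∀ (σ : Ideal S) [σ.IsPrime], g₀ ∉ σ → Module.Flat R (LocalizedModule σ.primeCompl M₀) :=
    fun σ hσ hg => hsub (show (⟨σ, hσ⟩ : PrimeSpectrum S) ∈ _ from hg)
  let Pts : Set (Ideal S) :=
    {σ | ∃ (p : Ideal R) (_ : p.IsPrime), p ∈ FlatCA.weakAss R R ∧ σ ∈ assPts R S M₀ p}
  have hfin : Pts.Finite := by
    let f : Ideal R → Set (Ideal S) := fun p => {σ | ∃ (_ : p.IsPrime), σ ∈ assPts R S M₀ p}
    refine (hR.biUnion (t := f) fun p _ => ?_).subset ?_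
    · by_cases hp : p.IsPrime
      · exact (finite_assPts R S M₀ p).subset fun σ ⟨_, h⟩ => h
      · exact Set.finite_empty.subset fun σ ⟨h, _⟩ => absurd h hp
    · rintro σ ⟨p, hp, hpR, hσ⟩
      exact Set.mem_biUnion hpR ⟨hp, hσ⟩
  have hbad : ∀ σ ∈ hfin.toFinset.filter (fun σ => ¬ σ ≤ q), ∃ t ∈ σ, t ∉ q := fun σ hσ =>
    SetLike.not_le_iff_exists.1 (Finset.mem_filter.1 hσ).2
  choose! t htσ htq using hbad
  let g : S := g₀ * ∏ σ ∈ hfin.toFinset.filter (fun σ => ¬ σ ≤ q), t σ
  refine ⟨g, K₀, ?_, Submodule.fg_span (Set.finite_range k), hK₀, fun x hx => ?_, fun σ hσ hg => ?_⟩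
  · refine Ideal.IsPrime.mul_notMem inferInstance hgq fun h => ?_
    obtain ⟨σ, hσ, h'⟩ := (inferInstance : q.IsPrime).prod_mem_iff.1 h
    exact htq σ hσ h'
  · by_contra hcon
    push Not at hcon
    obtain ⟨p, hp, σ, hpR, hσ, hd, hσx⟩ := exists_assPt hR M₀ (Submonoid.powers g)
      (fun σ hσ hd => hflat σ fun h =>
        Set.disjoint_left.1 hd (σ.mul_mem_right _ h : g ∈ σ) (Submonoid.mem_powers g))
      (K₀.mkQ x) (by
        rintro _ ⟨n, rfl⟩ h
        rw [← map_smul, Submodule.mkQ_apply, Submodule.Quotient.mk_eq_zero] at h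
        exact hcon n h)
    have hσq : σ ≤ q := by
      by_contra hne
      have hm : σ ∈ hfin.toFinset.filter (fun σ => ¬ σ ≤ q) :=
        Finset.mem_filter.2 ⟨hfin.mem_toFinset.2 ⟨p, hp, hpR, hσ⟩, hne⟩
      exact Set.disjoint_left.1 hd (σ.mul_mem_left g₀ (Ideal.mem_of_dvd _ (Finset.dvd_prod_of_mem t hm) (htσ σ hm)))
        (Submonoid.mem_powers g)
    obtain ⟨u, hu, hux⟩ := hloc (K₀.mkQ x) hx
    exact hσx u (fun h => hu (hσq h)) hux
  · exact hflat σ fun h => hg (σ.mul_mem_right _ h)

/-- flatness and finite presentation spread out from a point of flatness -/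
theorem exists_fp_flat {R S : Type u} [CommRing R] [CommRing S] [Algebra R S] [Algebra.FinitePresentation R S]
    (hR : (FlatCA.weakAss R R).Finite) (N : Type u) [AddCommGroup N] [Module S N] [Module R N]
    [IsScalarTower R S N] [Module.Finite S N]
    (q : Ideal S) [q.IsPrime] (hq : Module.Flat R (LocalizedModule q.primeCompl N)) :
    ∃ g : S, g ∉ q ∧ (∀ (σ : Ideal S) [σ.IsPrime], g ∉ σ → Module.Flat R (LocalizedModule σ.primeCompl N)) ∧
      Module.FinitePresentation (Localization.Away g) (LocalizedModule (Submonoid.powers g) N) ∧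
      Module.Flat R (LocalizedModule (Submonoid.powers g) N) := by
  obtain ⟨r, φ, hφ⟩ := Module.Finite.exists_fin' S N
  obtain ⟨g, K₀, hg, hK₀, hle, hgK, hflat⟩ := exists_nhd_flat hR φ hφ q hq
  let π : ((Fin r → S) ⧸ K₀) →ₗ[S] N := K₀.liftQ φ hle
  have hπ : Function.Surjective π := fun n => by
    obtain ⟨x, rfl⟩ := hφ n
    exact ⟨K₀.mkQ x, rfl⟩
  have hker : ∀ k, π k = 0 → ∃ n : ℕ, g ^ n • k = 0 := by
    intro k hk
    obtain ⟨x, rfl⟩ := Submodule.mkQ_surjective K₀ k
    obtain ⟨n, hn⟩ := hgK x hk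
    exact ⟨n, by rw [← map_smul, Submodule.mkQ_apply, (Submodule.Quotient.mk_eq_zero K₀).2 hn]⟩
  have hflatN : ∀ (σ : Ideal S) [σ.IsPrime], g ∉ σ → Module.Flat R (LocalizedModule σ.primeCompl N) := by
    intro σ hσ hgσ
    obtain ⟨e⟩ := exists_localized_equiv π hπ σ.primeCompl fun k hk => by
      obtain ⟨n, hn⟩ := hker k hk
      exact ⟨g ^ n, fun h => hgσ (hσ.mem_of_pow_mem n h), hn⟩
    haveI := hflat σ hgσ
    exact Module.Flat.of_linearEquiv (e.restrictScalars R).symm
  refine ⟨g, hg, hflatN, ?_, flat_localized_powers N g hflatN⟩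
  haveI : Module.FinitePresentation S ((Fin r → S) ⧸ K₀) :=
    Module.finitePresentation_of_surjective K₀.mkQ (Submodule.mkQ_surjective K₀) (by rwa [Submodule.ker_mkQ])
  haveI : Module.FinitePresentation (Localization.Away g) (LocalizedModule (Submonoid.powers g) ((Fin r → S) ⧸ K₀)) :=
    inferInstance
  obtain ⟨e⟩ := exists_localized_equiv π hπ (Submonoid.powers g) fun k hk => by
    obtain ⟨n, hn⟩ := hker k hk
    exact ⟨g ^ n, ⟨n, rfl⟩, hn⟩
  exact Module.FinitePresentation.of_equiv e

/-- everywhere flat finite modules are finitely presented -/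
theorem finitePresentation_of_flat {R S : Type u} [CommRing R] [CommRing S] [Algebra R S] [Algebra.FinitePresentation R S]
    (hR : (FlatCA.weakAss R R).Finite) (N : Type u) [AddCommGroup N] [Module S N] [Module R N]
    [IsScalarTower R S N] [Module.Finite S N]
    (h : ∀ (q : Ideal S) [q.IsPrime], Module.Flat R (LocalizedModule q.primeCompl N)) :
    Module.FinitePresentation S N := by
  classical
  obtain ⟨r, φ, hφ⟩ := Module.Finite.exists_fin' S N
  choose g K₀ hg hK₀ hle hgK hflat using fun q : PrimeSpectrum S => exists_nhd_flat hR φ hφ q.asIdeal (h q.asIdeal)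
  obtain ⟨s, hs⟩ := isCompact_univ.elim_finite_subcover (fun q : PrimeSpectrum S => (PrimeSpectrum.basicOpen (g q) : Set (PrimeSpectrum S)))
    (fun q => (PrimeSpectrum.basicOpen (g q)).isOpen) (fun q _ => Set.mem_iUnion.2 ⟨q, hg q⟩)
  let K₁ := s.sup K₀
  have hK₁ : K₁.FG := Submodule.fg_finset_sup s K₀ fun q _ => hK₀ q
  have hker : LinearMap.ker φ = K₁ := by
    refine le_antisymm (fun k hk => ?_) (Finset.sup_le fun q _ => hle q)
    let I : Ideal S := K₁.colon {k}
    have hI : I = ⊤ := by
      by_contra hne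
      obtain ⟨P, hP, hIP⟩ := Ideal.exists_le_maximal I hne
      obtain ⟨q, hq, hPq⟩ := Set.mem_iUnion₂.1 (hs (Set.mem_univ (⟨P, hP.isPrime⟩ : PrimeSpectrum S)))
      obtain ⟨n, hn⟩ := hgK q k hk
      exact hPq (hP.isPrime.mem_of_pow_mem n (hIP (Submodule.mem_colon_singleton.2 (Finset.le_sup (f := K₀) hq hn))))
    have := Submodule.mem_colon_singleton.1 ((Ideal.eq_top_iff_one I).1 hI)
    rwa [one_smul] at this
  exact Module.finitePresentation_of_surjective φ hφ (hker ▸ hK₁)

theorem weakAss_finite_of_isDomain (R : Type u) [CommRing R] [IsDomain R] : (FlatCA.weakAss R R).Finite := by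
  refine (Set.finite_singleton (⊥ : Ideal R)).subset ?_
  rintro p ⟨m, hm⟩
  rcases eq_or_ne m 0 with rfl | hne
  · exfalso
    have h1 : (Submodule.span R {(0 : R)}).annihilator = ⊤ :=
      (Ideal.eq_top_iff_one _).2 ((Submodule.mem_annihilator_span_singleton _ _).2 (smul_zero _))
    rw [h1] at hm
    exact hm.1.1.ne_top (top_le_iff.1 hm.1.2)
  · have h1 : (Submodule.span R {m}).annihilator = ⊥ := by
      refine (Submodule.eq_bot_iff _).2 fun a ha => ?_
      exact (mul_eq_zero.1 ((Submodule.mem_annihilator_span_singleton _ _).1 ha)).resolve_right hne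
    rw [h1] at hm
    exact Set.mem_singleton_iff.2 (le_antisymm (hm.2 ⟨Ideal.isPrime_bot, le_rfl⟩ bot_le) bot_le)

/-- the surjection from a polynomial ring, for algebras of finite type -/
theorem isOpen_flatLocus_finiteType {R S : Type u} [CommRing R] [CommRing S] [Algebra R S] [Algebra.FinitePresentation R S]
    (hR : (FlatCA.weakAss R R).Finite) (N : Type u) [AddCommGroup N] [Module S N] [Module R N]
    [IsScalarTower R S N] [Module.Finite S N] :
    IsOpen {q : PrimeSpectrum S | Module.Flat R (LocalizedModule q.asIdeal.primeCompl N)} := by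
  refine isOpen_iff_forall_mem_open.2 fun q hq => ?_
  obtain ⟨g, hg, hflat, -, -⟩ := exists_fp_flat hR N q.asIdeal hq
  exact ⟨PrimeSpectrum.basicOpen g, fun σ hσ => hflat σ.asIdeal hσ, (PrimeSpectrum.basicOpen g).isOpen, hg⟩

end Groth.Agent.RG
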