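import Groth.Agent.StrongApprox.Change
import Mathlib.RingTheory.ZariskisMainTheorem
import Mathlib.RingTheory.TensorProduct.Quotient
import Mathlib.RingTheory.Unramified.LocalStructure
import Mathlib.RingTheory.Etale.Basic
import Mathlib.RingTheory.Ideal.GoingDown
import Mathlib.RingTheory.Smooth.Flat
import Mathlib.RingTheory.Polynomial.Quotient

/-!
# Cutting a smooth algebra by an element non-zero on the closed fibre drops a variable
-/

set_option autoImplicit false
set_option linter.style.haveILetI false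
set_option backward.isDefEq.respectTransparency false

universe u

open TensorProduct MvPolynomial

namespace Groth.Agent.RG

/-- quasi-finiteness at a point of a quotient by an ideal of the base -/
theorem quasiFiniteAt_of_quot {P B R : Type u} [CommRing P] [CommRing B] [CommRing R] [Algebra P B]
    [Algebra P R] [Algebra.FiniteType P B] [Algebra.FiniteType P R] (π : B →ₐ[P] R) (hπ : Function.Surjective π)
    (K : Ideal P) (hK : RingHom.ker π = K.map (algebraMap P B)) (q : Ideal B) [q.IsPrime]
    (hq : K.map (algebraMap P B) ≤ q) (qR : Ideal R) [qR.IsPrime] (hqR : qR.comap π.toRingHom = q)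
    [Algebra.QuasiFiniteAt P qR] : Algebra.QuasiFiniteAt P q := by
  have hunder : qR.under P = q.under P := by
    rw [← hqR]
    ext x
    simp [Ideal.under, Ideal.mem_comap]
  haveI : qR.LiesOver (q.under P) := ⟨hunder.symm⟩
  obtain ⟨s, hs, huniq⟩ := Ideal.exists_not_mem_forall_mem_of_ne_of_liesOver (q.under P) qR
  obtain ⟨t, rfl⟩ := hπ s
  refine Algebra.QuasiFiniteAt.of_isOpen_singleton_fiber ⟨q, inferInstance⟩ ?_
  have : ({⟨⟨q, inferInstance⟩, rfl⟩} : Set (PrimeSpectrum.comap (algebraMap P B) ⁻¹'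
      {(⟨q, inferInstance⟩ : PrimeSpectrum B).comap (algebraMap P B)})) =
      Subtype.val ⁻¹' (PrimeSpectrum.basicOpen t : Set (PrimeSpectrum B)) := by
    ext ⟨Q, hQ⟩
    constructor
    · intro h
      obtain rfl : Q = ⟨q, inferInstance⟩ := congrArg Subtype.val h
      intro ht
      have ht' : t ∈ q.comap (RingHom.id B) := ht
      rw [Ideal.comap_id, ← hqR] at ht'
      exact hs ht'
    · intro ht
      apply Subtype.ext
      by_contra hne
      have hQK : RingHom.ker π ≤ Q.asIdeal := by
        rw [hK, Ideal.map_le_iff_le_comap]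
        exact (Ideal.map_le_iff_le_comap.1 hq).trans (congrArg PrimeSpectrum.asIdeal hQ).ge
      haveI : (Q.asIdeal.map π.toRingHom).IsPrime := Ideal.map_isPrime_of_surjective hπ hQK
      have hc : (Q.asIdeal.map π.toRingHom).comap π.toRingHom = Q.asIdeal := by
        rw [Ideal.comap_map_of_surjective π.toRingHom hπ, ← RingHom.ker_eq_comap_bot, sup_eq_left]
        exact hQK
      have hmem := huniq (Q.asIdeal.map π.toRingHom) inferInstance (fun h => hne (PrimeSpectrum.ext (by
        rw [← hc, h, hqR]))) ⟨by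
          rw [← show Q.asIdeal.comap (algebraMap P B) = q.under P from congrArg PrimeSpectrum.asIdeal hQ]
          conv_lhs => rw [← hc]
          ext x
          simp [Ideal.under, Ideal.mem_comap]⟩
      apply ht
      change t ∈ Q.asIdeal
      rw [← hc]
      exact hmem
  rw [this]
  exact (PrimeSpectrum.basicOpen t).isOpen.preimage continuous_subtype_val

/-- quasi-finiteness at a point killed modulo `h` and `K` by an element becoming quasi-finite -/
theorem quasiFiniteAt_quot_span {P'' P P' : Type u} [CommRing P''] [CommRing P] [CommRing P'] [Algebra P'' P]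
    [Algebra P P'] [Algebra P'' P'] [IsScalarTower P'' P P'] [Algebra.Etale P P'] [Algebra.FiniteType P'' P']
    (K0 : Ideal P'') (f : P) [Module.Finite P'' (P ⧸ (K0.map (algebraMap P'' P) ⊔ Ideal.span {f}))]
    (h : P') (y : Ideal P') [y.IsPrime] (hhy : h ∈ y) (hKy : K0.map (algebraMap P'' P') ≤ y) (s' : P') (hs' : s' ∉ y)
    (hfs : algebraMap P P' f * s' ∈ Ideal.span {h} ⊔ K0.map (algebraMap P'' P'))
    (q₁ : Ideal (P' ⧸ Ideal.span {h})) [q₁.IsPrime] (hq₁ : q₁.comap (Ideal.Quotient.mk _) = y) :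
    Algebra.QuasiFiniteAt P'' q₁ := by
  let Kf : Ideal P := K0.map (algebraMap P'' P) ⊔ Ideal.span {f}
  haveI : Algebra.Etale (P ⧸ Kf) (P' ⧸ Kf.map (algebraMap P P')) :=
    Algebra.Etale.of_equiv (R := P ⧸ Kf) (A := (P ⧸ Kf) ⊗[P] P') (B := P' ⧸ Kf.map (algebraMap P P'))
      (Algebra.TensorProduct.quotIdealMapEquivQuotTensor P' Kf).symm
  haveI : IsScalarTower P'' (P ⧸ Kf) (P' ⧸ Kf.map (algebraMap P P')) :=
    IsScalarTower.of_algebraMap_eq fun c => by
      rw [IsScalarTower.algebraMap_apply P'' P (P ⧸ Kf), IsScalarTower.algebraMap_apply P'' P (P' ⧸ _),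
        IsScalarTower.algebraMap_apply P P' (P' ⧸ _)]
      rfl
  haveI : Algebra.QuasiFinite P'' (P' ⧸ Kf.map (algebraMap P P')) :=
    Algebra.QuasiFinite.trans P'' (P ⧸ Kf) (P' ⧸ Kf.map (algebraMap P P'))
  let Kh : Ideal P' := Ideal.span {h} ⊔ K0.map (algebraMap P'' P')
  have hKhy : Kh ≤ y := sup_le (by rwa [Ideal.span_singleton_le_iff_mem]) hKy
  let R := P' ⧸ Kh
  haveI : (y.map (Ideal.Quotient.mk Kh)).IsPrime := Ideal.map_isPrime_of_surjective
    Ideal.Quotient.mk_surjective (by rw [Ideal.mk_ker]; exact hKhy)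
  let qR := y.map (Ideal.Quotient.mk Kh)
  have hqRy : qR.comap (Ideal.Quotient.mk Kh) = y := by
    rw [Ideal.comap_map_of_surjective _ Ideal.Quotient.mk_surjective, ← RingHom.ker_eq_comap_bot,
      Ideal.mk_ker, sup_eq_left]
    exact hKhy
  haveI : Algebra.QuasiFiniteAt P'' qR := by
    let ρ : P' →ₐ[P''] Localization.AtPrime qR :=
      (IsScalarTower.toAlgHom P'' R (Localization.AtPrime qR)).comp (Ideal.Quotient.mkₐ P'' Kh)
    have hρ : ∀ a ∈ Kf.map (algebraMap P P'), ρ a = 0 := by
      suffices Kf.map (algebraMap P P') ≤ RingHom.ker ρ.toRingHom from fun a ha => this ha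
      rw [Ideal.map_le_iff_le_comap]
      refine sup_le (fun a ha => ?_) ?_
      · have : Ideal.Quotient.mk Kh (algebraMap P P' a) = 0 :=
          Ideal.Quotient.eq_zero_iff_mem.2 (Submodule.mem_sup_right (by
            rw [IsScalarTower.algebraMap_eq P'' P P', ← Ideal.map_map]
            exact Ideal.mem_map_of_mem _ ha))
        change algebraMap R (Localization.AtPrime qR) (Ideal.Quotient.mk Kh (algebraMap P P' a)) = 0
        rw [this, map_zero]
      · rw [Ideal.span_singleton_le_iff_mem]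
        change algebraMap R (Localization.AtPrime qR) (Ideal.Quotient.mk Kh (algebraMap P P' f)) = 0
        refine (IsLocalization.map_eq_zero_iff qR.primeCompl _ _).2 ⟨⟨Ideal.Quotient.mk Kh s', fun h1 => hs' ?_⟩, ?_⟩
        · rw [← hqRy]; exact h1
        · rw [← map_mul, Ideal.Quotient.eq_zero_iff_mem, mul_comm]
          exact hfs
    refine Algebra.QuasiFinite.of_forall_exists_mul_mem_range (Ideal.Quotient.liftₐ _ ρ hρ) fun x => ?_
    obtain ⟨a, ⟨b, hb⟩, rfl⟩ := IsLocalization.exists_mk'_eq qR.primeCompl x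
    obtain ⟨a, rfl⟩ := Ideal.Quotient.mk_surjective a
    obtain ⟨b, rfl⟩ := Ideal.Quotient.mk_surjective b
    refine ⟨Ideal.Quotient.mk _ b, IsLocalization.map_units (Localization.AtPrime qR) ⟨_, hb⟩,
      Ideal.Quotient.mk _ a, ?_⟩
    exact (IsLocalization.mk'_spec (Localization.AtPrime qR) (Ideal.Quotient.mk Kh a) ⟨_, hb⟩).symm
  haveI : Algebra.FiniteType P'' (P' ⧸ Ideal.span {h}) :=
    Algebra.FiniteType.of_surjective (R := P'') (Ideal.Quotient.mkₐ P'' (Ideal.span {h})) Ideal.Quotient.mk_surjective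
  haveI : Algebra.FiniteType P'' R :=
    Algebra.FiniteType.of_surjective (R := P'') (Ideal.Quotient.mkₐ P'' Kh) Ideal.Quotient.mk_surjective
  let π : (P' ⧸ Ideal.span {h}) →ₐ[P''] R := Ideal.Quotient.factorₐ P'' (le_sup_left : Ideal.span {h} ≤ Kh)
  have hKmap : K0.map (algebraMap P'' (P' ⧸ Ideal.span {h})) =
      (K0.map (algebraMap P'' P')).map (Ideal.Quotient.mk (Ideal.span {h})) := by
    rw [Ideal.map_map]
    rfl
  refine quasiFiniteAt_of_quot (R := R) π (Ideal.Quotient.factor_surjective le_sup_left) K0 ?_ _ ?_ qR ?_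
  · rw [hKmap]
    ext x
    obtain ⟨x, rfl⟩ := Ideal.Quotient.mk_surjective x
    change Ideal.Quotient.mk Kh x = 0 ↔ _
    rw [Ideal.Quotient.eq_zero_iff_mem, ← Ideal.mem_comap,
      Ideal.comap_map_of_surjective _ Ideal.Quotient.mk_surjective, ← RingHom.ker_eq_comap_bot, Ideal.mk_ker,
      sup_comm]
  · rw [hKmap, Ideal.map_le_iff_le_comap, hq₁]
    exact hKy
  · ext x
    obtain ⟨x, rfl⟩ := Ideal.Quotient.mk_surjective x
    change Ideal.Quotient.mk Kh x ∈ qR ↔ _
    rw [← Ideal.mem_comap, hqRy, ← hq₁, Ideal.mem_comap]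

variable {A : Type u} [CommRing A] [IsLocalRing A]

set_option backward.isDefEq.respectTransparency true in
/-- A monic equation for the distinguished variable after Nagata's change of coordinates. -/
theorem exists_finite_quot {n : ℕ} (f : MvPolynomial (Fin (n + 1)) A)
    (hf : f ∉ (IsLocalRing.maximalIdeal A).map (C : A →+* MvPolynomial (Fin (n + 1)) A)) :
    ∃ g : MvPolynomial (Fin n) A →ₐ[A] MvPolynomial (Fin (n + 1)) A,
      ((Ideal.Quotient.mk ((IsLocalRing.maximalIdeal A).map C ⊔ Ideal.span {f})).comp g.toRingHom).Finite := by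
  classical
  let m := IsLocalRing.maximalIdeal A
  let res := MvPolynomial.map (σ := Fin (n + 1)) (IsLocalRing.residue A)
  have hres : ∀ {σ : Type} (p : MvPolynomial σ A), MvPolynomial.map (IsLocalRing.residue A) p = 0 ↔ p ∈ m.map C := by
    intro σ p
    rw [MvPolynomial.mem_map_C_iff, MvPolynomial.ext_iff]
    simp [coeff_map, IsLocalRing.residue_eq_zero_iff]
    rfl
  obtain ⟨r, c, hc, hlead⟩ := StrongApprox.exists_shift (res f) (fun h => hf ((hres f).1 h))
  let T := StrongApprox.shAlg (R := A) r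
  let Kf : Ideal (MvPolynomial (Fin (n + 1)) A) := m.map C ⊔ Ideal.span {f}
  let g : MvPolynomial (Fin n) A →ₐ[A] MvPolynomial (Fin (n + 1)) A := T.symm.toAlgHom.comp (rename Fin.succ)
  refine ⟨g, ?_⟩
  let φ : MvPolynomial (Fin n) A →+* MvPolynomial (Fin (n + 1)) A ⧸ Kf := (Ideal.Quotient.mk Kf).comp g.toRingHom
  letI : Algebra (MvPolynomial (Fin n) A) (MvPolynomial (Fin (n + 1)) A ⧸ Kf) := φ.toAlgebra
  change Module.Finite (MvPolynomial (Fin n) A) (MvPolynomial (Fin (n + 1)) A ⧸ Kf)
  let Z : MvPolynomial (Fin (n + 1)) A ⧸ Kf := Ideal.Quotient.mk Kf (T.symm (X 0))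
  let F : Polynomial (MvPolynomial (Fin n) A) := finSuccEquiv A n (T f)
  let resn := MvPolynomial.map (σ := Fin n) (IsLocalRing.residue A)
  have hFres : F.map resn = finSuccEquiv (IsLocalRing.ResidueField A) n (StrongApprox.shAlg r (res f)) := by
    rw [← StrongApprox.map_shAlg]
    simp only [F, T, res, resn]
    generalize StrongApprox.shAlg r f = p
    induction p using MvPolynomial.induction_on with
    | C a => simp [finSuccEquiv_apply]
    | add p q hp hq => simp only [map_add, Polynomial.map_add, hp, hq]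
    | mul_X p i hp =>
      simp only [map_mul, Polynomial.map_mul, hp, MvPolynomial.map_X]
      congr 1
      refine Fin.cases ?_ (fun j => ?_) i <;> simp [finSuccEquiv_apply]
  obtain ⟨c', hc'⟩ := IsLocalRing.residue_surjective c⁻¹
  have hmonic : ((Polynomial.C (C c') * F).map resn).Monic := by
    rw [Polynomial.map_mul, Polynomial.map_C, hFres]
    refine Polynomial.monic_C_mul_of_mul_leadingCoeff_eq_one ?_
    rw [hlead, show resn (C c') = C c⁻¹ by simp [resn, hc'], ← map_mul, inv_mul_cancel₀ hc, map_one]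
  obtain ⟨G, hG, -, hGm⟩ := Polynomial.lifts_and_natDegree_eq_and_monic
    ((Polynomial.mem_lifts _).2 ⟨_, rfl⟩) hmonic
  have hφ0 : ∀ p ∈ m.map (C : A →+* MvPolynomial (Fin n) A), φ p = 0 := by
    intro p hp
    refine Ideal.Quotient.eq_zero_iff_mem.2 (Submodule.mem_sup_left ?_)
    have := Ideal.mem_map_of_mem g.toRingHom hp
    rwa [Ideal.map_map, show g.toRingHom.comp C = C from RingHom.ext fun a => g.commutes a] at this
  have heval : ∀ q : MvPolynomial (Fin (n + 1)) A,
      Polynomial.eval₂ φ Z (finSuccEquiv A n (T q)) = Ideal.Quotient.mk Kf q := by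
    intro q
    have : ∀ p, Polynomial.eval₂ φ Z (finSuccEquiv A n p) = Ideal.Quotient.mk Kf (T.symm p) := by
      intro p
      induction p using MvPolynomial.induction_on with
      | C a =>
        rw [finSuccEquiv_apply, eval₂Hom_C]
        simp only [RingHom.comp_apply, Polynomial.eval₂_C, φ, ← MvPolynomial.algebraMap_eq]
        change Ideal.Quotient.mk Kf (g (algebraMap A _ a)) = _
        rw [AlgHom.commutes, AlgEquiv.commutes]
      | add p q hp hq => simp only [map_add, Polynomial.eval₂_add, hp, hq]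
      | mul_X p i hp =>
        rw [map_mul, Polynomial.eval₂_mul, hp, map_mul, map_mul]
        congr 1
        refine Fin.cases ?_ (fun j => ?_) i
        · simp [finSuccEquiv_apply, Z]
        · simp [finSuccEquiv_apply, φ, g]
    rw [this, AlgEquiv.symm_apply_apply]
  have hint : IsIntegral (MvPolynomial (Fin n) A) Z := by
    refine ⟨G, hGm, ?_⟩
    change Polynomial.eval₂ φ Z G = 0
    have hdiff : ∀ i, φ ((G - Polynomial.C (C c') * F).coeff i) = 0 := fun i => hφ0 _ ((hres _).1 (by
      change resn _ = 0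
      rw [← Polynomial.coeff_map, Polynomial.map_sub, hG, sub_self, Polynomial.coeff_zero]))
    have h0 : Polynomial.eval₂ φ Z (G - Polynomial.C (C c') * F) = 0 := by
      rw [Polynomial.eval₂_eq_sum, Polynomial.sum]
      exact Finset.sum_eq_zero fun i _ => by rw [hdiff, zero_mul]
    rw [Polynomial.eval₂_sub, Polynomial.eval₂_mul, show Polynomial.eval₂ φ Z F = 0 by
      rw [heval]; exact Ideal.Quotient.eq_zero_iff_mem.2 (Submodule.mem_sup_right (Ideal.subset_span rfl)),
      mul_zero, sub_zero] at h0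
    exact h0
  have htop : Algebra.adjoin (MvPolynomial (Fin n) A) {Z} = ⊤ := by
    rw [eq_top_iff]
    rintro x -
    obtain ⟨q, rfl⟩ := Ideal.Quotient.mk_surjective x
    rw [← heval]
    exact Polynomial.aeval_mem_adjoin_singleton _ Z
  exact ⟨by
    have := hint.fg_adjoin_singleton
    rwa [htop, Algebra.top_toSubmodule] at this⟩

set_option maxHeartbeats 1600000 in
/-- Dropping a variable. -/
theorem exists_fewer_vars {n : ℕ} {P' : Type u} [CommRing P'] [Algebra A P'] [Algebra (MvPolynomial (Fin n) A) P']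
    [IsScalarTower A (MvPolynomial (Fin n) A) P'] [Algebra.Etale (MvPolynomial (Fin n) A) P'] (η : Ideal P')
    [η.IsPrime] (hmη : (IsLocalRing.maximalIdeal A).map (algebraMap A P') ≤ η) (y : Ideal P') [y.IsPrime]
    (hηy : η ≤ y) {s : P'} (hs : s ∉ y) (hsη : ∀ a ∈ η, s * a ∈ (IsLocalRing.maximalIdeal A).map (algebraMap A P'))
    {h : P'} (hy : h ∈ y) (hη : h ∉ η) :
    ∃ n' < n, ∃ g : MvPolynomial (Fin n') A →ₐ[A] P' ⧸ Ideal.span {h},
      ∃ q₁ : Ideal (P' ⧸ Ideal.span {h}), ∃ _ : q₁.IsPrime, q₁.comap (Ideal.Quotient.mk _) = y ∧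
        (letI := g.toRingHom.toAlgebra; Algebra.QuasiFiniteAt (MvPolynomial (Fin n') A) q₁) := by
  classical
  let m := IsLocalRing.maximalIdeal A
  let P := MvPolynomial (Fin n) A
  let J : Ideal P := m.map (C : A →+* P)
  have hJ : J.map (algebraMap P P') = m.map (algebraMap A P') := by
    rw [Ideal.map_map, ← MvPolynomial.algebraMap_eq, ← IsScalarTower.algebraMap_eq]
  haveI : J.IsPrime := by
    rw [show J = RingHom.ker (MvPolynomial.map (σ := Fin n) (IsLocalRing.residue A)) by
      rw [MvPolynomial.ker_map, IsLocalRing.ker_residue]]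
    exact RingHom.ker_isPrime _
  have hmin : ∀ Q : Ideal P', Q.IsPrime → Q ≤ y → m.map (algebraMap A P') ≤ Q → η ≤ Q := fun Q hQ hQy hmQ a ha =>
    (hQ.mem_or_mem (hmQ (hsη a ha))).resolve_left fun h => hs (hQy h)
  have hJη : J ≤ η.comap (algebraMap P P') := Ideal.map_le_iff_le_comap.1 (hJ.le.trans hmη)
  have hηJ : η.under P = J := by
    obtain ⟨Q, hQle, hQp, hQover⟩ := Ideal.exists_ideal_le_liesOver_of_le (p := J) (q := η.under P) η hJη
    have hQm : m.map (algebraMap A P') ≤ Q := hJ ▸ Ideal.map_le_iff_le_comap.2 hQover.over.le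
    rw [le_antisymm (hmin Q hQp (hQle.trans hηy) hQm) hQle]
    exact hQover.over.symm
  obtain ⟨f, hfJ, s', hs', hfs⟩ : ∃ f : P, f ∉ J ∧ ∃ s' ∉ y,
      algebraMap P P' f * s' ∈ Ideal.span {h} ⊔ m.map (algebraMap A P') := by
    by_contra! hno
    let M : Submonoid P' := J.primeCompl.map (algebraMap P P').toMonoidHom ⊔ y.primeCompl
    have hdisj : Disjoint (↑(Ideal.span {h} ⊔ m.map (algebraMap A P')) : Set P') (M : Set P') := by
      rw [Set.disjoint_left]
      intro x hx hxM
      obtain ⟨_, ⟨f, hf, rfl⟩, s', hs', rfl⟩ := Submonoid.mem_sup.1 hxM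
      exact hno f hf s' hs' hx
    obtain ⟨Q, hQp, hQ, hQM⟩ := Ideal.exists_le_prime_disjoint _ M hdisj
    have hQy : Q ≤ y := fun x hx => by
      by_contra hxy
      exact Set.disjoint_left.1 hQM hx (Submonoid.mem_sup_right hxy)
    have hQJ : Q.under P = J := le_antisymm (fun x hx => by
        by_contra hxJ
        exact Set.disjoint_left.1 hQM hx (Submonoid.mem_sup_left ⟨x, hxJ, rfl⟩))
      (Ideal.map_le_iff_le_comap.1 (hJ.le.trans (le_sup_right.trans hQ)))
    have hηQ := hmin Q hQp hQy (le_sup_right.trans hQ)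
    exact hη ((Algebra.QuasiFiniteAt.eq_of_le_of_under_eq (R := P) hηQ (hηJ.trans hQJ.symm)).symm ▸
      hQ (Submodule.mem_sup_left (Ideal.subset_span rfl)))
  have hn : n ≠ 0 := by
    rintro rfl
    obtain ⟨c, rfl⟩ := MvPolynomial.C_surjective (Fin 0) f
    have hc : IsUnit c := IsLocalRing.notMem_maximalIdeal.1 fun hc => hfJ (Ideal.mem_map_of_mem _ hc)
    have : algebraMap P P' (C c) * s' ∈ y :=
      (sup_le (by rwa [Ideal.span_singleton_le_iff_mem]) (hmη.trans hηy)) hfs
    rcases Ideal.IsPrime.mem_or_mem inferInstance this with h1 | h1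
    · exact Ideal.IsPrime.ne_top inferInstance (Ideal.eq_top_of_isUnit_mem y h1 ((hc.map C).map (algebraMap P P')))
    · exact hs' h1
  obtain ⟨k, rfl⟩ := Nat.exists_eq_succ_of_ne_zero hn
  obtain ⟨g, hg⟩ := exists_finite_quot f hfJ
  refine ⟨k, Nat.lt_succ_self k,
    (Ideal.Quotient.mkₐ A (Ideal.span {h})).comp ((IsScalarTower.toAlgHom A P P').comp g), ?_⟩
  haveI hq₁ : (y.map (Ideal.Quotient.mk (Ideal.span {h}))).IsPrime := Ideal.map_isPrime_of_surjective
    Ideal.Quotient.mk_surjective (by rw [Ideal.mk_ker, Ideal.span_singleton_le_iff_mem]; exact hy)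
  refine ⟨y.map (Ideal.Quotient.mk (Ideal.span {h})), hq₁, ?_, ?_⟩
  · rw [Ideal.comap_map_of_surjective _ Ideal.Quotient.mk_surjective, ← RingHom.ker_eq_comap_bot,
      Ideal.mk_ker, sup_eq_left, Ideal.span_singleton_le_iff_mem]
    exact hy
  let P'' := MvPolynomial (Fin k) A
  letI : Algebra P'' P := g.toRingHom.toAlgebra
  letI : Algebra P'' P' := ((algebraMap P P').comp g.toRingHom).toAlgebra
  haveI : IsScalarTower P'' P P' := IsScalarTower.of_algebraMap_eq fun _ => rfl
  haveI : IsScalarTower A P'' P' := IsScalarTower.of_algebraMap_eq fun c => by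
    change algebraMap A P' c = algebraMap P P' (g (algebraMap A P'' c))
    rw [g.commutes, ← IsScalarTower.algebraMap_apply]
  haveI : Algebra.FiniteType A P' :=
    Algebra.FiniteType.trans (R := A) (S := P) (A := P') inferInstance inferInstance
  haveI : Algebra.FiniteType P'' P' := Algebra.FiniteType.of_restrictScalars_finiteType A P'' P'
  have hmap : (m.map (C : A →+* P'')).map (algebraMap P'' P') = m.map (algebraMap A P') := by
    rw [Ideal.map_map, ← MvPolynomial.algebraMap_eq, ← IsScalarTower.algebraMap_eq]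
  have hmapP : (m.map (C : A →+* P'')).map (algebraMap P'' P) = J := by
    rw [Ideal.map_map, show (algebraMap P'' P).comp C = C from RingHom.ext fun c => g.commutes c]
  haveI : Module.Finite P'' (P ⧸ ((m.map (C : A →+* P'')).map (algebraMap P'' P) ⊔ Ideal.span {f})) :=
    RingHom.finite_algebraMap.1 (by
      change RingHom.Finite ((Ideal.Quotient.mk _).comp g.toRingHom)
      rw [hmapP]
      exact hg)
  exact quasiFiniteAt_quot_span (m.map (C : A →+* P'')) f h y hy (hmap.le.trans (hmη.trans hηy)) s' hs'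
    (by rw [hmap]; exact hfs) (y.map (Ideal.Quotient.mk (Ideal.span {h}))) (by
      rw [Ideal.comap_map_of_surjective _ Ideal.Quotient.mk_surjective, ← RingHom.ker_eq_comap_bot,
        Ideal.mk_ker, sup_eq_left, Ideal.span_singleton_le_iff_mem]
      exact hy)

end Groth.Agent.RG
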