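import Groth.Agent.InjFibre.Alg
import Groth.Agent.EtaleLocalProps.Basic
import Mathlib.RingTheory.Flat.Equalizer
import Mathlib.RingTheory.Localization.BaseChange
import Mathlib.RingTheory.Polynomial.UniqueFactorization
import Mathlib.RingTheory.Polynomial.Quotient
import Mathlib.RingTheory.TensorProduct.Quotient

/-!
# The generic point of the closed fibre of a smooth local algebra
-/

set_option autoImplicit false
set_option linter.style.haveILetI false
set_option backward.isDefEq.respectTransparency false

universe u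

open TensorProduct MvPolynomial

namespace Groth.Agent.RG

set_option backward.isDefEq.respectTransparency true in
theorem polynomial_like {k R : Type u} [Field k] [CommRing R] {n : ℕ} (ε : MvPolynomial (Fin n) k ≃+* R) :
    IsDomain R ∧ IsIntegrallyClosed R ∧ IsNoetherianRing R :=
  haveI : IsDomain R := ε.symm.toMulEquiv.isDomain
  ⟨this, IsIntegrallyClosed.of_equiv ε, isNoetherianRing_of_ringEquiv _ ε⟩

/-- In an étale algebra over `A[X]`, `A` local, there is through each point `y` of the closed fibre
exactly one component of that fibre. -/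
theorem exists_eta {A : Type u} [CommRing A] [IsLocalRing A] {n : ℕ} {P' : Type u} [CommRing P']
    [Algebra A P'] [Algebra (MvPolynomial (Fin n) A) P'] [IsScalarTower A (MvPolynomial (Fin n) A) P']
    [Algebra.Etale (MvPolynomial (Fin n) A) P'] (y : Ideal P') [y.IsPrime]
    [y.LiesOver (IsLocalRing.maximalIdeal A)] :
    ∃ η : Ideal P', η.IsPrime ∧ η ≤ y ∧ (IsLocalRing.maximalIdeal A).map (algebraMap A P') ≤ η ∧
      ∃ s ∉ y, ∀ a ∈ η, s * a ∈ (IsLocalRing.maximalIdeal A).map (algebraMap A P') := by
  classical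
  let m := IsLocalRing.maximalIdeal A
  let P := MvPolynomial (Fin n) A
  let J : Ideal P := m.map (C : A →+* P)
  have hJ : J.map (algebraMap P P') = m.map (algebraMap A P') := by
    rw [Ideal.map_map, ← MvPolynomial.algebraMap_eq, ← IsScalarTower.algebraMap_eq]
  let Pk := P ⧸ J
  let Cq := P' ⧸ J.map (algebraMap P P')
  obtain ⟨ε⟩ : Nonempty (MvPolynomial (Fin n) (IsLocalRing.ResidueField A) ≃+* Pk) :=
    ⟨(MvPolynomial.quotientEquivQuotientMvPolynomial m).toRingEquiv⟩
  obtain ⟨_, _, _⟩ := polynomial_like (k := IsLocalRing.ResidueField A) (R := Pk) ε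
  haveI : Algebra.Etale (P ⧸ J) ((P ⧸ J) ⊗[P] P') := inferInstance
  haveI : Algebra.Etale Pk Cq :=
    Algebra.Etale.of_equiv (R := P ⧸ J) (A := (P ⧸ J) ⊗[P] P') (B := P' ⧸ J.map (algebraMap P P'))
      (Algebra.TensorProduct.quotIdealMapEquivQuotTensor P' J).symm
  haveI : IsNoetherianRing Cq := Algebra.FiniteType.isNoetherianRing Pk Cq
  have hmy : m.map (algebraMap A P') ≤ y := Ideal.map_le_iff_le_comap.2 (Ideal.LiesOver.over (P := y) (p := m)).le
  let π : P' →+* Cq := Ideal.Quotient.mk _
  haveI hq : (y.map π).IsPrime := Ideal.map_isPrime_of_surjective Ideal.Quotient.mk_surjective (by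
    rw [Ideal.mk_ker, hJ]; exact hmy)
  let q := y.map π
  have hqy : q.comap π = y := by
    rw [Ideal.comap_map_of_surjective _ Ideal.Quotient.mk_surjective, ← RingHom.ker_eq_comap_bot,
      Ideal.mk_ker, sup_eq_left, hJ]
    exact hmy
  haveI : IsDomain (Localization.AtPrime (q.under Pk)) := IsLocalization.isDomain_localization (Ideal.primeCompl_le_nonZeroDivisors _)
  haveI : IsIntegrallyClosed (Localization.AtPrime (q.under Pk)) :=
    isIntegrallyClosed_of_isLocalization (Localization.AtPrime (q.under Pk)) (q.under Pk).primeCompl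
      (Ideal.primeCompl_le_nonZeroDivisors _)
  obtain ⟨hdom, -⟩ := (EtaleLocalProps.atPrime_ascend Pk Cq q).2 ⟨inferInstance, inferInstance⟩
  let η₀ : Ideal Cq := RingHom.ker (algebraMap Cq (Localization.AtPrime q))
  haveI : η₀.IsPrime := RingHom.ker_isPrime _
  have hη₀ : η₀ ≤ q := fun a ha => by
    rw [← IsLocalization.AtPrime.comap_maximalIdeal (Localization.AtPrime q) q, Ideal.mem_comap,
      RingHom.mem_ker.1 ha]
    exact Ideal.zero_mem _
  obtain ⟨G, hG⟩ := IsNoetherian.noetherian η₀
  have hkill : ∀ g ∈ G, ∃ e ∉ q, e * g = 0 := fun g hg => by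
    obtain ⟨⟨e, he⟩, heg⟩ := (IsLocalization.map_eq_zero_iff q.primeCompl (Localization.AtPrime q) g).1
      (RingHom.mem_ker.1 (hG ▸ Submodule.subset_span hg : g ∈ η₀))
    exact ⟨e, he, heg⟩
  choose e he heg using hkill
  let e' : Cq := ∏ g ∈ G.attach, e g.1 g.2
  have he' : e' ∉ q := fun h => by
    obtain ⟨g, -, hg⟩ := hq.prod_mem_iff.1 h
    exact he g.1 g.2 hg
  obtain ⟨s, hs⟩ := Ideal.Quotient.mk_surjective e'
  refine ⟨η₀.comap π, inferInstance, (Ideal.comap_mono hη₀).trans hqy.le, ?_, s, fun h => he' ?_, fun a ha => ?_⟩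
  · rw [← hJ]
    intro a ha
    rw [Ideal.mem_comap, show π a = 0 from Ideal.Quotient.eq_zero_iff_mem.2 ha]
    exact η₀.zero_mem
  · rw [← hs]
    exact Ideal.mem_map_of_mem π h
  · rw [← hJ, ← Ideal.Quotient.eq_zero_iff_mem, map_mul, hs]
    have ha' : π a ∈ Submodule.span Cq (G : Set Cq) := by rw [hG]; exact ha
    clear ha
    generalize π a = b at ha'
    change e' * b = 0
    induction ha' using Submodule.span_induction with
    | mem g hg =>
      obtain ⟨c, hc⟩ := Finset.dvd_prod_of_mem (fun g : G => e g.1 g.2) (Finset.mem_attach G ⟨g, hg⟩)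
      rw [show e' = e g hg * c from hc, mul_right_comm, heg g hg, zero_mul]
    | zero => simp
    | add a b _ _ ha hb => rw [mul_add, ha, hb, add_zero]
    | smul c b _ hb => rw [smul_eq_mul, mul_left_comm, hb, mul_zero]

/-- The map from the local ring at a point of the closed fibre to the local ring at the generic point
of the component through it is universally injective over `A`. -/
theorem pure_to_eta {A : Type u} [CommRing A] [IsLocalRing A] {P' : Type u} [CommRing P'] [Algebra A P']
    [Algebra.FinitePresentation A P'] [Module.Flat A P'] (η : Ideal P') [η.IsPrime]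
    (hmη : (IsLocalRing.maximalIdeal A).map (algebraMap A P') ≤ η) (Q : Ideal P') [Q.IsPrime] (hηQ : η ≤ Q)
    {s : P'} (hs : s ∉ Q) (hsη : ∀ a ∈ η, s * a ∈ (IsLocalRing.maximalIdeal A).map (algebraMap A P')) :
    ∃ j : Localization.AtPrime Q →ₗ[A] Localization.AtPrime η,
      (∀ a, j (algebraMap P' _ a) = algebraMap P' _ a) ∧
      ∀ (V : Type u) [AddCommGroup V] [Module A V], Function.Injective (j.rTensor V) := by
  let m := IsLocalRing.maximalIdeal A
  let E := Localization.AtPrime Q
  let Eη := Localization.AtPrime η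
  haveI : Module.Flat A E := Module.Flat.trans A P' E
  have hQm : Q.comap (algebraMap A P') = m := by
    refine ((IsLocalRing.maximalIdeal.isMaximal A).eq_of_le (Ideal.IsPrime.comap _).ne_top ?_).symm
    exact Ideal.map_le_iff_le_comap.1 (hmη.trans hηQ)
  have hpure : ∀ g ∉ η, ∀ (V : Type u) [AddCommGroup V] [Module A V],
      Function.Injective (((LinearMap.mulLeft E (algebraMap P' E g)).restrictScalars A).rTensor V) := by
    intro g hg V _ _
    obtain ⟨hinj, hflat⟩ := InjFibre.atPrime Q (LinearMap.mulLeft E (algebraMap P' E g)) (fun x hx => by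
      rw [hQm, smul_eq_mul, ← Ideal.one_eq_top, mul_one, IsScalarTower.algebraMap_eq A P' E, ← Ideal.map_map] at hx ⊢
      obtain ⟨⟨a, d⟩, rfl⟩ : ∃ p : P' × Q.primeCompl, IsLocalization.mk' E p.1 p.2 = x :=
        let ⟨a, d, h⟩ := IsLocalization.exists_mk'_eq Q.primeCompl x; ⟨(a, d), h⟩
      rw [LinearMap.mulLeft_apply, IsLocalization.mul_mk'_eq_mk'_of_mul,
        IsLocalization.mk'_mem_map_algebraMap_iff Q.primeCompl] at hx
      obtain ⟨e, he, hega⟩ := hx
      have ha : a ∈ η := by
        have h1 : e * (g * a) ∈ η := hmη hega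
        rcases Ideal.IsPrime.mem_or_mem inferInstance h1 with h | h
        · exact absurd (hηQ h) he
        · exact (Ideal.IsPrime.mem_or_mem inferInstance h).resolve_left hg
      rw [IsLocalization.mk'_mem_map_algebraMap_iff Q.primeCompl]
      exact ⟨s, hs, hsη a ha⟩)
    rw [← LinearMap.lTensor_inj_iff_rTensor_inj]
    let u := (LinearMap.mulLeft E (algebraMap P' E g)).restrictScalars A
    haveI : Module.Flat A (E ⧸ LinearMap.range u) :=
      Module.Flat.of_linearEquiv (Submodule.Quotient.restrictScalarsEquiv A (LinearMap.range (LinearMap.mulLeft E (algebraMap P' E g))))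
    exact LinearMap.lTensor_injective_of_exact_of_flat (LinearMap.range u).mkQ (Submodule.mkQ_surjective _) u hinj
      (LinearMap.exact_map_mkQ_range u) V
  have hunit : ∀ g : Q.primeCompl, IsUnit (algebraMap P' Eη g) := fun g =>
    IsLocalization.map_units (M := η.primeCompl) Eη ⟨g, fun h => g.2 (hηQ h)⟩
  let jP : E →ₐ[P'] Eη := IsLocalization.liftAlgHom (M := Q.primeCompl) (f := Algebra.ofId P' Eη) hunit
  haveI : IsLocalizedModule η.primeCompl jP.toLinearMap := by
    refine ⟨fun g => ?_, fun y => ?_, fun {x₁ x₂} h => ?_⟩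
    · rw [Module.End.isUnit_iff]
      exact ((IsLocalization.map_units (M := η.primeCompl) Eη g).smul_bijective (α := Eη) |> fun h => by
        convert h using 1
        funext z
        simp [Algebra.smul_def, smul_eq_mul])
    · obtain ⟨a, g, rfl⟩ := IsLocalization.exists_mk'_eq η.primeCompl y
      refine ⟨(algebraMap P' E a, g), ?_⟩
      simp [Algebra.smul_def, Submonoid.smul_def, IsLocalization.mk'_spec']
    · obtain ⟨a₁, d₁, rfl⟩ := IsLocalization.exists_mk'_eq Q.primeCompl x₁
      obtain ⟨a₂, d₂, rfl⟩ := IsLocalization.exists_mk'_eq Q.primeCompl x₂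
      have h' : algebraMap P' Eη (a₁ * d₂) = algebraMap P' Eη (a₂ * d₁) := by
        have e1 := congrArg jP (IsLocalization.mk'_spec E a₁ d₁)
        have e2 := congrArg jP (IsLocalization.mk'_spec E a₂ d₂)
        rw [map_mul, jP.commutes, jP.commutes] at e1 e2
        change jP _ = jP _ at h
        rw [map_mul, map_mul, ← e1, ← e2, h]
        ring
      obtain ⟨c, hc⟩ := IsLocalization.exists_of_eq (M := η.primeCompl) h'
      refine ⟨c, ?_⟩
      apply ((IsLocalization.map_units (M := Q.primeCompl) E d₁).mul (IsLocalization.map_units E d₂)).mul_left_cancel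
      simp only [Submonoid.smul_def, Algebra.smul_def]
      rw [show algebraMap P' E d₁ * algebraMap P' E d₂ * (algebraMap P' E c * IsLocalization.mk' E a₁ d₁) =
        algebraMap P' E d₂ * algebraMap P' E c * (IsLocalization.mk' E a₁ d₁ * algebraMap P' E d₁) by ring,
        show algebraMap P' E d₁ * algebraMap P' E d₂ * (algebraMap P' E c * IsLocalization.mk' E a₂ d₂) =
        algebraMap P' E d₁ * algebraMap P' E c * (IsLocalization.mk' E a₂ d₂ * algebraMap P' E d₂) by ring,
        IsLocalization.mk'_spec, IsLocalization.mk'_spec, ← map_mul, ← map_mul, ← map_mul, ← map_mul]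
      congr 1
      linear_combination hc
  refine ⟨jP.toLinearMap.restrictScalars A, fun a => jP.commutes a, fun V _ _ => ?_⟩
  rw [injective_iff_map_eq_zero]
  intro z hz
  have hz' : AlgebraTensorModule.rTensor A V jP.toLinearMap z = AlgebraTensorModule.rTensor A V jP.toLinearMap 0 := by
    rw [map_zero]; exact hz
  obtain ⟨g, hg⟩ := IsLocalizedModule.exists_of_eq (S := η.primeCompl) hz'
  rw [smul_zero] at hg
  refine hpure g g.2 V ?_
  rw [map_zero, ← hg]
  clear hg hz hz'
  induction z using TensorProduct.induction_on with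
  | zero => simp
  | tmul a b =>
    simp [Submonoid.smul_def, smul_tmul', Algebra.smul_def]
    rfl
  | add x y hx hy => simp [map_add, hx, hy, smul_add]

end Groth.Agent.RG
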