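import Groth.Agent.RG.SectionCore
import Mathlib.RingTheory.MvPolynomial.Ideal
import Mathlib.RingTheory.Etale.Basic
import Mathlib.RingTheory.TensorProduct.Basic

/-!
# Coefficient functionals along a section of an étale algebra over affine space
-/

set_option autoImplicit false
set_option linter.style.haveILetI false
set_option backward.isDefEq.respectTransparency false

universe u

open TensorProduct MvPolynomial

namespace Groth.Agent.RG

variable {A : Type u} [CommRing A] {n : ℕ} {P' : Type u} [CommRing P'] [Algebra A P']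
  [Algebra (MvPolynomial (Fin n) A) P'] [IsScalarTower A (MvPolynomial (Fin n) A) P']
  [Algebra.Etale (MvPolynomial (Fin n) A) P'] {A' : Type u} [CommRing A'] [Algebra A A']

/-- the coordinates centred at the section -/
noncomputable def shift (a : Fin n → A') (i : Fin n) : A' ⊗[A] P' :=
  1 ⊗ₜ[A] algebraMap (MvPolynomial (Fin n) A) P' (X i) - a i ⊗ₜ[A] 1

/-- For an `A`-map `σ₀ : P' → A'`, the section `σ` it defines is cut out by the shifted coordinates up
to squares and carries coefficient functionals. -/
theorem exists_section_data (σ₀ : P' →ₐ[A] A') (a : Fin n → A')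
    (ha : ∀ i, σ₀ (algebraMap (MvPolynomial (Fin n) A) P' (X i)) = a i) :
    ∃ σ : A' ⊗[A] P' →ₐ[A'] A', (∀ c p, σ (c ⊗ₜ p) = c * σ₀ p) ∧
      (∀ i, σ (shift a i) = 0) ∧
      RingHom.ker σ ≤ Ideal.span (Set.range (shift (P' := P') a)) ⊔ RingHom.ker σ ^ 2 ∧
      ∃ φ : (Fin n → ℕ) → A' ⊗[A] P' →ₗ[A'] A',
        (∀ m k, ∑ i, m i < k → ∀ s ∈ RingHom.ker σ ^ k, φ m s = 0) ∧
        ∀ m m', φ m (∏ i, shift a i ^ m' i) = if m' = m then 1 else 0 := by
  classical
  let P := MvPolynomial (Fin n) A
  let S := A' ⊗[A] P'
  let σ : S →ₐ[A'] A' := Algebra.TensorProduct.lift (AlgHom.id A' A') σ₀ fun _ _ => .all _ _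
  have hσ : ∀ c p, σ (c ⊗ₜ p) = c * σ₀ p := fun c p => rfl
  have hσt : ∀ i, σ (shift a i) = 0 := fun i => by simp [shift, hσ, ha]
  let gX : P' →ₐ[A] S := Algebra.TensorProduct.includeRight
  refine ⟨σ, hσ, hσt, ?_, ?_⟩
  · let Z : Ideal S := Ideal.span (Set.range (shift (P' := P') a)) ⊔ RingHom.ker σ ^ 2
    let T := S ⧸ Z
    let q : S →+* T := Ideal.Quotient.mk Z
    letI : Algebra P T := ((q.comp gX.toRingHom).comp (algebraMap P P')).toAlgebra
    let g₁ : P' →ₐ[P] T := { q.comp gX.toRingHom with commutes' := fun _ => rfl }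
    have hagree : ∀ p : P, q (algebraMap A' S (σ₀ (algebraMap P P' p))) = q (gX (algebraMap P P' p)) := by
      intro p
      induction p using MvPolynomial.induction_on with
      | C c =>
        have e : algebraMap P P' (C c) = algebraMap A P' c := (IsScalarTower.algebraMap_apply A P P' c).symm
        rw [e, σ₀.commutes, gX.commutes, ← IsScalarTower.algebraMap_apply]
      | add p p' hp hp' => simp only [map_add, hp, hp']
      | mul_X p i hp =>
        simp only [map_mul, hp, ha]
        congr 1
        symm
        rw [Ideal.Quotient.eq]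
        exact Submodule.mem_sup_left (Ideal.subset_span ⟨i, by rw [ha]; rfl⟩)
    let g₂ : P' →ₐ[P] T :=
      { (q.comp (algebraMap A' S)).comp σ₀.toRingHom with commutes' := fun p => hagree p }
    let K : Ideal T := (RingHom.ker σ).map q
    have hK : K ^ 2 = ⊥ := by
      rw [← Ideal.map_pow, Ideal.map_eq_bot_iff_le_ker, Ideal.mk_ker]
      exact le_sup_right
    have hg : g₁ = g₂ := Algebra.FormallyUnramified.comp_injective K hK (AlgHom.ext fun p => by
      change Ideal.Quotient.mk K (q (gX p)) = Ideal.Quotient.mk K (q (algebraMap A' S (σ₀ p)))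
      rw [Ideal.Quotient.eq, ← map_sub]
      refine Ideal.mem_map_of_mem _ ?_
      rw [RingHom.mem_ker, map_sub, σ.commutes]
      change σ (1 ⊗ₜ p) - σ₀ p = 0
      rw [hσ, one_mul, sub_self])
    intro y hy
    have hy' : ∀ y : S, q y = q (algebraMap A' S (σ y)) := by
      intro y
      induction y using TensorProduct.induction_on with
      | zero => simp
      | tmul c p =>
        rw [hσ, map_mul, map_mul, show q (algebraMap A' S (σ₀ p)) = q (gX p) from (AlgHom.congr_fun hg p).symm,
          ← map_mul]
        congr 1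
        change c ⊗ₜ[A] p = (c ⊗ₜ[A] (1 : P')) * ((1 : A') ⊗ₜ[A] p)
        simp
      | add y y' h h' => simp only [map_add, h, h']
    have := hy' y
    rw [RingHom.mem_ker.1 hy, map_zero, map_zero] at this
    exact Ideal.Quotient.eq_zero_iff_mem.1 this
  · let Q := MvPolynomial (Fin n) A'
    let ev : P →ₐ[A] Q := MvPolynomial.aeval fun i => X i + C (a i)
    have hlift : ∀ k : ℕ, ∃ ψ : S →ₐ[A'] Q ⧸ idealOfVars (Fin n) A' ^ (k + 1),
        (∀ i, ψ (shift a i) = Ideal.Quotient.mk _ (X i)) ∧
        ∀ s ∈ RingHom.ker σ ^ (k + 1), ψ s = 0 := by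
      intro k
      let J := idealOfVars (Fin n) A'
      let R := Q ⧸ J ^ (k + 1)
      letI : Algebra P R := ((Ideal.Quotient.mk (J ^ (k + 1))).comp ev.toRingHom).toAlgebra
      haveI : IsScalarTower A P R := IsScalarTower.of_algebraMap_eq fun c => by
        change algebraMap A R c = Ideal.Quotient.mk _ (ev (algebraMap A P c))
        rw [ev.commutes]
        rfl
      let I : Ideal R := J.map (Ideal.Quotient.mk _)
      have hI : IsNilpotent I := ⟨k + 1, by rw [← Ideal.map_pow, Ideal.map_quotient_self]; rfl⟩
      have hJ : ∀ p : Q, p - C (constantCoeff p) ∈ J := fun p => by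
        rw [← Submodule.pow_one J, mem_pow_idealOfVars_iff']
        intro x hx
        have : x = 0 := (Finsupp.degree_eq_zero_iff _).1 (Nat.lt_one_iff.1 hx)
        subst this
        rw [← constantCoeff_eq, map_sub, constantCoeff_C, sub_self]
      have hconst : ∀ p : P, constantCoeff (ev p) = σ₀ (algebraMap P P' p) := by
        intro p
        induction p using MvPolynomial.induction_on with
        | C c =>
          have e : algebraMap P P' (C c) = algebraMap A P' c := (IsScalarTower.algebraMap_apply A P P' c).symm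
          rw [e, σ₀.commutes]
          change constantCoeff (ev (algebraMap A P c)) = _
          rw [ev.commutes, IsScalarTower.algebraMap_apply A A' Q, MvPolynomial.algebraMap_eq, constantCoeff_C]
        | add p p' hp hp' => simp only [map_add, hp, hp']
        | mul_X p i hp =>
          simp only [map_mul, hp]
          rw [ha, show ev (X i) = X i + C (a i) from aeval_X _ _]
          simp
      let g : P' →ₐ[P] R ⧸ I :=
        { ((Ideal.Quotient.mk I).comp (algebraMap A' R)).comp σ₀.toRingHom with
          commutes' := fun p => by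
            change Ideal.Quotient.mk I (algebraMap A' R (σ₀ (algebraMap P P' p))) =
              Ideal.Quotient.mk I (Ideal.Quotient.mk _ (ev p))
            rw [Ideal.Quotient.eq, ← hconst, ← neg_mem_iff, neg_sub]
            change Ideal.Quotient.mk _ (ev p) - Ideal.Quotient.mk _ (C _) ∈ I
            rw [← map_sub]
            exact Ideal.mem_map_of_mem _ (hJ _) }
      let h := (Algebra.FormallySmooth.lift I hI g).restrictScalars A
      have hh : ∀ p, Ideal.Quotient.mk I (h p) = Ideal.Quotient.mk I (algebraMap A' R (σ₀ p)) :=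
        fun p => Algebra.FormallySmooth.mk_lift I hI g p
      let ψ : S →ₐ[A'] R := Algebra.TensorProduct.lift (Algebra.ofId A' R) h fun _ _ => .all _ _
      have hψ : ∀ c p, ψ (c ⊗ₜ p) = algebraMap A' R c * h p := fun c p => rfl
      refine ⟨ψ, fun i => ?_, ?_⟩
      · have e : h (algebraMap P P' (X i)) = Ideal.Quotient.mk _ (ev (X i)) :=
          (Algebra.FormallySmooth.lift I hI g).commutes (X i)
        rw [shift, map_sub, hψ, hψ, map_one, map_one, one_mul, mul_one, e]
        rw [show ev (X i) = X i + C (a i) from aeval_X _ _, map_add]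
        exact add_sub_cancel_right (G := R) _ (Ideal.Quotient.mk _ (C (a i)))
      · have hσψ : ∀ s, Ideal.Quotient.mk I (ψ s) = Ideal.Quotient.mk I (algebraMap A' R (σ s)) := by
          intro s
          induction s using TensorProduct.induction_on with
          | zero => simp
          | tmul c p => simp only [hψ, hσ, map_mul, hh]
          | add s s' hs hs' => simp only [map_add, hs, hs']
        have hker : (RingHom.ker σ).map ψ.toRingHom ≤ I := Ideal.map_le_iff_le_comap.2 fun s hs => by
          change ψ s ∈ I
          rw [← Ideal.Quotient.eq_zero_iff_mem, hσψ, RingHom.mem_ker.1 hs, map_zero, map_zero]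
        intro s hs
        have := Ideal.pow_right_mono hker (k + 1) (Ideal.map_pow ψ.toRingHom _ (k + 1) ▸ Ideal.mem_map_of_mem _ hs)
        rwa [show I ^ (k + 1) = ⊥ by rw [← Ideal.map_pow, Ideal.map_quotient_self]] at this
    choose ψ hψX hψ0 using hlift
    let cm : ∀ m : Fin n → ℕ, (Q ⧸ idealOfVars (Fin n) A' ^ (∑ i, m i + 1)) →ₗ[A'] A' := fun m =>
      ((idealOfVars (Fin n) A' ^ (∑ i, m i + 1)).restrictScalars A').liftQ
        (lcoeff A' (Finsupp.equivFunOnFinite.symm m)) (fun p hp => by
          refine (mem_pow_idealOfVars_iff' _ p).1 hp _ (lt_of_eq_of_lt ?_ (Nat.lt_succ_self _))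
          rw [Finsupp.degree_eq_sum]
          simp) ∘ₗ
        (Submodule.Quotient.restrictScalarsEquiv A' _).symm.toLinearMap
    refine ⟨fun m => cm m ∘ₗ (ψ (∑ i, m i)).toLinearMap, fun m k hk s hs => ?_, fun m m' => ?_⟩
    · change cm m (ψ _ s) = 0
      rw [hψ0 _ s (Ideal.pow_le_pow_right hk hs), map_zero]
    · change cm m (ψ _ _) = _
      rw [map_prod]
      simp only [map_pow, hψX]
      rw [← Finset.prod_congr rfl fun i _ => (map_pow (Ideal.Quotient.mk _) (X i) (m' i)), ← map_prod]
      change lcoeff A' (Finsupp.equivFunOnFinite.symm m) _ = _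
      rw [lcoeff_apply, show ∏ i, (X i : Q) ^ m' i = monomial (Finsupp.equivFunOnFinite.symm m') 1 by
        rw [monomial_eq, map_one, one_mul, Finsupp.prod_fintype _ _ (fun i => pow_zero _)]
        simp]
      change coeff (Finsupp.equivFunOnFinite.symm m) (monomial (Finsupp.equivFunOnFinite.symm m') (1 : A')) = _
      rw [coeff_monomial]
      simp [Finsupp.equivFunOnFinite.symm.injective.eq_iff]

end Groth.Agent.RG
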