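import Mathlib.RingTheory.Spectrum.Prime.Chevalley
import Mathlib.RingTheory.Etale.Field
import Mathlib.RingTheory.Etale.Basic
import Mathlib.RingTheory.Ideal.GoingDown
import Mathlib.RingTheory.Smooth.Flat
import Mathlib.RingTheory.Flat.FaithfullyFlat.Basic
import Mathlib.FieldTheory.IsSepClosed
import Mathlib.RingTheory.MvPolynomial.Basic
import Mathlib.Algebra.MvPolynomial.Funext

/-!
# Separable points of étale algebras over affine space
-/

set_option autoImplicit false
set_option linter.style.haveILetI false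
set_option backward.isDefEq.respectTransparency false

universe u

open TensorProduct

namespace Groth.Agent.RG

theorem exists_sep_point {k : Type u} [Field k] {n : ℕ} {C : Type u} [CommRing C] [Algebra k C]
    [Algebra (MvPolynomial (Fin n) k) C] [IsScalarTower k (MvPolynomial (Fin n) k) C]
    [Algebra.Etale (MvPolynomial (Fin n) k) C] {h : C} (hh : ¬ IsNilpotent h) :
    ∃ χ : C →ₐ[k] SeparableClosure k, χ h ≠ 0 := by
  classical
  let K := SeparableClosure k
  haveI : Infinite K := by
    by_contra hfin
    rw [not_infinite_iff_finite] at hfin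
    haveI : PerfectField K := PerfectField.ofFinite
    haveI : IsAlgClosed K := inferInstance
    exact not_finite K
  let P := MvPolynomial (Fin n) k
  let C' := Localization.Away h
  haveI : Nontrivial C' := by
    rw [← not_subsingleton_iff_nontrivial, IsLocalization.subsingleton_iff (S := C') (M := Submonoid.powers h)]
    rintro ⟨m, hm⟩
    exact hh ⟨m, hm⟩
  haveI : Algebra.Etale C C' := Algebra.Etale.of_isLocalizationAway h
  haveI : Algebra.Etale P C' := Algebra.Etale.comp P C C'
  haveI : Algebra.HasGoingDown P C' := inferInstance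
  have hopen : IsOpen (Set.range (PrimeSpectrum.comap (algebraMap P C'))) :=
    (PrimeSpectrum.isOpenMap_comap_of_hasGoingDown_of_finitePresentation (R := P) (S := C')).isOpen_range
  obtain ⟨Q₀⟩ : Nonempty (PrimeSpectrum C') := inferInstance
  obtain ⟨_, ⟨_, ⟨G, rfl⟩, rfl⟩, hG₀, hGU⟩ := PrimeSpectrum.isBasis_basic_opens.exists_subset_of_mem_open
    (Set.mem_range_self (f := PrimeSpectrum.comap (algebraMap P C')) Q₀) hopen
  have hG : G ≠ 0 := fun hG => hG₀ (by simp [hG])
  have hG' : MvPolynomial.map (algebraMap k K) G ≠ 0 := fun h0 =>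
    hG (MvPolynomial.map_injective _ (algebraMap k K).injective (by rw [h0, map_zero]))
  obtain ⟨a, ha⟩ : ∃ a : Fin n → K, MvPolynomial.eval a (MvPolynomial.map (algebraMap k K) G) ≠ 0 := by
    by_contra! h0
    exact hG' (MvPolynomial.funext fun a => by rw [h0 a, map_zero])
  let φ : P →ₐ[k] K := MvPolynomial.aeval a
  have hφG : φ G ≠ 0 := by
    rwa [MvPolynomial.eval_map, ← MvPolynomial.aeval_def] at ha
  let p : Ideal P := RingHom.ker φ.toRingHom
  haveI : p.IsPrime := RingHom.ker_isPrime _
  obtain ⟨Q, hQ⟩ := hGU (show (⟨p, ‹_›⟩ : PrimeSpectrum P) ∈ PrimeSpectrum.basicOpen G from hφG)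
  haveI : Q.asIdeal.LiesOver p := ⟨(congrArg PrimeSpectrum.asIdeal hQ).symm⟩
  letI : Algebra P K := φ.toRingHom.toAlgebra
  haveI : Nontrivial (p.Fiber C') :=
    (PrimeSpectrum.preimageEquivFiber P C' ⟨p, ‹_›⟩ ⟨Q, hQ⟩).nontrivial
  letI : Algebra p.ResidueField K := (Ideal.ResidueField.lift p φ.toRingHom le_rfl fun x hx => by
    rw [Submonoid.mem_comap]
    exact isUnit_iff_ne_zero.2 hx).toAlgebra
  haveI : IsScalarTower P p.ResidueField K := IsScalarTower.of_algebraMap_eq fun x => by
    rw [RingHom.algebraMap_toAlgebra, RingHom.algebraMap_toAlgebra, Ideal.ResidueField.lift_algebraMap]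
  haveI : Nontrivial (K ⊗[p.ResidueField] p.Fiber C') :=
    (Algebra.TensorProduct.includeRight_injective (R := p.ResidueField) (A := K) (B := p.Fiber C')
      (algebraMap p.ResidueField K).injective).nontrivial
  haveI : Nontrivial (K ⊗[P] C') :=
    (Algebra.TensorProduct.cancelBaseChange P p.ResidueField K K C').injective.nontrivial
  haveI : Algebra.Etale K (K ⊗[P] C') := inferInstance
  obtain ⟨I, _, F, _, _, e, hsep⟩ := (Algebra.Etale.iff_exists_algEquiv_prod K (K ⊗[P] C')).1 inferInstance
  obtain ⟨i⟩ : Nonempty I := by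
    by_contra hI
    rw [not_nonempty_iff] at hI
    haveI : Nontrivial (∀ i, F i) := e.injective.nontrivial
    exact false_of_nontrivial_of_subsingleton (∀ i, F i) |>.elim
  haveI := (hsep i).2
  letI : Algebra P (F i) := ((algebraMap K (F i)).comp (algebraMap P K)).toAlgebra
  haveI : IsScalarTower P K (F i) := IsScalarTower.of_algebraMap_eq fun _ => rfl
  let χ₀ : C' →ₐ[P] F i := ((Pi.evalAlgHom K F i).comp e.toAlgHom).restrictScalars P |>.comp
    (Algebra.TensorProduct.includeRight)
  let ei : K ≃+* F i := RingEquiv.ofBijective (algebraMap K (F i))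
    ⟨(algebraMap K (F i)).injective, IsSepClosed.algebraMap_surjective K (F i)⟩
  let χ₁ : C →+* K := (ei.symm.toRingHom.comp χ₀.toRingHom).comp (algebraMap C C')
  refine ⟨{ χ₁ with commutes' := fun x => ?_ }, ?_⟩
  · show ei.symm (χ₀ (algebraMap C C' (algebraMap k C x))) = algebraMap k K x
    rw [IsScalarTower.algebraMap_apply k P C, ← IsScalarTower.algebraMap_apply P C C', χ₀.commutes,
      RingEquiv.symm_apply_eq, IsScalarTower.algebraMap_apply P K (F i)]
    show algebraMap K (F i) (φ (algebraMap k P x)) = ei _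
    rw [φ.commutes]
    rfl
  · show χ₁ h ≠ 0
    exact ((IsLocalization.Away.algebraMap_isUnit (S := C') h).map (ei.symm.toRingHom.comp χ₀.toRingHom)).ne_zero

end Groth.Agent.RG
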