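import Groth.Agent.RG.Content
import Groth.Agent.RG.Eta
import Groth.Agent.RG.SepPoint
import Groth.Agent.RG.FiniteLift
import Groth.Agent.RG.SectionData
import Mathlib.FieldTheory.IntermediateField.Adjoin.Basic

/-!
# Local rings of smooth algebras over henselian local rings have contents
-/

set_option autoImplicit false
set_option linter.style.haveILetI false
set_option backward.isDefEq.respectTransparency false

universe u

open TensorProduct MvPolynomial

namespace Groth.Agent.RG

theorem exists_sep_point_equiv {k : Type u} [Field k] {n : ℕ} {Pk R : Type u} [CommRing Pk] [CommRing R]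
    [Algebra Pk R] [Algebra.Etale Pk R] (ε : MvPolynomial (Fin n) k ≃+* Pk) {h : R} (hh : ¬ IsNilpotent h) :
    ∃ χ : R →+* SeparableClosure k, χ h ≠ 0 ∧
      ∀ c, χ (algebraMap Pk R (ε (C c))) = algebraMap k _ c := by
  letI : Algebra (MvPolynomial (Fin n) k) Pk := ε.toRingHom.toAlgebra
  haveI : Algebra.Etale (MvPolynomial (Fin n) k) Pk :=
    Algebra.Etale.of_equiv (AlgEquiv.ofBijective (Algebra.ofId (MvPolynomial (Fin n) k) Pk) ε.bijective)
  letI : Algebra (MvPolynomial (Fin n) k) R := ((algebraMap Pk R).comp ε.toRingHom).toAlgebra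
  haveI : IsScalarTower (MvPolynomial (Fin n) k) Pk R := IsScalarTower.of_algebraMap_eq fun _ => rfl
  haveI : Algebra.Etale (MvPolynomial (Fin n) k) R := Algebra.Etale.comp _ Pk R
  letI : Algebra k R := ((algebraMap (MvPolynomial (Fin n) k) R).comp C).toAlgebra
  haveI : IsScalarTower k (MvPolynomial (Fin n) k) R := IsScalarTower.of_algebraMap_eq fun _ => rfl
  obtain ⟨χ, hχ⟩ := exists_sep_point (k := k) (n := n) hh
  exact ⟨χ.toRingHom, hχ, fun c => χ.commutes c⟩

/-- membership in `S ⊗ V` -/
theorem mem_span_of_res {A S : Type u} [CommRing A] [CommRing S] [Algebra A S] {r : ℕ}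
    {V : Submodule A (Fin r → A)} {x : Fin r → S} (h : res V x = 0) :
    x ∈ Submodule.span S ((fun v i => algebraMap A S (v i)) '' (V : Set (Fin r → A))) := by
  obtain ⟨z, rfl⟩ := exists_of_res_eq_zero h
  clear h
  induction z using TensorProduct.induction_on with
  | zero => rw [map_zero, map_zero]; exact zero_mem _
  | tmul c v =>
    have : piScalarRight A A S (Fin r) (V.subtype.lTensor S (c ⊗ₜ v)) = c • fun i => algebraMap A S ((v : Fin r → A) i) := by
      funext i
      simp [Algebra.smul_def, mul_comm]
    rw [this]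
    exact Submodule.smul_mem _ _ (Submodule.subset_span ⟨_, v.2, rfl⟩)
  | add a b ha hb => rw [map_add, map_add]; exact add_mem ha hb

/-- a separable point of the closed fibre in a given open set, lifted to a finite étale extension -/
theorem exists_lifted_point {A : Type u} [CommRing A] [HenselianLocalRing A] {n : ℕ} {P' : Type u} [CommRing P']
    [Algebra A P'] [Algebra (MvPolynomial (Fin n) A) P'] [IsScalarTower A (MvPolynomial (Fin n) A) P']
    [Algebra.Etale (MvPolynomial (Fin n) A) P'] (y : Ideal P') [y.IsPrime]
    [y.LiesOver (IsLocalRing.maximalIdeal A)] {s : P'} (hs : s ∉ y) :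
    ∃ (A' : Type u) (_ : CommRing A') (_ : Algebra A A') (L : Type u) (_ : Field L) (_ : Algebra A L)
      (π : A' →ₐ[A] L) (σ₀ : P' →ₐ[A] A'),
      Module.Finite A A' ∧ Module.Free A A' ∧ (∀ x, π x ≠ 0 → IsUnit x) ∧ π (σ₀ s) ≠ 0 ∧
      ∀ a ∈ IsLocalRing.maximalIdeal A, π (algebraMap A A' a) = 0 := by
  classical
  let P := MvPolynomial (Fin n) A
  let m := IsLocalRing.maximalIdeal A
  let k := IsLocalRing.ResidueField A
  let J : Ideal P := m.map (C : A →+* P)
  have hJ : J.map (algebraMap P P') = m.map (algebraMap A P') := by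
    rw [Ideal.map_map, ← MvPolynomial.algebraMap_eq, ← IsScalarTower.algebraMap_eq]
  let Cq := P' ⧸ J.map (algebraMap P P')
  haveI : Algebra.Etale (P ⧸ J) Cq :=
    Algebra.Etale.of_equiv (R := P ⧸ J) (A := (P ⧸ J) ⊗[P] P') (B := P' ⧸ J.map (algebraMap P P'))
      (Algebra.TensorProduct.quotIdealMapEquivQuotTensor P' J).symm
  let mk : P' →+* Cq := Ideal.Quotient.mk _
  have hsn : ¬ IsNilpotent (mk s) := by
    rintro ⟨e, he⟩
    rw [← map_pow, Ideal.Quotient.eq_zero_iff_mem, hJ] at he
    exact hs (Ideal.IsPrime.mem_of_pow_mem inferInstance e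
      (Ideal.map_le_iff_le_comap.2 (Ideal.LiesOver.over (P := y) (p := m)).le he))
  let εA := MvPolynomial.quotientEquivQuotientMvPolynomial (σ := Fin n) m
  obtain ⟨χ, hχs, hχc⟩ := exists_sep_point_equiv (k := k) (Pk := P ⧸ J) (R := Cq) εA.toRingEquiv hsn
  let K := SeparableClosure k
  have hχA : ∀ c : A, χ (mk (algebraMap A P' c)) = algebraMap k K (IsLocalRing.residue A c) := by
    intro c
    rw [← hχc, IsScalarTower.algebraMap_apply A P P']
    change _ = χ (algebraMap (P ⧸ J) Cq (εA (C (Ideal.Quotient.mk m c))))
    have : εA (C (Ideal.Quotient.mk m c)) = Ideal.Quotient.mk J (C c) := by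
      change εA (algebraMap A (MvPolynomial (Fin n) (A ⧸ m)) c) = _
      rw [εA.commutes]
      rfl
    rw [this]
    rfl
  obtain ⟨G, hG⟩ := (Algebra.FiniteType.trans (R := A) (S := P) (A := P') inferInstance inferInstance).out
  let F : IntermediateField k K := IntermediateField.adjoin k ((fun g => χ (mk g)) '' (G : Set P'))
  haveI : Finite ((fun g => χ (mk g)) '' (G : Set P') : Set K) := (G.finite_toSet.image _).to_subtype
  haveI : FiniteDimensional k F := IntermediateField.finiteDimensional_adjoin fun x _ =>
    (Algebra.IsSeparable.isSeparable k x).isIntegral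
  have hmem : ∀ p, χ (mk p) ∈ F := by
    intro p
    have hp : p ∈ Algebra.adjoin A (G : Set P') := by rw [hG]; trivial
    induction hp using Algebra.adjoin_induction with
    | mem g hg => exact IntermediateField.subset_adjoin k _ ⟨g, hg, rfl⟩
    | algebraMap c => rw [hχA]; exact F.algebraMap_mem _
    | add a b _ _ ha hb => rw [map_add, map_add]; exact add_mem ha hb
    | mul a b _ _ ha hb => rw [map_mul, map_mul]; exact mul_mem ha hb
  letI : Algebra A F := ((algebraMap k F).comp (IsLocalRing.residue A)).toAlgebra
  haveI : IsScalarTower A k F := IsScalarTower.of_algebraMap_eq fun _ => rfl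
  haveI : Algebra.IsSeparable k F := Algebra.isSeparable_tower_bot_of_isSeparable k F K
  let π₀ : P' →ₐ[A] F :=
    { (χ.comp mk).codRestrict F.toSubalgebra.toSubring hmem with
      commutes' := fun c => Subtype.ext (hχA c) }
  obtain ⟨A', _, _, _, π, hfin, hfree, hπ⟩ := exists_finite_etale_point A F
  choose a ha using fun i => hπ (π₀ (algebraMap P P' (X i)))
  letI : Algebra P A' := (MvPolynomial.aeval a).toRingHom.toAlgebra
  letI : Algebra P F := (π₀.toRingHom.comp (algebraMap P P')).toAlgebra
  have hπP : π.comp (MvPolynomial.aeval a) = π₀.comp (IsScalarTower.toAlgHom A P P') :=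
    MvPolynomial.algHom_ext fun i => by
      rw [AlgHom.comp_apply, AlgHom.comp_apply, MvPolynomial.aeval_X, IsScalarTower.coe_toAlgHom']
      exact ha i
  let πP : A' →ₐ[P] F := { π.toRingHom with commutes' := fun p => AlgHom.congr_fun hπP p }
  let π₀P : P' →ₐ[P] F := { π₀.toRingHom with commutes' := fun _ => rfl }
  haveI : (RingHom.ker π.toRingHom).IsMaximal := RingHom.ker_isMaximal_of_surjective _ hπ
  have hker : RingHom.ker πP.toRingHom = IsLocalRing.maximalIdeal A' :=
    IsLocalRing.eq_maximalIdeal (I := RingHom.ker π.toRingHom) inferInstance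
  obtain ⟨σP, hσP, -⟩ := Hensel.existsUnique_algHom_of_quotient (A := P) (B₁ := P') (B₂ := A') (T := F) πP hπ
    (hker ▸ (inferInstance : HenselianRing A' (IsLocalRing.maximalIdeal A'))) π₀P
  let σ₀ : P' →ₐ[A] A' :=
    { σP.toRingHom with
      commutes' := fun c => by
        change σP (algebraMap A P' c) = _
        rw [IsScalarTower.algebraMap_apply A P P', σP.commutes]
        exact (MvPolynomial.aeval a).commutes c }
  refine ⟨A', inferInstance, inferInstance, F, inferInstance, inferInstance, π, σ₀, hfin, hfree, fun x hx => ?_, ?_,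
    fun c hc => ?_⟩
  · refine IsLocalRing.notMem_maximalIdeal.1 fun h => hx ?_
    rw [← hker] at h
    exact RingHom.mem_ker.1 h
  · have h2 : π (σ₀ s) = π₀ s := AlgHom.congr_fun hσP s
    rw [h2]
    intro h0
    exact hχs (congrArg Subtype.val h0)
  · rw [π.commutes]
    change algebraMap k F (IsLocalRing.residue A c) = 0
    rw [IsLocalRing.residue_eq_zero_iff c |>.2 hc, map_zero]

/-- contents in the local ring at the generic point of a component of the closed fibre -/
theorem content_eta {A : Type u} [CommRing A] [HenselianLocalRing A] {n : ℕ} {P' : Type u} [CommRing P']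
    [Algebra A P'] [Algebra (MvPolynomial (Fin n) A) P'] [IsScalarTower A (MvPolynomial (Fin n) A) P']
    [Algebra.Etale (MvPolynomial (Fin n) A) P'] (η : Ideal P') [η.IsPrime]
    (hmη : (IsLocalRing.maximalIdeal A).map (algebraMap A P') ≤ η) (y : Ideal P') [y.IsPrime] (hηy : η ≤ y)
    {s : P'} (hs : s ∉ y) (hsη : ∀ a ∈ η, s * a ∈ (IsLocalRing.maximalIdeal A).map (algebraMap A P'))
    {r : ℕ} (x₀ : Fin r → P') :
    ∃ V : Submodule A (Fin r → A), V.FG ∧
      ∀ V₁, res V₁ (fun i => algebraMap P' (Localization.AtPrime η) (x₀ i)) = 0 ↔ V ≤ V₁ := by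
  classical
  let P := MvPolynomial (Fin n) A
  haveI : Module.Flat A P' := Module.Flat.trans A P P'
  haveI : Algebra.FinitePresentation A P' := Algebra.FinitePresentation.trans A P P'
  haveI : y.LiesOver (IsLocalRing.maximalIdeal A) := ⟨((IsLocalRing.maximalIdeal.isMaximal A).eq_of_le
    (Ideal.IsPrime.comap (algebraMap A P') (hK := ‹y.IsPrime›)).ne_top
    (Ideal.map_le_iff_le_comap.1 (hmη.trans hηy)))⟩
  obtain ⟨A', _, _, L, _, _, π, σ₀, _, _, hπu, hπs, hπm⟩ :=
    exists_lifted_point (A := A) (n := n) y hs
  let a : Fin n → A' := fun i => σ₀ (algebraMap P P' (X i))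
  obtain ⟨σ, hσ, hσt, hI, φ, hφ, hφt⟩ := exists_section_data σ₀ a fun _ => rfl
  let S := A' ⊗[A] P'
  let x' : Fin r → S := fun i => 1 ⊗ₜ x₀ i
  haveI : Algebra.FiniteType A' S := inferInstance
  obtain ⟨hV'fg, s', hs', hsx⟩ := core σ (shift a) hσt hI φ hφ hφt x'
  set V' := Submodule.span A' (Set.range fun m i => φ m (x' i)) with hV'
  let b := Module.Free.chooseBasis A A'
  let cj : Module.Free.ChooseBasisIndex A A' → (Fin r → A') →ₗ[A] (Fin r → A) :=
    fun j => LinearMap.pi fun i => (b.coord j).comp (LinearMap.proj i)
  let V : Submodule A (Fin r → A) := ⨆ j, (V'.restrictScalars A).map (cj j)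
  haveI : Module.Finite A' V' := Module.Finite.iff_fg.2 hV'fg
  haveI : Module.Finite A V' := Module.Finite.trans A' V'
  refine ⟨V, Submodule.fg_iSup _ fun j => Submodule.FG.map _ (Module.Finite.iff_fg.1 ‹Module.Finite A V'›), ?_⟩
  let Qp : Ideal P' := RingHom.ker (π.comp σ₀).toRingHom
  haveI : Qp.IsPrime := RingHom.ker_isPrime _
  have hsQ : s ∉ Qp := hπs
  have hηQ : η ≤ Qp := by
    intro g hg
    have : (IsLocalRing.maximalIdeal A).map (algebraMap A P') ≤ Qp := Ideal.map_le_iff_le_comap.2 fun c hc => by
      change π (σ₀ (algebraMap A P' c)) = 0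
      rw [σ₀.commutes]
      exact hπm c hc
    exact (Ideal.IsPrime.mem_or_mem inferInstance (this (hsη g hg))).resolve_left hsQ
  let W : Submodule A (Fin r → A) → Submodule A' (Fin r → A') := fun V₁ =>
    Submodule.span A' ((fun v i => algebraMap A A' (v i)) '' (V₁ : Set (Fin r → A)))
  have hWc : ∀ V₁, ∀ w ∈ W V₁, ∀ j, cj j w ∈ V₁ := by
    intro V₁ w hw
    induction hw using Submodule.span_induction with
    | mem w hw =>
      obtain ⟨v, hv, rfl⟩ := hw
      intro j
      have : cj j (fun i => algebraMap A A' (v i)) = b.coord j 1 • v := by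
        funext i
        simp [cj, Algebra.algebraMap_eq_smul_one, mul_comm]
      rw [this]
      exact V₁.smul_mem _ hv
    | zero => intro j; rw [map_zero]; exact zero_mem _
    | add u w _ _ hu hw => intro j; rw [map_add]; exact add_mem (hu j) (hw j)
    | smul c w _ hw =>
      intro j
      have : cj j (c • w) = ∑ l, b.coord j (c * b l) • cj l w := by
        funext i
        simp only [cj, LinearMap.pi_apply, LinearMap.coe_comp, Function.comp_apply, LinearMap.coe_proj,
          Function.eval, Pi.smul_apply, smul_eq_mul, Finset.sum_apply, Module.Basis.coord_apply]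
        conv_lhs => rw [← b.sum_repr (w i), Finset.mul_sum]
        simp [Finset.mul_sum, mul_comm]
      rw [this]
      exact sum_mem fun l _ => V₁.smul_mem _ (hw l)
  have hV'W : V' ≤ W V := by
    intro v hv
    have : v = ∑ j, b j • fun i => algebraMap A A' (cj j v i) := by
      funext i
      simp only [cj, Finset.sum_apply, Pi.smul_apply, LinearMap.pi_apply, LinearMap.coe_comp, Function.comp_apply,
        LinearMap.coe_proj, Function.eval, Module.Basis.coord_apply, smul_eq_mul]
      conv_lhs => rw [← b.sum_repr (v i)]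
      simp [Algebra.smul_def, mul_comm]
    rw [this]
    exact sum_mem fun j _ => Submodule.smul_mem _ _ (Submodule.subset_span
      ⟨_, le_iSup (fun j => (V'.restrictScalars A).map (cj j)) j ⟨v, hv, rfl⟩, rfl⟩)
  intro V₁
  let M (V₁ : Submodule A (Fin r → A)) := P' ⊗[A] ((Fin r → A) ⧸ V₁)
  let Eη := Localization.AtPrime η
  have hloc : ∀ (q : Ideal P') [q.IsPrime] (d : P'), d ∉ q → res V₁ (d • x₀) = 0 →
      res V₁ (fun i => algebraMap P' (Localization.AtPrime q) (x₀ i)) = 0 := by
    intro q _ d hd h
    have h1 := res_map V₁ ((Algebra.linearMap P' (Localization.AtPrime q)).restrictScalars A) (d • x₀)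
    rw [h, map_zero] at h1
    have h2 := res_map V₁ ((LinearMap.mulLeft (Localization.AtPrime q)
      (((IsLocalization.map_units (M := q.primeCompl) (Localization.AtPrime q) ⟨d, hd⟩).unit⁻¹ : (Localization.AtPrime q)ˣ) :
        Localization.AtPrime q)).restrictScalars A)
      (fun i => algebraMap P' (Localization.AtPrime q) ((d • x₀) i))
    rw [show res V₁ (fun i => algebraMap P' (Localization.AtPrime q) ((d • x₀) i)) = 0 from h1, map_zero] at h2
    refine Eq.trans (congrArg (res V₁) (funext fun i => ?_)) h2
    simp [← mul_assoc]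
  constructor
  · intro h
    obtain ⟨j, hj, hjinj⟩ := pure_to_eta η hmη Qp hηQ hsQ hsη
    have hQ : res V₁ (fun i => algebraMap P' (Localization.AtPrime Qp) (x₀ i)) = 0 := by
      apply hjinj
      rw [← res_map, map_zero]
      simpa only [hj] using h
    have hQ' : AlgebraTensorModule.rTensor A _ (Algebra.linearMap P' (Localization.AtPrime Qp)) (res V₁ x₀) =
        AlgebraTensorModule.rTensor A _ (Algebra.linearMap P' (Localization.AtPrime Qp)) 0 := by
      rw [map_zero]
      rw [show res V₁ (fun i => algebraMap P' (Localization.AtPrime Qp) (x₀ i)) = _ from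
        res_map V₁ ((Algebra.linearMap P' (Localization.AtPrime Qp)).restrictScalars A) x₀] at hQ
      exact hQ
    obtain ⟨⟨d, hd⟩, hd0⟩ := IsLocalizedModule.exists_of_eq (S := Qp.primeCompl) hQ'
    rw [smul_zero] at hd0
    have hd1 : res V₁ (d • x₀) = 0 := by
      rw [← hd0]
      simp [res, Submonoid.smul_def, Finset.smul_sum, smul_tmul']
    let d' : S := 1 ⊗ₜ d
    have hd' : d' • x' ∈ Submodule.span S ((fun v i => algebraMap A' S (v i)) '' (W V₁ : Set (Fin r → A'))) := by
      have hx := mem_span_of_res hd1
      have : d' • x' = fun i => (Algebra.TensorProduct.includeRight : P' →ₐ[A] S) ((d • x₀) i) := by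
        funext i
        change ((1 : A') ⊗ₜ[A] d) * ((1 : A') ⊗ₜ[A] x₀ i) = (1 : A') ⊗ₜ[A] (d * x₀ i)
        rw [Algebra.TensorProduct.tmul_mul_tmul, one_mul]
      rw [this]
      clear this hd1
      generalize d • x₀ = w at hx
      induction hx using Submodule.span_induction with
      | mem w hw =>
        obtain ⟨v, hv, rfl⟩ := hw
        refine Submodule.subset_span ⟨_, Submodule.subset_span ⟨v, hv, rfl⟩, ?_⟩
        funext i
        beta_reduce
        rw [AlgHom.commutes, ← IsScalarTower.algebraMap_apply]
      | zero => simp only [Pi.zero_apply, map_zero]; exact zero_mem _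
      | add u w _ _ hu hw => simp only [Pi.add_apply, map_add]; exact add_mem hu hw
      | smul c w _ hw =>
        simp only [Pi.smul_apply, smul_eq_mul, map_mul]
        exact Submodule.smul_mem _ ((Algebra.TensorProduct.includeRight : P' →ₐ[A] S) c) hw
    obtain ⟨c, hc⟩ := hπu (σ d') (by
      rw [show σ d' = σ₀ d by simp only [d', hσ, one_mul]]
      exact hd)
    have hVW : V' ≤ W V₁ := by
      rw [hV', Submodule.span_le]
      rintro _ ⟨m, rfl⟩
      let k := ∑ i, m i + 1
      let w : S := 1 - algebraMap A' S ((c⁻¹ : A'ˣ) : A') * d'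
      have hw : w ∈ RingHom.ker σ := by
        rw [RingHom.mem_ker, map_sub, map_one, map_mul, AlgHom.commutes, ← hc, Algebra.algebraMap_self,
          RingHom.id_apply, Units.inv_mul, sub_self]
      let e : S := algebraMap A' S ((c⁻¹ : A'ˣ) : A') * ∑ i ∈ Finset.range k, w ^ i
      have he : 1 - e * d' = w ^ k := by
        have := mul_neg_geom_sum w k
        simp only [w, e] at this ⊢
        linear_combination -this
      have hex : (fun i => φ m (x' i)) = fun i => φ m ((e • (d' • x')) i) := by
        funext i
        rw [← sub_eq_zero, ← map_sub]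
        refine hφ m k (Nat.lt_succ_self _) _ ?_
        rw [Pi.smul_apply, Pi.smul_apply, smul_eq_mul, smul_eq_mul,
          show x' i - e * (d' * x' i) = (1 - e * d') * x' i by ring, he]
        exact Ideal.mul_mem_right _ _ (Ideal.pow_mem_pow hw k)
      change (fun i => φ m (x' i)) ∈ W V₁
      rw [hex]
      have hspan : ∀ z ∈ Submodule.span S ((fun v i => algebraMap A' S (v i)) '' (W V₁ : Set (Fin r → A'))),
          ∀ c : S, (fun i => φ m (c * z i)) ∈ W V₁ := by
        intro z hz
        induction hz using Submodule.span_induction with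
        | mem z hz =>
          obtain ⟨v, hv, rfl⟩ := hz
          intro c
          have : (fun i => φ m (c * algebraMap A' S (v i))) = φ m c • v := by
            funext i
            rw [← Algebra.commutes, ← Algebra.smul_def, map_smul, Pi.smul_apply, smul_eq_mul, smul_eq_mul, mul_comm]
          rw [this]
          exact Submodule.smul_mem _ _ hv
        | zero => intro c; simp only [Pi.zero_apply, mul_zero, map_zero]; exact zero_mem _
        | add u v _ _ hu hv => intro c; simp only [Pi.add_apply, mul_add, map_add]; exact add_mem (hu c) (hv c)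
        | smul c' u _ hu => intro c; simp only [Pi.smul_apply, smul_eq_mul, ← mul_assoc]; exact hu _
      exact hspan _ hd' e
    refine iSup_le fun j => ?_
    rintro _ ⟨v, hv, rfl⟩
    exact hWc V₁ v (hVW hv) j
  · intro hle
    let z : M V := res V x₀
    let I : Ideal P' := LinearMap.ker (LinearMap.toSpanSingleton P' (M V) z)
    suffices ¬ I ≤ η by
      obtain ⟨d, hdI, hd⟩ := Set.not_subset.1 this
      refine hloc η d hd (res_mono hle ?_)
      rw [← show d • z = 0 from hdI]
      simp only [z, res, Finset.smul_sum, smul_tmul', Pi.smul_apply]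
      rfl
    intro hIη
    let T : (Fin r → S) →ₗ[A] A' ⊗[A] M V := ∑ i, (((TensorProduct.mk A P' ((Fin r → A) ⧸ V)).flip
      (V.mkQ (Pi.single i 1))).lTensor A').comp (LinearMap.proj i)
    have hTapp : ∀ y : Fin r → S, T y = ∑ i, ((TensorProduct.mk A P' ((Fin r → A) ⧸ V)).flip
        (V.mkQ (Pi.single i 1))).lTensor A' (y i) := fun y => by
      simp only [T]
      exact LinearMap.sum_apply _ _ y
    have hT : ∀ (c : S) (v : Fin r → A), T (fun i => c * algebraMap A S (v i)) =
        ((TensorProduct.mk A P' ((Fin r → A) ⧸ V)).flip (V.mkQ v)).lTensor A' c := by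
      intro c v
      induction c using TensorProduct.induction_on with
      | zero => simp [← Pi.zero_def]
      | tmul α p =>
        simp only [hTapp, LinearMap.comp_apply, LinearMap.proj_apply, LinearMap.lTensor_tmul,
          LinearMap.flip_apply, TensorProduct.mk_apply]
        have : ∀ i, α ⊗ₜ[A] p * algebraMap A S (v i) = v i • (α ⊗ₜ[A] p) := fun i => by
          rw [Algebra.smul_def, mul_comm]
        simp only [this, map_smul, LinearMap.lTensor_tmul, LinearMap.flip_apply, TensorProduct.mk_apply]
        conv_rhs => rw [pi_eq_sum_univ' v, map_sum, tmul_sum, tmul_sum]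
        simp [TensorProduct.tmul_smul]
      | add u w hu hw =>
        rw [map_add, ← hu, ← hw, ← map_add]
        simp only [add_mul]
        rfl
    have hTspan : ∀ u ∈ Submodule.span S ((fun v i => algebraMap A' S (v i)) '' (W V : Set (Fin r → A'))),
        ∀ c : S, T (c • u) = 0 := by
      intro u hu
      induction hu using Submodule.span_induction with
      | mem u hu =>
        obtain ⟨v, hv, rfl⟩ := hu
        induction hv using Submodule.span_induction with
        | mem v hv =>
          obtain ⟨v, hv, rfl⟩ := hv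
          intro c
          have h0 : V.mkQ v = 0 := (Submodule.Quotient.mk_eq_zero V).2 hv
          change T (fun i => c * algebraMap A' S (algebraMap A A' (v i))) = 0
          simp only [← IsScalarTower.algebraMap_apply]
          rw [hT, h0, map_zero, LinearMap.lTensor_zero, LinearMap.zero_apply]
        | zero =>
          intro c
          convert map_zero T using 2
          funext i
          simp
        | add v w _ _ hv hw =>
          intro c
          convert congrArg₂ (· + ·) (hv c) (hw c) using 1
          · rw [← map_add]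
            congr 1
            funext i
            simp [mul_add]
          · simp
        | smul a v _ hv =>
          intro c
          convert hv (c * algebraMap A' S a) using 2
          funext i
          simp [mul_assoc]
      | zero => intro c; rw [smul_zero, map_zero]
      | add u w _ _ hu hw => intro c; rw [smul_add, map_add, hu, hw, add_zero]
      | smul c' u _ hu => intro c; rw [smul_smul]; exact hu _
    have hker : T (s' • x') = 0 := by
      have := hTspan _ (Submodule.span_mono (Set.image_mono hV'W) hsx) 1
      rwa [one_smul] at this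
    let ι : (P' ⧸ I) →ₗ[A] M V := (I.liftQ (LinearMap.toSpanSingleton P' (M V) z) le_rfl).restrictScalars A
    have hι : Function.Injective ι := by
      rw [← LinearMap.ker_eq_bot, LinearMap.ker_restrictScalars]
      exact (Submodule.restrictScalars_eq_bot_iff _ _ _).2 (Submodule.ker_liftQ_eq_bot _ _ _ le_rfl)
    have hTs : T (s' • x') = ι.lTensor A' (((Ideal.Quotient.mkₐ A I).toLinearMap.lTensor A') s') := by
      clear hker hs' hsx
      induction s' using TensorProduct.induction_on with
      | zero => simp
      | tmul α p =>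
        rw [LinearMap.lTensor_tmul, LinearMap.lTensor_tmul]
        change _ = α ⊗ₜ (p • z)
        simp [hTapp, x', z, res, Algebra.TensorProduct.tmul_mul_tmul, Finset.smul_sum, smul_tmul', ← tmul_sum]
        rfl
      | add u w hu hw => rw [add_smul, map_add, hu, hw, map_add, map_add]
    have h0 : (Ideal.Quotient.mkₐ A I).toLinearMap.lTensor A' s' = 0 :=
      Module.Flat.lTensor_preserves_injective_linearMap _ hι (by rw [← hTs, hker, map_zero])
    let g : A' ⊗[A] (P' ⧸ I) →ₐ[A] L := Algebra.TensorProduct.lift π
      (Ideal.Quotient.liftₐ I (π.comp σ₀) fun p hp => hηQ (hIη hp)) fun _ _ => .all _ _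
    have hg : ∀ u : S, g ((Ideal.Quotient.mkₐ A I).toLinearMap.lTensor A' u) = π (σ u) := by
      intro u
      induction u using TensorProduct.induction_on with
      | zero => simp
      | tmul α p =>
        rw [LinearMap.lTensor_tmul, hσ, map_mul]
        rfl
      | add u w hu hw => simp only [map_add, hu, hw]
    have := hg s'
    rw [h0, map_zero, hs', map_one] at this
    exact zero_ne_one this

/-- the local ring of an étale algebra over `A[X]` at a point of the closed fibre has contents -/
theorem ctn_atPrime {A : Type u} [CommRing A] [HenselianLocalRing A] {n : ℕ} {P' : Type u} [CommRing P']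
    [Algebra A P'] [Algebra (MvPolynomial (Fin n) A) P'] [IsScalarTower A (MvPolynomial (Fin n) A) P']
    [Algebra.Etale (MvPolynomial (Fin n) A) P'] (y : Ideal P') [y.IsPrime]
    [y.LiesOver (IsLocalRing.maximalIdeal A)] : Ctn A (Localization.AtPrime y) := by
  let P := MvPolynomial (Fin n) A
  haveI : Module.Flat A P' := Module.Flat.trans A P P'
  haveI : Algebra.FinitePresentation A P' := Algebra.FinitePresentation.trans A P P'
  obtain ⟨η, _, hηy, hmη, s, hs, hsη⟩ := exists_eta (A := A) (n := n) y
  obtain ⟨j, hj, hjinj⟩ := pure_to_eta η hmη y hηy hs hsη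
  refine Ctn.of_pure j hjinj fun r x => ?_
  let Eη := Localization.AtPrime η
  obtain ⟨⟨d, hd⟩, hdx⟩ := IsLocalization.exist_integer_multiples_of_finite η.primeCompl x
  choose x₀ hx₀ using hdx
  obtain ⟨V, hV, h⟩ := content_eta (n := n) η hmη y hηy hs hsη x₀
  refine ⟨V, hV, fun V' => ?_⟩
  rw [← h V']
  have e : (fun i => algebraMap P' Eη (x₀ i)) =
      fun i => ((LinearMap.mulLeft Eη (algebraMap P' Eη d)).restrictScalars A) (x i) := by
    funext i
    rw [hx₀ i]
    simp [Algebra.smul_def]
    rfl
  rw [e, res_map, map_eq_zero_iff]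
  have hu := IsLocalization.map_units (M := η.primeCompl) Eη ⟨d, hd⟩
  exact ((LinearEquiv.ofBijective ((LinearMap.mulLeft Eη (algebraMap P' Eη d)).restrictScalars A)
    (show Function.Bijective (algebraMap P' Eη d * ·) from hu.unit.mulLeft.bijective)).rTensor _).injective

end Groth.Agent.RG
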