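import Groth.Agent.RG.Res
import Groth.Agent.RG.SmoothLocal
import Groth.Agent.RG.FewerVars
import Groth.Agent.LqfRep.Ring
import Groth.Agent.FibCrit.EssFP
import Mathlib.RingTheory.Flat.Localization
import Mathlib.RingTheory.LocalRing.Module

/-!
# Dévissage: modules with relations dying modulo `m` are flat and have contents
-/

set_option autoImplicit false
set_option linter.style.haveILetI false
set_option backward.isDefEq.respectTransparency false

universe u

open TensorProduct MvPolynomial

namespace Groth.Agent.RG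

/-- the conclusion of the dévissage in `n` variables -/
def Good (A : Type u) [CommRing A] [IsLocalRing A] (n : ℕ) : Prop :=
  ∀ (B : Type u) [CommRing B] [Algebra A B] [Algebra.FinitePresentation A B] (q : Ideal B) [q.IsPrime]
    [q.LiesOver (IsLocalRing.maximalIdeal A)] (f : MvPolynomial (Fin n) A →ₐ[A] B),
    (letI := f.toRingHom.toAlgebra; Algebra.QuasiFiniteAt (MvPolynomial (Fin n) A) q) →
    ∀ (N : Type u) [AddCommGroup N] [Module B N] [Module A N] [IsScalarTower A B N]
      [Module.FinitePresentation B N],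
      RelFlat A (LocalizedModule q.primeCompl N) →
        Module.Flat A (LocalizedModule q.primeCompl N) ∧ Ctn A (LocalizedModule q.primeCompl N)

/-- transfer to a local flat algebra lying over the point -/
theorem local_descent {A B : Type u} [CommRing A] [IsLocalRing A] [CommRing B] [Algebra A B] (q : Ideal B)
    [q.IsPrime] (N : Type u) [AddCommGroup N] [Module B N] [Module A N] [IsScalarTower A B N]
    (W : Type u) [CommRing W] [IsLocalRing W] [Algebra B W] [Algebra A W] [IsScalarTower A B W] [Module.Flat B W]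
    (hW : (IsLocalRing.maximalIdeal W).comap (algebraMap B W) = q) :
    (RelFlat A (LocalizedModule q.primeCompl N) → RelFlat A (W ⊗[B] N)) ∧
    (Module.Flat A (W ⊗[B] N) → Module.Flat A (LocalizedModule q.primeCompl N)) ∧
    (Ctn A (W ⊗[B] N) → Ctn A (LocalizedModule q.primeCompl N)) := by
  let R := Localization.AtPrime q
  have hu : ∀ b : q.primeCompl, IsUnit (algebraMap B W b) := fun b => by
    by_contra hb
    exact b.2 ((SetLike.ext_iff.1 hW (b : B)).1 ((IsLocalRing.mem_maximalIdeal _).2 hb))
  letI : Algebra R W := (IsLocalization.lift (S := R) hu).toAlgebra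
  haveI : IsScalarTower B R W := IsScalarTower.of_algebraMap_eq fun b => by
    rw [RingHom.algebraMap_toAlgebra, IsLocalization.lift_eq]
  haveI : IsScalarTower A R W := IsScalarTower.of_algebraMap_eq fun a => by
    rw [IsScalarTower.algebraMap_apply A B R, ← IsScalarTower.algebraMap_apply B R W,
      ← IsScalarTower.algebraMap_apply]
  haveI : Module.Flat R W := (Module.flat_iff_of_isLocalization R q.primeCompl W).2 inferInstance
  haveI : IsLocalHom (algebraMap R W) := ⟨fun x hx => by
    obtain ⟨b, s, rfl⟩ := IsLocalization.exists_mk'_eq q.primeCompl x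
    have h1 : IsUnit (algebraMap B W b) := by
      have e := congrArg (algebraMap R W) (IsLocalization.mk'_spec R b s)
      rw [map_mul, ← IsScalarTower.algebraMap_apply, ← IsScalarTower.algebraMap_apply] at e
      rw [← e]
      exact hx.mul (hu s)
    rw [IsLocalization.AtPrime.isUnit_mk'_iff]
    intro hb
    exact (IsLocalRing.mem_maximalIdeal _).1 ((SetLike.ext_iff.1 hW b).2 hb) h1⟩
  haveI : Module.FaithfullyFlat R W := Module.FaithfullyFlat.of_flat_of_isLocalHom
  let X := LocalizedModule q.primeCompl N
  let e : W ⊗[R] X ≃ₗ[A] W ⊗[B] N :=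
    ((TensorProduct.AlgebraTensorModule.congr (LinearEquiv.refl W W) (LocalizedModule.equivTensorProduct q.primeCompl N)).trans
      (TensorProduct.AlgebraTensorModule.cancelBaseChange B R W W N)).restrictScalars A
  let j : X →ₗ[A] W ⊗[B] N := e.toLinearMap.comp ((TensorProduct.mk R W X 1).restrictScalars A)
  have hj : ∀ (Q : Type u) [AddCommGroup Q] [Module A Q], Function.Injective (j.rTensor Q) := by
    intro Q _ _
    rw [LinearMap.rTensor_comp]
    exact (e.rTensor Q).injective.comp (pure_mk (R := R) W Q)
  exact ⟨fun h => (h.baseChange (R := R) W).of_equiv e.symm,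
    fun h => flat_of_pure j hj,
    fun h => h.of_pure j hj⟩

/-- the fibre-generic basis and its cokernel -/
theorem exists_alpha {A : Type u} [CommRing A] [IsLocalRing A] {P' : Type u} [CommRing P'] [Algebra A P']
    (η : Ideal P') [η.IsPrime] (y : Ideal P') [y.IsPrime] (hηy : η ≤ y)
    {s : P'} (hs : s ∉ y) (hsη : ∀ a ∈ η, s * a ∈ (IsLocalRing.maximalIdeal A).map (algebraMap A P'))
    (hmη : (IsLocalRing.maximalIdeal A).map (algebraMap A P') ≤ η)
    (Y : Type u) [AddCommGroup Y] [Module (Localization.AtPrime y) Y] [Module A Y]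
    [IsScalarTower A (Localization.AtPrime y) Y] [Module.Finite (Localization.AtPrime y) Y] :
    ∃ (r : ℕ) (α : (Fin r → Localization.AtPrime y) →ₗ[Localization.AtPrime y] Y),
      (∀ c, α c ∈ IsLocalRing.maximalIdeal A • (⊤ : Submodule A Y) →
        c ∈ IsLocalRing.maximalIdeal A • (⊤ : Submodule A (Fin r → Localization.AtPrime y))) ∧
      ∃ h : P', h ∉ η ∧ ∀ z : Y ⧸ LinearMap.range α, algebraMap P' (Localization.AtPrime y) h • z = 0 := by
  classical
  let D := Localization.AtPrime y
  let m := IsLocalRing.maximalIdeal A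
  let ηD : Ideal D := η.map (algebraMap P' D)
  have hdisj : Disjoint (y.primeCompl : Set P') (η : Set P') :=
    Set.disjoint_left.2 fun a ha ha' => ha (hηy ha')
  haveI : ηD.IsPrime := IsLocalization.isPrime_of_isPrime_disjoint y.primeCompl D η ‹_› hdisj
  have hηD : ηD.comap (algebraMap P' D) = η :=
    IsLocalization.comap_map_of_isPrime_disjoint y.primeCompl D ‹_› hdisj
  have hηm : ηD ≤ m.map (algebraMap A D) := by
    rw [Ideal.map_le_iff_le_comap]
    intro a ha
    have h1 := Ideal.mem_map_of_mem (algebraMap P' D) (hsη a ha)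
    rw [Ideal.map_map, ← IsScalarTower.algebraMap_eq, map_mul] at h1
    exact (Ideal.unit_mul_mem_iff_mem _ (IsLocalization.map_units (M := y.primeCompl) D ⟨s, hs⟩)).1 h1
  let κ := ηD.ResidueField
  let V := κ ⊗[D] Y
  have hspan : Submodule.span κ (Set.range fun y : Y => (1 : κ) ⊗ₜ[D] y) = ⊤ := by
    rw [eq_top_iff]
    rintro z -
    induction z using TensorProduct.induction_on with
    | zero => exact zero_mem _
    | tmul c y =>
      rw [show c ⊗ₜ[D] y = c • ((1 : κ) ⊗ₜ[D] y) by simp [smul_tmul', smul_eq_mul]]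
      exact Submodule.smul_mem _ _ (Submodule.subset_span ⟨y, rfl⟩)
    | add a b ha hb => exact add_mem ha hb
  obtain ⟨b, hbsub, hbspan, hbli⟩ := exists_linearIndependent κ (Set.range fun y : Y => (1 : κ) ⊗ₜ[D] y)
  rw [hspan] at hbspan
  haveI : Finite b := hbli.finite
  haveI := Fintype.ofFinite b
  let eb := Fintype.equivFin b
  choose ys hys using fun i : Fin (Fintype.card b) => hbsub (eb.symm i).2
  refine ⟨Fintype.card b, Fintype.linearCombination D ys, ?_, ?_⟩
  · intro c hc
    have h0 : (1 : κ) ⊗ₜ[D] (Fintype.linearCombination D ys c) = 0 := by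
      clear hys
      generalize Fintype.linearCombination D ys c = w at hc
      induction hc using Submodule.smul_induction_on' with
      | smul a ha w _ =>
        rw [← algebraMap_smul D a w, ← smul_tmul, Algebra.smul_def, mul_one]
        have : algebraMap A D a ∈ ηD := by
          rw [IsScalarTower.algebraMap_apply A P' D]
          exact Ideal.mem_map_of_mem _ (hmη (Ideal.mem_map_of_mem _ ha))
        rw [(Ideal.algebraMap_residueField_eq_zero).2 this, zero_tmul]
      | add a _ b _ ha hb => rw [tmul_add, ha, hb, add_zero]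
    have hlin : LinearIndependent κ fun i => ((eb.symm i : b) : V) := hbli.comp _ eb.symm.injective
    have h1 : ∑ i, algebraMap D κ (c i) • ((eb.symm i : b) : V) = 0 := by
      rw [← h0, Fintype.linearCombination_apply, tmul_sum]
      refine Finset.sum_congr rfl fun i _ => ?_
      rw [← hys i, tmul_smul, algebraMap_smul]
    have h2 : ∀ i, c i ∈ m.map (algebraMap A D) := fun i =>
      hηm (Ideal.algebraMap_residueField_eq_zero.1 (Fintype.linearIndependent_iff.1 hlin _ h1 i))
    rw [← Submodule.restrictScalars_top A D (Fin (Fintype.card b) → D), ← Ideal.smul_restrictScalars,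
      Submodule.restrictScalars_mem, pi_eq_sum_univ' c]
    exact Submodule.sum_mem _ fun i _ => Submodule.smul_mem_smul (h2 i) trivial
  · let α := Fintype.linearCombination D ys
    have hsurj : ∀ v : V, v ∈ LinearMap.range ((TensorProduct.AlgebraTensorModule.lTensor κ κ) α) := by
      intro v
      have hv : v ∈ Submodule.span κ b := hbspan ▸ trivial
      refine Submodule.span_le.2 ?_ hv
      intro w hw
      refine ⟨(1 : κ) ⊗ₜ Pi.single (eb ⟨w, hw⟩) 1, ?_⟩
      rw [AlgebraTensorModule.lTensor_tmul, Fintype.linearCombination_apply_single, one_smul]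
      refine (hys _).trans ?_
      rw [Equiv.symm_apply_apply]
    have hsub : Subsingleton (κ ⊗[D] (Y ⧸ LinearMap.range α)) := by
      refine subsingleton_of_forall_eq 0 fun v => ?_
      obtain ⟨v, rfl⟩ := LinearMap.lTensor_surjective κ (LinearMap.range α).mkQ_surjective v
      obtain ⟨u, hu⟩ := hsurj v
      rw [← hu, AlgebraTensorModule.coe_lTensor, ← LinearMap.lTensor_comp_apply,
        show (LinearMap.range α).mkQ ∘ₗ α = 0 from LinearMap.range_le_ker_iff.1 (by rw [Submodule.ker_mkQ]),
        LinearMap.lTensor_zero, LinearMap.zero_apply]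
    have hns : (⟨ηD, ‹_›⟩ : PrimeSpectrum D) ∉ Module.support D (Y ⧸ LinearMap.range α) := by
      rw [Module.mem_support_iff_nontrivial_residueField_tensorProduct]
      exact not_nontrivial_iff_subsingleton.2 hsub
    rw [Module.support_eq_zeroLocus, PrimeSpectrum.mem_zeroLocus, Set.not_subset] at hns
    obtain ⟨d, hd, hdη⟩ := hns
    obtain ⟨h, u, rfl⟩ := IsLocalization.exists_mk'_eq y.primeCompl d
    have hh : algebraMap P' D h = IsLocalization.mk' D h u * algebraMap P' D u := (IsLocalization.mk'_spec D h u).symm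
    refine ⟨h, fun hhη => hdη ?_, fun z => ?_⟩
    · have h1 : algebraMap P' D h ∈ ηD := Ideal.mem_map_of_mem _ hhη
      rw [hh] at h1
      exact (Ideal.mul_unit_mem_iff_mem _ (IsLocalization.map_units D u)).1 h1
    · rw [hh, mul_comm, mul_smul, Module.mem_annihilator.1 hd z, smul_zero]

/-- a localized module killed by `h` is a localized module over `P'/(h)` -/
theorem exists_localized_quot {A P' : Type u} [CommRing A] [CommRing P'] [Algebra A P'] (h : P') (y : Ideal P')
    [y.IsPrime] (q₁ : Ideal (P' ⧸ Ideal.span {h})) [q₁.IsPrime] (hq₁ : q₁.comap (Ideal.Quotient.mk _) = y)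
    (M Z : Type u) [AddCommGroup M] [Module P' M] [AddCommGroup Z] [Module P' Z] [Module A Z] [IsScalarTower A P' Z]
    (j : M →ₗ[P'] Z) [IsLocalizedModule y.primeCompl j] (hZ : ∀ z : Z, h • z = 0) :
    Nonempty (LocalizedModule q₁.primeCompl ((P' ⧸ Ideal.span {h}) ⊗[P'] M) ≃ₗ[A] Z) := by
  let B := P' ⧸ Ideal.span {h}
  let M' := B ⊗[P'] M
  let L := LocalizedModule q₁.primeCompl M'
  let ι : M →ₗ[P'] L := ((LocalizedModule.mkLinearMap q₁.primeCompl M').restrictScalars P').comp (TensorProduct.mk P' B M 1)
  have hι : ∀ x, ι x = LocalizedModule.mkLinearMap q₁.primeCompl M' (1 ⊗ₜ x) := fun _ => rfl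
  have hmem : ∀ b : P', b ∉ y → Ideal.Quotient.mk (Ideal.span {h}) b ∈ q₁.primeCompl := fun b hb hb' => hb (by
    rw [← hq₁]; exact hb')
  have hMB : ∀ z : M', ∃ x, (1 : B) ⊗ₜ[P'] x = z := by
    intro z
    induction z using TensorProduct.induction_on with
    | zero => exact ⟨0, tmul_zero _ _⟩
    | tmul b x =>
      obtain ⟨b, rfl⟩ := Ideal.Quotient.mk_surjective b
      refine ⟨b • x, ?_⟩
      rw [← smul_tmul, Algebra.smul_def, mul_one]
      rfl
    | add a c ha hc =>
      obtain ⟨x, rfl⟩ := ha
      obtain ⟨x', rfl⟩ := hc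
      exact ⟨x + x', tmul_add _ _ _⟩
  haveI : IsLocalizedModule y.primeCompl ι := by
    refine ⟨fun b => ?_, fun z => ?_, fun {x₁ x₂} hx => ?_⟩
    · rw [Module.End.isUnit_iff]
      have := (Module.End.isUnit_iff _).1
        (IsLocalizedModule.map_units (LocalizedModule.mkLinearMap q₁.primeCompl M') ⟨_, hmem b.1 b.2⟩)
      convert this using 1
      funext z
      change (b : P') • z = (Ideal.Quotient.mk (Ideal.span {h}) (b : P')) • z
      exact (algebraMap_smul B (b : P') z).symm
    · obtain ⟨⟨x, s⟩, hxs⟩ := IsLocalizedModule.surj q₁.primeCompl (LocalizedModule.mkLinearMap q₁.primeCompl M') z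
      obtain ⟨x₀, rfl⟩ := hMB x
      obtain ⟨b, hb⟩ := Ideal.Quotient.mk_surjective (s : B)
      refine ⟨(x₀, ⟨b, fun hby => s.2 (by
        rw [← hb]
        exact Ideal.mem_comap.1 (hq₁.symm ▸ hby))⟩), ?_⟩
      rw [hι, ← hxs]
      simp only [Submonoid.smul_def]
      rw [← hb, ← algebraMap_smul B b z]
      rfl
    · rw [hι, hι] at hx
      obtain ⟨s, hs⟩ := IsLocalizedModule.exists_of_eq (S := q₁.primeCompl) hx
      obtain ⟨b, hb⟩ := Ideal.Quotient.mk_surjective (s : B)
      have hby : b ∈ y.primeCompl := fun hby => s.2 (by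
        rw [← hb]
        exact Ideal.mem_comap.1 (hq₁.symm ▸ hby))
      simp only [Submonoid.smul_def, ← hb] at hs
      have h0 : (1 : B) ⊗ₜ[P'] (b • x₁ - b • x₂) = 0 := by
        rw [tmul_sub, sub_eq_zero, tmul_smul, tmul_smul, ← algebraMap_smul B b, ← algebraMap_smul B b ((1 : B) ⊗ₜ x₂)]
        exact hs
      have hmem' : b • x₁ - b • x₂ ∈ Ideal.span {h} • (⊤ : Submodule P' M) :=
        (LocalCrit.one_tmul_eq_zero_iff (Ideal.span {h}) _).1 h0
      have hj : j (b • x₁ - b • x₂) = 0 := by
        rw [Submodule.ideal_span_singleton_smul] at hmem'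
        obtain ⟨x, -, hx⟩ := (Submodule.mem_smul_pointwise_iff_exists _ _ _).1 hmem'
        rw [← hx, map_smul, hZ]
      obtain ⟨c, hc⟩ := IsLocalizedModule.exists_of_eq (S := y.primeCompl) (hj.trans (map_zero j).symm)
      refine ⟨c * ⟨b, hby⟩, ?_⟩
      simp only [Submonoid.smul_def, smul_zero, smul_sub, sub_eq_zero] at hc
      simpa [Submonoid.smul_def, mul_smul] using hc
  exact ⟨((IsLocalizedModule.linearEquiv y.primeCompl ι j).restrictScalars A)⟩

set_option backward.isDefEq.respectTransparency true in
/-- the one-step lemma for a map out of a free module over a flat algebra with contents -/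
theorem step_free {A D : Type u} [CommRing A] [IsLocalRing A] [CommRing D] [Algebra A D] [Module.Flat A D]
    (hD : Ctn A D) {r : ℕ} {Y : Type u} [AddCommGroup Y] [Module D Y] [Module A Y] [IsScalarTower A D Y]
    (α : (Fin r → D) →ₗ[D] Y)
    (hα : ∀ c, α c ∈ IsLocalRing.maximalIdeal A • (⊤ : Submodule A Y) →
      c ∈ IsLocalRing.maximalIdeal A • (⊤ : Submodule A (Fin r → D)))
    (hY : RelFlat A Y) :
    RelFlat A (Y ⧸ LinearMap.range α) ∧
      (Module.Flat A (Y ⧸ LinearMap.range α) → Ctn A (Y ⧸ LinearMap.range α) → Module.Flat A Y ∧ Ctn A Y) := by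
  haveI : Module.Flat A (Fin r → D) := Module.Flat.trans A D (Fin r → D)
  have hex : Function.Exact (α.restrictScalars A) ((LinearMap.range α).mkQ.restrictScalars A) :=
    LinearMap.exact_map_mkQ_range α
  obtain ⟨-, hZrel, hstep⟩ := RelFlat.step (hD.pi r) (α.restrictScalars A)
    ((LinearMap.range α).mkQ.restrictScalars A) hex (fun z => Submodule.mkQ_surjective (LinearMap.range α) z) (fun c hc => hα c hc) hY
  exact ⟨hZrel, fun hf hc =>
    ⟨(hstep hf).1, Ctn.extension _ _ hex (fun z => Submodule.mkQ_surjective (LinearMap.range α) z) (hstep hf).2 (hD.pi r) hc⟩⟩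

set_option maxHeartbeats 1200000 in
/-- the inductive step, at a smooth point -/
theorem good_step {A : Type u} [CommRing A] [HenselianLocalRing A] (n : ℕ) (ih : ∀ n' < n, Good A n')
    {P' : Type u} [CommRing P'] [Algebra A P'] [Algebra (MvPolynomial (Fin n) A) P']
    [IsScalarTower A (MvPolynomial (Fin n) A) P'] [Algebra.Etale (MvPolynomial (Fin n) A) P'] (y : Ideal P')
    [y.IsPrime] [y.LiesOver (IsLocalRing.maximalIdeal A)]
    (Y : Type u) [AddCommGroup Y] [Module (Localization.AtPrime y) Y] [Module A Y]
    [IsScalarTower A (Localization.AtPrime y) Y] [Module.FinitePresentation (Localization.AtPrime y) Y]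
    (hY : RelFlat A Y) : Module.Flat A Y ∧ Ctn A Y := by
  classical
  let D := Localization.AtPrime y
  let P := MvPolynomial (Fin n) A
  haveI : Module.Flat A P' := Module.Flat.trans A P P'
  haveI : Algebra.FinitePresentation A P' := Algebra.FinitePresentation.trans A P P'
  haveI : Module.Flat A D := Module.Flat.trans A P' D
  obtain ⟨η, _, hηy, hmη, s, hs, hsη⟩ := exists_eta (A := A) (n := n) y
  obtain ⟨r, α, hα, h, hhη, hkill⟩ := exists_alpha η y hηy hs hsη hmη Y
  have hD : Ctn A D := ctn_atPrime (n := n) y
  let Z := Y ⧸ LinearMap.range α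
  obtain ⟨hZrel, hstep⟩ := step_free hD α hα hY
  suffices hZ : Module.Flat A Z ∧ Ctn A Z from hstep hZ.1 hZ.2
  by_cases hhy : h ∈ y
  · haveI : Module.FinitePresentation D Z :=
      Module.finitePresentation_of_surjective _ (LinearMap.range α).mkQ_surjective (by
        rw [Submodule.ker_mkQ, LinearMap.range_eq_map]
        exact Module.Finite.fg_top.map α)
    obtain ⟨M, _, _, _, ⟨e⟩⟩ := FibCrit.exists_module_model (Q := P') (Q' := D) (M := Z) y.primeCompl
    obtain ⟨n', hn', g, q₁, _, hq₁, hqf⟩ := exists_fewer_vars (n := n) η hmη y hηy hs hsη hhy hhη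
    letI : Module P' Z := Module.compHom Z (algebraMap P' D)
    haveI : IsScalarTower P' D Z := IsScalarTower.of_algebraMap_smul fun _ _ => rfl
    haveI : IsScalarTower A P' Z := IsScalarTower.of_algebraMap_smul fun a z => by
      change algebraMap P' D (algebraMap A P' a) • z = a • z
      rw [← IsScalarTower.algebraMap_apply, algebraMap_smul]
    let j : M →ₗ[P'] Z := (e.toLinearMap.restrictScalars P').comp (TensorProduct.mk P' D M 1)
    haveI : IsLocalizedModule y.primeCompl j :=
      (isLocalizedModule_iff_isBaseChange y.primeCompl D j).2 (IsBaseChange.of_equiv e fun _ => rfl)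
    obtain ⟨eZ⟩ := exists_localized_quot (A := A) h y q₁ hq₁ M Z j hkill
    haveI : q₁.LiesOver (IsLocalRing.maximalIdeal A) := ⟨by
      rw [Ideal.over_def y (IsLocalRing.maximalIdeal A), ← hq₁, Ideal.under, Ideal.under, Ideal.comap_comap]
      rfl⟩
    haveI : Algebra.FinitePresentation A (P' ⧸ Ideal.span {h}) :=
      Algebra.FinitePresentation.quotient (Submodule.fg_span_singleton h)
    obtain ⟨hf, hc⟩ := ih n' hn' _ q₁ g hqf _ (hZrel.of_equiv eZ)
    exact ⟨Module.Flat.of_linearEquiv eZ.symm, hc.of_equiv eZ.symm⟩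
  · haveI : Subsingleton Z := subsingleton_of_forall_eq 0 fun z => by
      have := hkill z
      exact (IsLocalization.map_units (M := y.primeCompl) D ⟨h, hhy⟩).smul_eq_zero.1 this
    exact ⟨inferInstance, ctn_subsingleton⟩

/-- **Dévissage.** -/
theorem good (A : Type u) [CommRing A] [HenselianLocalRing A] : ∀ n, Good A n := by
  intro n
  induction n using Nat.strong_induction_on with
  | _ n ih =>
  intro B _ _ _ q _ _ f hqf N _ _ _ _ _ hN
  let P := MvPolynomial (Fin n) A
  letI : Algebra P B := f.toRingHom.toAlgebra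
  haveI : IsScalarTower A P B := IsScalarTower.of_algebraMap_eq fun c => (f.commutes c).symm
  haveI : Algebra.FinitePresentation P B := Algebra.FinitePresentation.of_restrict_scalars_finitePresentation A P B
  haveI : Algebra.QuasiFiniteAt P q := hqf
  obtain ⟨P', _, _, _, y, _, e, he, q', _, _, hq'q, heq', hfin, huniq, -⟩ :=
    LqfRep.exists_etale_piece (A := P) (B := B) q
  letI : Algebra A P' := ((algebraMap P P').comp (algebraMap A P)).toAlgebra
  haveI : IsScalarTower A P P' := IsScalarTower.of_algebraMap_eq fun _ => rfl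
  let T := P' ⊗[P] B
  letI : Algebra B T := Algebra.TensorProduct.rightAlgebra
  haveI : IsScalarTower A B T := IsScalarTower.of_algebraMap_eq fun c => by
    change algebraMap A T c = (1 : P') ⊗ₜ[P] algebraMap A B c
    rw [IsScalarTower.algebraMap_apply A P B, Algebra.algebraMap_eq_smul_one (A := B), ← smul_tmul,
      Algebra.smul_def, mul_one, IsScalarTower.algebraMap_apply A P' T, Algebra.TensorProduct.algebraMap_apply,
      ← IsScalarTower.algebraMap_apply]
    rfl
  haveI : y.LiesOver (IsLocalRing.maximalIdeal A) := ⟨by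
    rw [Ideal.over_def q (IsLocalRing.maximalIdeal A), Ideal.over_def q' y, ← hq'q, Ideal.under, Ideal.under,
      Ideal.under, Ideal.comap_comap, Ideal.comap_comap]
    congr 1
    ext c
    exact ((IsScalarTower.algebraMap_apply A B T c).symm).trans (IsScalarTower.algebraMap_apply A P' T c)⟩
  let Te := Localization.Away e
  haveI : Module.Flat B T :=
    Module.Flat.of_linearEquiv (R := B) (M := B ⊗[P] P')
      ({ (Algebra.TensorProduct.comm P B P').toAddEquiv with
        map_smul' := fun b x => by
          change Algebra.TensorProduct.comm P B P' (b • x) =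
            ((1 : P') ⊗ₜ[P] b) * Algebra.TensorProduct.comm P B P' x
          rw [Algebra.smul_def, map_mul]
          rfl } :
        B ⊗[P] P' ≃ₗ[B] T).symm
  haveI : Module.Flat B Te := Module.Flat.trans B T Te
  haveI : Algebra.FinitePresentation P' T := inferInstance
  haveI : Algebra.FinitePresentation P' Te :=
    Algebra.FinitePresentation.trans P' T Te
  haveI : Module.FinitePresentation P' Te := Module.FinitePresentation.of_finite_of_finitePresentation P' Te
  let W := Localization (Algebra.algebraMapSubmonoid Te y.primeCompl)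
  let D := Localization.AtPrime y
  letI : Algebra D W := localizationAlgebra y.primeCompl Te
  haveI : IsScalarTower P' D W := IsScalarTower.of_algebraMap_eq' (IsLocalization.map_comp _).symm
  haveI : IsLocalizedModule y.primeCompl (IsScalarTower.toAlgHom P' Te W).toLinearMap :=
    isLocalizedModule_iff_isLocalization.2 inferInstance
  haveI : Module.Finite D W :=
    Module.Finite.of_isLocalizedModule y.primeCompl (Rₚ := D) (IsScalarTower.toAlgHom P' Te W).toLinearMap
  haveI : Module.FinitePresentation D W := FinitePresentation.of_isBaseChange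
    (IsScalarTower.toAlgHom P' Te W).toLinearMap
    ((isLocalizedModule_iff_isBaseChange y.primeCompl D _).1 inferInstance)
  haveI : Module.Flat B W := Module.Flat.trans B Te W
  have hmax : ∀ M : Ideal W, M.IsMaximal → M.comap (algebraMap T W) = q' := by
    intro M hM
    have hy : M.comap (algebraMap P' W) = y := by
      haveI := hM
      haveI : (M.comap (algebraMap D W)).IsMaximal := Ideal.isMaximal_comap_of_isIntegral_of_isMaximal M
      rw [IsScalarTower.algebraMap_eq P' D W, ← Ideal.comap_comap,
        IsLocalRing.eq_maximalIdeal (inferInstance : (M.comap (algebraMap D W)).IsMaximal)]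
      exact IsLocalization.AtPrime.comap_maximalIdeal D y
    refine huniq _ (Ideal.IsPrime.comap _) ⟨?_⟩ fun heM => ?_
    · refine hy.symm.trans ?_
      rw [Ideal.under, Ideal.comap_comap, ← IsScalarTower.algebraMap_eq]
    · rw [Ideal.mem_comap, IsScalarTower.algebraMap_apply T Te W] at heM
      exact hM.ne_top (Ideal.eq_top_of_isUnit_mem _ heM
        ((IsLocalization.Away.algebraMap_isUnit (S := Te) e).map (algebraMap Te W)))
  haveI : Nontrivial W := by
    have hdisj : Disjoint (Submonoid.powers e : Set T) (q' : Set T) := Set.disjoint_left.2 fun a ⟨k, hk⟩ ha =>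
      heq' (Ideal.IsPrime.mem_of_pow_mem inferInstance k (by rwa [show e ^ k = a from hk]))
    haveI := IsLocalization.isPrime_of_isPrime_disjoint (Submonoid.powers e) Te q' ‹_› hdisj
    rw [← not_subsingleton_iff_nontrivial,
      IsLocalization.subsingleton_iff (S := W) (M := Algebra.algebraMapSubmonoid Te y.primeCompl)]
    rintro ⟨p, hp, hp0⟩
    refine hp ?_
    rw [Ideal.over_def q' y]
    change algebraMap P' T p ∈ q'
    rw [← IsLocalization.comap_map_of_isPrime_disjoint (Submonoid.powers e) Te ‹_› hdisj]
    refine Ideal.mem_comap.2 ?_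
    rw [← IsScalarTower.algebraMap_apply, hp0]
    exact zero_mem _
  haveI : IsLocalRing W := by
    obtain ⟨M₀, hM₀⟩ := Ideal.exists_maximal W
    refine IsLocalRing.of_unique_max_ideal ⟨M₀, hM₀, fun M hM => ?_⟩
    have h1 : ∀ M : Ideal W, M.IsMaximal → M.comap (algebraMap Te W) = (q'.map (algebraMap T Te)) := fun M hM => by
      rw [← IsLocalization.map_comap (Submonoid.powers e) Te (M.comap (algebraMap Te W))]
      simp only [Ideal.under]
      rw [Ideal.comap_comap, ← IsScalarTower.algebraMap_eq, hmax M hM]
    rw [← IsLocalization.map_comap (Algebra.algebraMapSubmonoid Te y.primeCompl) W M,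
      ← IsLocalization.map_comap (Algebra.algebraMapSubmonoid Te y.primeCompl) W M₀]
    simp only [Ideal.under]
    rw [h1 M hM, h1 M₀ hM₀]
  have hWq : (IsLocalRing.maximalIdeal W).comap (algebraMap B W) = q := by
    rw [IsScalarTower.algebraMap_eq B T W, ← Ideal.comap_comap, hmax _ (IsLocalRing.maximalIdeal.isMaximal W)]
    exact hq'q
  obtain ⟨hrel, hflat, hctn⟩ := local_descent (A := A) q N W hWq
  haveI : Module.FinitePresentation D (W ⊗[B] N) := Module.FinitePresentation.trans D (W ⊗[B] N) W
  haveI : IsScalarTower A D W := IsScalarTower.of_algebraMap_eq fun c => by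
    rw [IsScalarTower.algebraMap_apply A P' D, ← IsScalarTower.algebraMap_apply P' D W,
      IsScalarTower.algebraMap_apply A T W, IsScalarTower.algebraMap_apply P' T W, IsScalarTower.algebraMap_apply A P' T]
  haveI : IsScalarTower A D (W ⊗[B] N) := ⟨fun c d z => by
    induction z using TensorProduct.induction_on with
    | zero => simp
    | tmul w n =>
      change ((c • d) • w) ⊗ₜ[B] n = (c • d • w) ⊗ₜ[B] n
      rw [smul_assoc]
    | add z z' hz hz' =>
      exact (smul_add (c • d) z z').trans ((congrArg₂ (· + ·) hz hz').trans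
        ((smul_add c (d • z) (d • z')).symm.trans (congrArg (c • ·) (smul_add d z z').symm)))⟩
  obtain ⟨hfl, hc⟩ := good_step n ih y (W ⊗[B] N) (hrel hN)
  exact ⟨hflat hfl, hctn hc⟩

end Groth.Agent.RG
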