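import Groth.Agent.RG.FlatLocus
import Groth.Agent.InjFibre.Loc

/-!
# The flat locus for algebras of finite type over a ring with finitely many weakly associated primes
-/

set_option autoImplicit false
set_option linter.style.haveILetI false
set_option backward.isDefEq.respectTransparency false

universe u

open TensorProduct

namespace Groth.Agent.RG

theorem isLocalizedModule_of_surjective {P S N N' : Type u} [CommRing P] [CommRing S] [Algebra P S]
    (hP : Function.Surjective (algebraMap P S)) [AddCommGroup N] [Module S N] [Module P N] [IsScalarTower P S N]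
    [AddCommGroup N'] [Module S N'] [Module P N'] [IsScalarTower P S N'] (U : Submonoid P) (V : Submonoid S)
    (hUV : ∀ t, t ∈ U ↔ algebraMap P S t ∈ V) (f : N →ₗ[S] N') [IsLocalizedModule V f] :
    IsLocalizedModule U (f.restrictScalars P) := by
  haveI : IsLocalizedModule (Algebra.algebraMapSubmonoid S U) f := by
    have : Algebra.algebraMapSubmonoid S U = V := by
      ext s
      refine ⟨fun ⟨t, ht, hts⟩ => hts ▸ (hUV t).1 ht, fun hs => ?_⟩
      obtain ⟨t, rfl⟩ := hP s
      exact ⟨t, (hUV t).2 hs, rfl⟩
    rw [this]
    infer_instance
  exact IsLocalizedModule.restrictScalars _ _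

variable {R S : Type u} [CommRing R] [CommRing S] [Algebra R S]

/-- flatness near a point of flatness, with a finite presentation over a polynomial ring -/
theorem exists_fp_flat_ft [Algebra.FiniteType R S] (hR : (FlatCA.weakAss R R).Finite) (N : Type u) [AddCommGroup N]
    [Module S N] [Module R N] [IsScalarTower R S N] [Module.Finite S N]
    (q : Ideal S) [q.IsPrime] (hq : Module.Flat R (LocalizedModule q.primeCompl N)) :
    ∃ (n : ℕ) (f : MvPolynomial (Fin n) R →ₐ[R] S) (h : MvPolynomial (Fin n) R), Function.Surjective f ∧ f h ∉ q ∧
      (∀ (σ : Ideal S) [σ.IsPrime], f h ∉ σ → Module.Flat R (LocalizedModule σ.primeCompl N)) ∧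
      Module.Flat R (LocalizedModule (Submonoid.powers (f h)) N) ∧
      (letI : Module (MvPolynomial (Fin n) R) N := Module.compHom N f.toRingHom;
        Module.FinitePresentation (Localization.Away h) (LocalizedModule (Submonoid.powers h) N)) := by
  obtain ⟨n, f, hf⟩ := Algebra.FiniteType.iff_quotient_mvPolynomial''.1 (inferInstance : Algebra.FiniteType R S)
  let P := MvPolynomial (Fin n) R
  letI : Algebra P S := f.toRingHom.toAlgebra
  haveI : IsScalarTower R P S := IsScalarTower.of_algebraMap_eq fun r => (f.commutes r).symm
  letI : Module P N := Module.compHom N f.toRingHom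
  haveI : IsScalarTower P S N := IsScalarTower.of_algebraMap_smul fun _ _ => rfl
  haveI : IsScalarTower R P N := IsScalarTower.of_algebraMap_smul fun r x => by
    change f (algebraMap R P r) • x = r • x
    rw [AlgHom.commutes, algebraMap_smul]
  haveI : Module.Finite P S := Module.Finite.of_surjective (Algebra.linearMap P S) hf
  haveI : Module.Finite P N := Module.Finite.trans S N
  have hiff : ∀ (σ : Ideal S) [σ.IsPrime], Module.Flat R (LocalizedModule σ.primeCompl N) ↔
      Module.Flat R (LocalizedModule (σ.comap (algebraMap P S)).primeCompl N) := by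
    intro σ _
    haveI := isLocalizedModule_of_surjective hf (σ.comap (algebraMap P S)).primeCompl σ.primeCompl
      (fun t => Iff.rfl) (LocalizedModule.mkLinearMap σ.primeCompl N)
    let e := (IsLocalizedModule.iso (σ.comap (algebraMap P S)).primeCompl
      ((LocalizedModule.mkLinearMap σ.primeCompl N).restrictScalars P)).restrictScalars R
    exact ⟨fun h => Module.Flat.of_linearEquiv e, fun h => Module.Flat.of_linearEquiv e.symm⟩
  obtain ⟨h, hh, hflat, hfp, -⟩ := exists_fp_flat hR N (q.comap (algebraMap P S)) ((hiff q).1 hq)
  have hflat' : ∀ (σ : Ideal S) [σ.IsPrime], f h ∉ σ → Module.Flat R (LocalizedModule σ.primeCompl N) :=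
    fun σ _ hσ => (hiff σ).2 (hflat _ hσ)
  exact ⟨n, f, h, hf, hh, hflat', flat_localized_powers N (f h) hflat', hfp⟩

theorem isOpen_flatLocus_ft [Algebra.FiniteType R S] (hR : (FlatCA.weakAss R R).Finite) (N : Type u) [AddCommGroup N]
    [Module S N] [Module R N] [IsScalarTower R S N] [Module.Finite S N] :
    IsOpen {q : PrimeSpectrum S | Module.Flat R (LocalizedModule q.asIdeal.primeCompl N)} := by
  refine isOpen_iff_forall_mem_open.2 fun q hq => ?_
  obtain ⟨n, f, h, -, hh, hflat, -, -⟩ := exists_fp_flat_ft hR N q.asIdeal hq
  exact ⟨PrimeSpectrum.basicOpen (f h), fun σ hσ => hflat σ.asIdeal hσ, (PrimeSpectrum.basicOpen (f h)).isOpen, hh⟩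

theorem finitePresentation_of_flat_ft [IsDomain R] [Algebra.FiniteType R S] (N : Type u) [AddCommGroup N]
    [Module S N] [Module R N] [IsScalarTower R S N] [Module.Finite S N] [Module.Flat R N] :
    Module.FinitePresentation S N := by
  obtain ⟨n, f, hf⟩ := Algebra.FiniteType.iff_quotient_mvPolynomial''.1 (inferInstance : Algebra.FiniteType R S)
  let P := MvPolynomial (Fin n) R
  letI : Algebra P S := f.toRingHom.toAlgebra
  haveI : IsScalarTower R P S := IsScalarTower.of_algebraMap_eq fun r => (f.commutes r).symm
  letI : Module P N := Module.compHom N f.toRingHom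
  haveI : IsScalarTower P S N := IsScalarTower.of_algebraMap_smul fun _ _ => rfl
  haveI : IsScalarTower R P N := IsScalarTower.of_algebraMap_smul fun r x => by
    change f (algebraMap R P r) • x = r • x
    rw [AlgHom.commutes, algebraMap_smul]
  haveI : Module.Finite P S := Module.Finite.of_surjective (Algebra.linearMap P S) hf
  haveI : Module.Finite P N := Module.Finite.trans S N
  haveI : Module.FinitePresentation P N := finitePresentation_of_flat (weakAss_finite_of_isDomain R) N fun q _ =>
    InjFibre.flat_localized q.primeCompl (LocalizedModule.mkLinearMap q.primeCompl N)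
  exact fp_of_surjective (R := P) hf

theorem algebra_finitePresentation_of_flat [IsDomain R] [Algebra.FiniteType R S] [Module.Flat R S] :
    Algebra.FinitePresentation R S := by
  obtain ⟨n, f, hf⟩ := Algebra.FiniteType.iff_quotient_mvPolynomial''.1 (inferInstance : Algebra.FiniteType R S)
  let P := MvPolynomial (Fin n) R
  letI : Algebra P S := f.toRingHom.toAlgebra
  haveI : IsScalarTower R P S := IsScalarTower.of_algebraMap_eq fun r => (f.commutes r).symm
  haveI : Module.Finite P S := Module.Finite.of_surjective (Algebra.linearMap P S) hf
  haveI : Algebra.FiniteType R P := inferInstance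
  haveI : Module.FinitePresentation P S := finitePresentation_of_flat (weakAss_finite_of_isDomain R) S fun q _ =>
    InjFibre.flat_localized q.primeCompl (LocalizedModule.mkLinearMap q.primeCompl S)
  exact Algebra.FinitePresentation.of_surjective hf (Module.FinitePresentation.fg_ker (Algebra.linearMap P S) hf)

end Groth.Agent.RG
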