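import Groth.Agent.LocalCrit.UnivInj
import Mathlib.LinearAlgebra.TensorProduct.Pi
import Mathlib.LinearAlgebra.TensorProduct.RightExactness

/-!
# Content of vectors with entries in a module

`Ctn A N`: every vector `x ∈ N^r` has a smallest finitely generated submodule `V ⊆ A^r` with
`x ∈ N ⊗ V`. A map from such a module to a flat module, injective on the closed fibre, is
universally injective.
-/

set_option autoImplicit false
set_option linter.style.haveILetI false

universe u

open TensorProduct

namespace Groth.Agent.RG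

variable {A : Type u} [CommRing A]

/-- the image of a vector `x ∈ N^r` in `N ⊗ (A^r / V)` -/
noncomputable def res {N : Type u} [AddCommGroup N] [Module A N] {r : ℕ} (V : Submodule A (Fin r → A))
    (x : Fin r → N) : N ⊗[A] ((Fin r → A) ⧸ V) :=
  ∑ i, x i ⊗ₜ[A] V.mkQ (Pi.single i 1)

/-- every vector has a content -/
def Ctn (A : Type u) [CommRing A] (N : Type u) [AddCommGroup N] [Module A N] : Prop :=
  ∀ (r : ℕ) (x : Fin r → N), ∃ V : Submodule A (Fin r → A), V.FG ∧ ∀ V', res V' x = 0 ↔ V ≤ V'

variable {N N' : Type u} [AddCommGroup N] [Module A N] [AddCommGroup N'] [Module A N']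

theorem res_add {r : ℕ} (V : Submodule A (Fin r → A)) (x y : Fin r → N) :
    res V (x + y) = res V x + res V y := by
  simp [res, add_tmul, Finset.sum_add_distrib]

theorem res_sub {r : ℕ} (V : Submodule A (Fin r → A)) (x y : Fin r → N) :
    res V (x - y) = res V x - res V y := by
  simp [res, sub_tmul, Finset.sum_sub_distrib]

theorem res_map {r : ℕ} (V : Submodule A (Fin r → A)) (f : N →ₗ[A] N') (x : Fin r → N) :
    res V (fun i => f (x i)) = f.rTensor _ (res V x) := by
  simp [res, map_sum]

theorem res_tmul {r : ℕ} (V : Submodule A (Fin r → A)) (v : Fin r → A) (n : N) :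
    res V (fun i => v i • n) = n ⊗ₜ[A] V.mkQ v := by
  simp only [res, smul_tmul, ← tmul_sum, ← map_smul, ← map_sum, ← pi_eq_sum_univ']

theorem mk_eq_res {r : ℕ} (V : Submodule A (Fin r → A)) (z : N ⊗[A] (Fin r → A)) :
    V.mkQ.lTensor N z = res V (piScalarRight A A N (Fin r) z) := by
  induction z using TensorProduct.induction_on with
  | zero => simp [res]
  | tmul n v => rw [LinearMap.lTensor_tmul, ← res_tmul]; simp
  | add a b ha hb => rw [map_add, map_add, res_add, ha, hb]

/-- `x` lies in `N ⊗ V` -/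
theorem exists_of_res_eq_zero {r : ℕ} {V : Submodule A (Fin r → A)} {x : Fin r → N} (h : res V x = 0) :
    ∃ z : N ⊗[A] V, piScalarRight A A N (Fin r) (V.subtype.lTensor N z) = x := by
  have hz : V.mkQ.lTensor N ((piScalarRight A A N (Fin r)).symm x) = 0 := by
    rw [mk_eq_res, LinearEquiv.apply_symm_apply]
    exact h
  obtain ⟨z, hz⟩ := (lTensor_exact N (LinearMap.exact_subtype_mkQ V) V.mkQ_surjective _).1 hz
  exact ⟨z, by rw [hz, LinearEquiv.apply_symm_apply]⟩

theorem res_eq_zero_of_span {r : ℕ} {V : Submodule A (Fin r → A)} {x : Fin r → N}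
    (h : x ∈ Submodule.span A {y : Fin r → N | ∃ v ∈ V, ∃ n : N, y = fun i => v i • n}) : res V x = 0 := by
  induction h using Submodule.span_induction with
  | mem y hy =>
    obtain ⟨v, hv, n, rfl⟩ := hy
    rw [res_tmul, Submodule.mkQ_apply, (Submodule.Quotient.mk_eq_zero V).2 hv, tmul_zero]
  | zero => simp [res]
  | add a b _ _ ha hb => rw [res_add, ha, hb, add_zero]
  | smul a y _ hy =>
    have : res V (a • y) = (a • LinearMap.id (R := A) (M := N)).rTensor _ (res V y) := by
      rw [← res_map]
      rfl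
    rw [this, hy, map_zero]

theorem res_mono {r : ℕ} {V W : Submodule A (Fin r → A)} (hVW : V ≤ W) {x : Fin r → N}
    (h : res V x = 0) : res W x = 0 := by
  let p : ((Fin r → A) ⧸ V) →ₗ[A] ((Fin r → A) ⧸ W) := V.liftQ W.mkQ (by simpa using hVW)
  have : res W x = p.lTensor N (res V x) := by simp [res, map_sum, p]
  rw [this, h, map_zero]

/-- transfer along universally injective maps -/
theorem Ctn.of_pure (j : N →ₗ[A] N')
    (hj : ∀ (Q : Type u) [AddCommGroup Q] [Module A Q], Function.Injective (j.rTensor Q))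
    (h : Ctn A N') : Ctn A N := by
  intro r x
  obtain ⟨V, hV, hx⟩ := h r fun i => j (x i)
  refine ⟨V, hV, fun V' => ?_⟩
  rw [← hx V', res_map]
  exact (map_eq_zero_iff _ (hj _)).symm

theorem Ctn.of_equiv (e : N ≃ₗ[A] N') (h : Ctn A N') : Ctn A N :=
  h.of_pure e.toLinearMap fun Q _ _ => (e.rTensor Q).injective

/-- content from a family of functionals -/
theorem content_of_functionals {r : ℕ} (x : Fin r → N) {ν : Type*} (φ : ν → N →ₗ[A] A)
    (h : res (Submodule.span A (Set.range fun m i => φ m (x i))) x = 0) (V' : Submodule A (Fin r → A)) :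
    res V' x = 0 ↔ Submodule.span A (Set.range fun m i => φ m (x i)) ≤ V' := by
  refine ⟨fun hx => Submodule.span_le.2 ?_, fun hle => res_mono hle h⟩
  rintro _ ⟨m, rfl⟩
  have h1 := congrArg (fun z => TensorProduct.lid A _ ((φ m).rTensor _ z)) hx
  simp only [res, map_sum, LinearMap.rTensor_tmul, TensorProduct.lid_tmul, map_zero,
    ← map_smul] at h1
  rw [← map_sum, ← pi_eq_sum_univ', Submodule.mkQ_apply, Submodule.Quotient.mk_eq_zero] at h1
  exact h1

/-- content passes through extensions with universally injective first map -/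
theorem Ctn.extension {N₁ N₂ N₃ : Type u} [AddCommGroup N₁] [Module A N₁] [AddCommGroup N₂] [Module A N₂]
    [AddCommGroup N₃] [Module A N₃] (α : N₁ →ₗ[A] N₂) (β : N₂ →ₗ[A] N₃)
    (hex : Function.Exact α β) (hβ : Function.Surjective β)
    (hα : ∀ (Q : Type u) [AddCommGroup Q] [Module A Q], Function.Injective (α.rTensor Q))
    (h₁ : Ctn A N₁) (h₃ : Ctn A N₃) : Ctn A N₂ := by
  intro r x
  obtain ⟨V₃, hV₃, hx₃⟩ := h₃ r fun i => β (x i)
  obtain ⟨z, hz⟩ := exists_of_res_eq_zero ((hx₃ V₃).2 le_rfl)
  obtain ⟨w, rfl⟩ := LinearMap.rTensor_surjective V₃ hβ z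
  let x₁ : Fin r → N₂ := piScalarRight A A N₂ (Fin r) (V₃.subtype.lTensor N₂ w)
  have hx₁ : res V₃ x₁ = 0 := by
    rw [← mk_eq_res, ← LinearMap.lTensor_comp_apply,
      show V₃.mkQ ∘ₗ V₃.subtype = 0 from (LinearMap.exact_subtype_mkQ V₃).linearMap_comp_eq_zero,
      LinearMap.lTensor_zero, LinearMap.zero_apply]
  have hβx : ∀ i, β (x₁ i) = β (x i) := by
    intro i
    rw [← congrFun hz i]
    clear hz hx₁
    simp only [x₁]
    induction w using TensorProduct.induction_on with
    | zero => simp
    | tmul n v => simp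
    | add a b ha hb => simp only [map_add, Pi.add_apply, ha, hb]
  have hd : ∀ i, ∃ d, α d = x i - x₁ i := fun i => (hex _).1 (by rw [map_sub, hβx, sub_self])
  choose d hd using hd
  obtain ⟨V₁, hV₁, hx₁'⟩ := h₁ r d
  refine ⟨V₃ ⊔ V₁, hV₃.sup hV₁, fun V' => ⟨fun hx => ?_, fun hle => ?_⟩⟩
  · have h3 : V₃ ≤ V' := (hx₃ V').1 (by rw [res_map, hx, map_zero])
    refine sup_le h3 ((hx₁' V').1 (hα _ ?_))
    rw [← res_map, map_zero, show (fun i => α (d i)) = x - x₁ from funext hd, res_sub, hx,
      res_mono h3 hx₁, sub_zero]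
  · have e : x = x₁ + fun i => α (d i) := by
      funext i
      simp [hd]
    rw [e, res_add, res_mono (le_sup_left.trans hle) hx₁, res_map,
      (hx₁' V').2 (le_sup_right.trans hle), map_zero, add_zero]

theorem ctn_subsingleton [Subsingleton N] : Ctn A N := fun r x =>
  ⟨⊥, Submodule.fg_bot, fun V' => by simp [res, Subsingleton.elim (x _) (0 : N)]⟩

theorem Ctn.pi (h : Ctn A N) : ∀ k : ℕ, Ctn A (Fin k → N)
  | 0 => ctn_subsingleton
  | k + 1 => by
    refine Ctn.extension (LinearMap.single A (fun _ : Fin (k + 1) => N) 0)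
      (LinearMap.funLeft A N Fin.succ) ?_ (LinearMap.funLeft_surjective_of_injective A N _ (Fin.succ_injective _))
      (fun Q _ _ => ?_) h (Ctn.pi h k)
    · intro y
      refine ⟨fun hy => ⟨y 0, ?_⟩, ?_⟩
      · funext i
        refine Fin.cases (by simp) (fun j => ?_) i
        simp only [LinearMap.single_apply, ne_eq, Fin.succ_ne_zero, not_false_eq_true, Pi.single_eq_of_ne]
        exact (congrFun hy j).symm
      · rintro ⟨n, rfl⟩
        funext j
        simp [LinearMap.funLeft, Fin.succ_ne_zero]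
    · refine Function.LeftInverse.injective (g := (LinearMap.proj (R := A) (φ := fun _ : Fin (k + 1) => N) 0).rTensor Q)
        fun z => ?_
      rw [← LinearMap.rTensor_comp_apply,
        show (LinearMap.proj (R := A) (φ := fun _ : Fin (k + 1) => N) 0) ∘ₗ LinearMap.single A _ 0 = LinearMap.id from
          LinearMap.ext fun n => by simp, LinearMap.rTensor_id, LinearMap.id_apply]

/-- A map from a module with content into a module flat over `A'`, injective on the closed fibre, is
injective after tensoring with every `A'`-module. -/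
theorem Ctn.rTensor_injective [IsLocalRing A] (hN : Ctn A N)
    (A' : Type u) [CommRing A'] [IsLocalRing A'] [Algebra A A'] (hA' : Function.Surjective (algebraMap A A'))
    {M : Type u} [AddCommGroup M] [Module A M] [Module A' M] [IsScalarTower A A' M] [Module.Flat A' M]
    (u : N →ₗ[A] M)
    (hu : ∀ n, u n ∈ IsLocalRing.maximalIdeal A • (⊤ : Submodule A M) →
      n ∈ IsLocalRing.maximalIdeal A • (⊤ : Submodule A N))
    (Q : Type u) [AddCommGroup Q] [Module A Q] [Module A' Q] [IsScalarTower A A' Q] :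
    Function.Injective (u.rTensor Q) := by
  classical
  rw [injective_iff_map_eq_zero]
  intro z hz
  obtain ⟨S, rfl⟩ := TensorProduct.exists_finset z
  let r := S.card
  let e := S.equivFin
  let x : Fin r → N := fun i => (e.symm i).1.1
  let φ : (Fin r → A) →ₗ[A] Q := Fintype.linearCombination A fun i => (e.symm i).1.2
  let W := LinearMap.ker φ
  let φ' : ((Fin r → A) ⧸ W) →ₗ[A] Q := W.liftQ φ le_rfl
  have hS : ∑ p ∈ S, p.1 ⊗ₜ[A] p.2 = ∑ i, x i ⊗ₜ[A] φ (Pi.single i 1) := by
    rw [← Finset.sum_coe_sort, ← e.symm.sum_comp]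
    refine Finset.sum_congr rfl fun i _ => ?_
    simp [x, φ, Fintype.linearCombination_apply_single]
  have hres : ∑ p ∈ S, p.1 ⊗ₜ[A] p.2 = φ'.lTensor N (res W x) := by
    rw [hS]
    simp [res, map_sum, φ']
  obtain ⟨V, hV, hx⟩ := hN r x
  suffices V ≤ W by rw [hres, (hx W).2 this, map_zero]
  have hex : ∃ s, ∃ v : Fin s → (Fin r → A), Submodule.span A (Set.range v) = V := Submodule.fg_iff_exists_fin_generating_family.1 hV
  obtain ⟨s, ⟨v, hv⟩, hmin⟩ : ∃ s, (∃ v : Fin s → (Fin r → A), Submodule.span A (Set.range v) = V) ∧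
      ∀ s' < s, ¬ ∃ v : Fin s' → (Fin r → A), Submodule.span A (Set.range v) = V :=
    ⟨_, Nat.find_spec hex, fun s' h => Nat.find_min hex h⟩
  obtain ⟨w, hw⟩ := exists_of_res_eq_zero ((hx V).2 le_rfl)
  have hn : ∃ n : Fin s → N, x = fun i => ∑ j, v j i • n j := by
    rw [← hw]
    clear hw hres hS hx
    induction w using TensorProduct.induction_on with
    | zero => exact ⟨0, by funext i; simp⟩
    | tmul n' v' =>
      obtain ⟨c, hc⟩ := (Submodule.mem_span_range_iff_exists_fun A).1 (hv.ge v'.2)
      refine ⟨fun j => c j • n', funext fun i => ?_⟩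
      simp only [LinearMap.lTensor_tmul, Submodule.coe_subtype, piScalarRight_apply, piScalarRightHom_tmul]
      rw [← hc]
      simp only [Finset.sum_apply, Pi.smul_apply, smul_eq_mul, Finset.sum_smul, smul_smul]
      exact Finset.sum_congr rfl fun j _ => by rw [mul_comm]
    | add a b ha hb =>
      obtain ⟨na, hna⟩ := ha
      obtain ⟨nb, hnb⟩ := hb
      exact ⟨na + nb, funext fun i => by simp [map_add, hna, hnb, smul_add, Finset.sum_add_distrib]⟩
  obtain ⟨n, hn⟩ := hn
  have hind : ∀ c : Fin s → A, ∑ j, c j • n j ∈ IsLocalRing.maximalIdeal A • (⊤ : Submodule A N) →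
      ∀ j, c j ∈ IsLocalRing.maximalIdeal A := by
    intro c hc j₀
    by_contra hj₀
    obtain ⟨c₀, hc₀⟩ := IsLocalRing.notMem_maximalIdeal.1 hj₀
    let d : Fin s → A := fun j => (c₀⁻¹ : Aˣ) * c j
    have hd₀ : d j₀ = 1 := by simp [d, ← hc₀]
    set wn := ∑ j, d j • n j with hwn
    have hwn' : wn ∈ IsLocalRing.maximalIdeal A • (⊤ : Submodule A N) := by
      rw [hwn, show ∑ j, d j • n j = ((c₀⁻¹ : Aˣ) : A) • ∑ j, c j • n j by simp [d, Finset.smul_sum, smul_smul]]
      exact Submodule.smul_mem _ _ hc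
    let T : Set (Fin r → A) := Set.range fun j : {j // j ≠ j₀} => v j - d j • v j₀
    let V'' := Submodule.span A T ⊔ IsLocalRing.maximalIdeal A • V
    have hx'' : res V'' x = 0 := by
      have e1 : x = (fun i => v j₀ i • wn) + ∑ j ∈ Finset.univ.erase j₀, fun i => (v j - d j • v j₀) i • n j := by
        funext i
        have hxi : x i = ∑ j, v j i • n j := congrFun hn i
        rw [hxi, Pi.add_apply, Finset.sum_apply, hwn, Finset.smul_sum,
          ← Finset.add_sum_erase _ (fun j => v j i • n j) (Finset.mem_univ j₀),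
          ← Finset.add_sum_erase _ (fun j => v j₀ i • d j • n j) (Finset.mem_univ j₀), hd₀, one_smul, add_assoc,
          ← Finset.sum_add_distrib]
        congr 1
        refine Finset.sum_congr rfl fun j _ => ?_
        simp only [Pi.sub_apply, Pi.smul_apply, smul_eq_mul, sub_smul, smul_smul, mul_comm (d j)]
        abel
      rw [e1]
      refine res_eq_zero_of_span (add_mem ?_ (Submodule.sum_mem _ fun j hj => Submodule.subset_span
        ⟨_, le_sup_left (a := Submodule.span A T) (Submodule.subset_span ⟨⟨j, Finset.ne_of_mem_erase hj⟩, rfl⟩), n j, rfl⟩))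
      refine Submodule.smul_induction_on (p := fun m => (fun i => v j₀ i • m) ∈ _) hwn' (fun a ha m _ => ?_) fun a b ha hb => ?_
      · refine Submodule.subset_span ⟨a • v j₀, le_sup_right (a := Submodule.span A T)
          (Submodule.smul_mem_smul ha (hv ▸ Submodule.subset_span ⟨j₀, rfl⟩)), m, funext fun i => ?_⟩
        simp [smul_smul, mul_comm]
      · have := add_mem ha hb
        simp only [smul_add]
        exact this
    have hVV : V ≤ Submodule.span A T := Submodule.le_of_le_smul_of_le_jacobson_bot hV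
      (IsLocalRing.maximalIdeal_le_jacobson ⊥) ((hx V'').1 hx'')
    have hTV : Submodule.span A T ≤ V := by
      rw [Submodule.span_le]
      rintro _ ⟨j, rfl⟩
      exact sub_mem (hv ▸ Submodule.subset_span ⟨_, rfl⟩) (V.smul_mem _ (hv ▸ Submodule.subset_span ⟨_, rfl⟩))
    have hcard : Fintype.card {j // j ≠ j₀} < s := by
      simpa using Fintype.card_subtype_lt (p := fun j => j ≠ j₀) (x := j₀) (by simp)
    refine hmin _ hcard ⟨fun i => v ((Fintype.equivFin {j // j ≠ j₀}).symm i) -
      d ((Fintype.equivFin {j // j ≠ j₀}).symm i) • v j₀, ?_⟩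
    rw [← le_antisymm hTV hVV]
    congr 1
    exact (Fintype.equivFin {j // j ≠ j₀}).symm.surjective.range_comp (fun j : {j // j ≠ j₀} => v j - d j • v j₀)
  have hsum : ∑ j, u (n j) ⊗ₜ[A'] φ (v j) = 0 := by
    have h1 : ∑ j, u (n j) ⊗ₜ[A] φ (v j) = u.rTensor Q (∑ p ∈ S, p.1 ⊗ₜ[A] p.2) := by
      rw [hS, hn]
      simp only [map_sum, sum_tmul, LinearMap.rTensor_tmul, map_smul, smul_tmul]
      rw [Finset.sum_comm]
      refine Finset.sum_congr rfl fun j _ => ?_
      rw [← tmul_sum]
      congr 1
      simp only [← map_smul, ← map_sum, ← pi_eq_sum_univ']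
    haveI : CompatibleSMul A A' M Q := ⟨fun a' m q => by
      obtain ⟨a, rfl⟩ := hA' a'
      rw [algebraMap_smul, algebraMap_smul, smul_tmul]⟩
    have h2 := congrArg (mapOfCompatibleSMul A' A A' M Q) (h1.trans hz)
    simpa [map_sum] using h2
  intro y hy
  have hu' : ∀ a : Fin s → A', ∑ j, a j • u (n j) ∈ IsLocalRing.maximalIdeal A' • (⊤ : Submodule A' M) →
      ∀ j, a j ∈ IsLocalRing.maximalIdeal A' := by
    intro a ha
    choose c hc using fun j => hA' (a j)
    haveI := IsLocalHom.of_surjective _ hA'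
    have hm : (IsLocalRing.maximalIdeal A).map (algebraMap A A') = IsLocalRing.maximalIdeal A' := by
      rw [← IsLocalRing.maximalIdeal_comap (algebraMap A A'), Ideal.map_comap_of_surjective _ hA']
    rw [← hm] at ha
    have ha' : u (∑ j, c j • n j) ∈ IsLocalRing.maximalIdeal A • (⊤ : Submodule A M) := by
      rw [map_sum]
      simp only [map_smul, ← hc, algebraMap_smul] at ha ⊢
      rw [← Submodule.restrictScalars_top A A' M, ← Ideal.smul_restrictScalars]
      exact ha
    intro j
    rw [← hc j, ← hm]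
    exact Ideal.mem_map_of_mem _ (hind c (hu _ ha') j)
  have hzero := LocalCrit.eq_zero_of_sum_tmul_eq_zero_of_residue (R := A') (fun j => u (n j)) hu' _ hsum
  rw [← hv] at hy
  refine Submodule.span_le.2 ?_ hy
  rintro _ ⟨j, rfl⟩
  exact hzero j

end Groth.Agent.RG
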