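import Groth.Agent.RG.DenseDescent
import Mathlib.RingTheory.RingHom.FinitePresentation
import Mathlib.RingTheory.RingHom.Flat
import Mathlib.RingTheory.RingHom.FiniteType

/-!
# Finite presentation of flat algebras descends along a dense open of the base
-/

set_option autoImplicit false
set_option linter.style.haveILetI false
set_option backward.isDefEq.respectTransparency false

universe u

open TensorProduct

namespace Groth.Agent.RG

theorem algebra_fp_of_dense {A B : Type u} [CommRing A] [CommRing B] [Algebra A B] [Algebra.FiniteType A B]
    [Module.Flat A B] {k : ℕ} (f : Fin k → A)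
    (hdense : Function.Injective (RingHom.pi fun i => algebraMap A (Localization.Away (f i))))
    (hfp : ∀ i, Algebra.FinitePresentation A (Localization.Away (algebraMap A B (f i)))) :
    Algebra.FinitePresentation A B := by
  obtain ⟨n, π, hπ⟩ := Algebra.FiniteType.iff_quotient_mvPolynomial''.1 (inferInstance : Algebra.FiniteType A B)
  let P := MvPolynomial (Fin n) A
  letI : Algebra P B := π.toRingHom.toAlgebra
  haveI : IsScalarTower A P B := IsScalarTower.of_algebraMap_eq fun a => (π.commutes a).symm
  haveI : Module.Finite P B := Module.Finite.of_surjective (Algebra.linearMap P B) hπ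
  haveI : Module.FinitePresentation P B := fp_of_dense B f hdense fun i => by
    let t : P := algebraMap A P (f i)
    have ht : π t = algebraMap A B (f i) := π.commutes _
    let P' := Localization.Away t
    let B' := Localization.Away (π t)
    haveI : Algebra.FinitePresentation A B' := by
      change Algebra.FinitePresentation A (Localization.Away (π t))
      rw [ht]; exact hfp i
    haveI : Algebra.FinitePresentation P P' := IsLocalization.Away.finitePresentation t
    haveI : Algebra.FinitePresentation A P' := Algebra.FinitePresentation.trans A P P'
    let h : P →ₐ[A] B' := (IsScalarTower.toAlgHom A B B').comp π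
    have hu : IsUnit (h t) := IsLocalization.Away.algebraMap_isUnit (π t)
    let g : P' →ₐ[A] B' := IsLocalization.Away.liftAlgHom t hu
    have hg : ∀ p, g (algebraMap P P' p) = h p := fun p => IsLocalization.Away.lift_eq t hu p
    have hsurj : Function.Surjective g := by
      intro z
      obtain ⟨b, ⟨_, m, rfl⟩, rfl⟩ := IsLocalization.exists_mk'_eq (Submonoid.powers (π t)) z
      obtain ⟨p, rfl⟩ := hπ b
      refine ⟨IsLocalization.mk' P' p (⟨t ^ m, m, rfl⟩ : Submonoid.powers t), ?_⟩
      rw [IsLocalization.eq_mk'_iff_mul_eq]
      have e := congrArg g (IsLocalization.mk'_spec P' p (⟨t ^ m, m, rfl⟩ : Submonoid.powers t))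
      rw [map_mul, hg, hg] at e
      simpa [h, map_pow] using e
    letI : Algebra P' B' := g.toRingHom.toAlgebra
    haveI : IsScalarTower P P' B' := IsScalarTower.of_algebraMap_eq fun p => (hg p).symm
    haveI : Module.FinitePresentation P' B' :=
      Module.finitePresentation_of_surjective (Algebra.linearMap P' B') hsurj
        (Algebra.FinitePresentation.ker_fG_of_surjective g hsurj)
    haveI : IsLocalizedModule (Submonoid.powers t) (IsScalarTower.toAlgHom P B B').toLinearMap := by
      rw [isLocalizedModule_iff_isLocalization]
      change IsLocalization (Submonoid.map π.toRingHom.toMonoidHom _) B'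
      rw [Submonoid.map_powers]
      exact inferInstanceAs (IsLocalization (Submonoid.powers (π t)) B')
    exact Module.FinitePresentation.of_equiv
      ((IsLocalizedModule.iso (Submonoid.powers t) (IsScalarTower.toAlgHom P B B').toLinearMap).extendScalarsOfIsLocalization
        (Submonoid.powers t) P').symm
  exact Algebra.FinitePresentation.of_surjective hπ
    (Module.FinitePresentation.fg_ker (Algebra.linearMap P B) hπ)

end Groth.Agent.RG
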