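import Groth.Agent.RG.FlatLocus
import Groth.Agent.InjFibre.Loc
import Mathlib.LinearAlgebra.TensorProduct.Pi
import Mathlib.RingTheory.Localization.Away.Basic

/-!
# Finite presentation descends along a scheme theoretically dense open
-/

set_option autoImplicit false
set_option linter.style.haveILetI false
set_option backward.isDefEq.respectTransparency false

universe u

open TensorProduct

namespace Groth.Agent.RG

/-- if a localisation of the target is finitely presented then, up to `U`-torsion, the kernel is finitely generated -/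
theorem exists_fg_ker_localized {S F N : Type u} [CommRing S] [AddCommGroup F] [Module S F] [Module.Finite S F]
    [AddCommGroup N] [Module S N] (φ : F →ₗ[S] N) (hφ : Function.Surjective φ) (U : Submonoid S)
    [Module.FinitePresentation (Localization U) (LocalizedModule U N)] :
    ∃ K₀ : Submodule S F, K₀.FG ∧ K₀ ≤ LinearMap.ker φ ∧ ∀ x ∈ LinearMap.ker φ, ∃ t ∈ U, t • x ∈ K₀ := by
  classical
  let φq : LocalizedModule U F →ₗ[Localization U] LocalizedModule U N := LocalizedModule.map U φ
  have hφq : Function.Surjective φq := fun z => by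
    obtain ⟨n, s, rfl⟩ := exists_mk z
    obtain ⟨k, rfl⟩ := hφ n
    exact ⟨LocalizedModule.mk k s, lmap_mk _ φ k s⟩
  haveI : Module.Finite (Localization U) (LocalizedModule U F) :=
    Module.Finite.of_isLocalizedModule U (LocalizedModule.mkLinearMap _ F)
  obtain ⟨T, hT⟩ := Module.FinitePresentation.fg_ker φq hφq
  have hnum : ∀ y : T, ∃ k ∈ LinearMap.ker φ, ∃ s : U,
      (s : S) • (y : LocalizedModule U F) = LocalizedModule.mkLinearMap U _ k := by
    intro y
    have hy : φq y = 0 := by
      have : (y : LocalizedModule U F) ∈ LinearMap.ker φq := hT ▸ Submodule.subset_span y.2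
      exact this
    obtain ⟨k, s, hks⟩ := exists_mk (y : LocalizedModule U F)
    rw [hks, show φq (LocalizedModule.mk k s) = LocalizedModule.mk (φ k) s from lmap_mk _ φ k s] at hy
    obtain ⟨t, ht⟩ := LocalizedModule.mk_eq.1 (hy.trans (LocalizedModule.zero_mk 1).symm)
    simp only [Submonoid.smul_def, Submonoid.coe_one, one_smul, smul_zero] at ht
    refine ⟨(t : S) • k, by rw [LinearMap.mem_ker, map_smul, ht], t * s, ?_⟩
    rw [hks, LocalizedModule.smul'_mk, Submonoid.coe_mul, mul_comm, mul_smul, ← Submonoid.smul_def,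
      LocalizedModule.mk_cancel]
    rfl
  choose k hkK s hs using hnum
  refine ⟨Submodule.span S (Set.range k), Submodule.fg_span (Set.finite_range k),
    Submodule.span_le.2 (by rintro _ ⟨y, rfl⟩; exact hkK y), fun x hx => ?_⟩
  let K₀ := Submodule.span S (Set.range k)
  let L : LocalizedModule U F →ₗ[Localization U] LocalizedModule U (F ⧸ K₀) := LocalizedModule.map U K₀.mkQ
  have h1 : LocalizedModule.mk x (1 : U) ∈ Submodule.span (Localization U) (T : Set (LocalizedModule U F)) := by
    rw [hT, LinearMap.mem_ker]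
    refine (lmap_mk U φ x 1).trans ?_
    rw [show φ x = 0 from hx, LocalizedModule.zero_mk]
  have hmem : L (LocalizedModule.mk x (1 : U)) = 0 := by
    refine LinearMap.mem_ker.1 ((Submodule.span_le.2 fun y hy => LinearMap.mem_ker.2 ?_) h1)
    have e := congrArg L (hs ⟨y, hy⟩)
    rw [LinearMap.map_smul_of_tower] at e
    have e0 : L (LocalizedModule.mkLinearMap U _ (k ⟨y, hy⟩)) = 0 := by
      change L (LocalizedModule.mk _ 1) = 0
      refine (lmap_mk U K₀.mkQ _ 1).trans ?_
      rw [show K₀.mkQ (k ⟨y, hy⟩) = 0 from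
        (Submodule.Quotient.mk_eq_zero K₀).2 (Submodule.subset_span ⟨⟨y, hy⟩, rfl⟩), LocalizedModule.zero_mk]
    rw [e0] at e
    exact ((Module.End.isUnit_iff _).1 (IsLocalizedModule.map_units
      (LocalizedModule.mkLinearMap U (F ⧸ K₀)) (s ⟨y, hy⟩))).1 (e.trans (map_zero _).symm)
  replace hmem := (lmap_mk U K₀.mkQ x 1).symm.trans hmem
  obtain ⟨⟨t, ht⟩, htx⟩ := (IsLocalizedModule.eq_zero_iff U (LocalizedModule.mkLinearMap U (F ⧸ K₀))).1 hmem
  refine ⟨t, ht, ?_⟩
  rw [← Submodule.Quotient.mk_eq_zero, Submodule.Quotient.mk_smul]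
  exact htx

/-- a flat module has no sections supported outside a scheme theoretically dense open -/
theorem eq_zero_of_dense {A M : Type u} [CommRing A] [AddCommGroup M] [Module A M] [Module.Flat A M] {n : ℕ}
    (f : Fin n → A) (hdense : Function.Injective (RingHom.pi fun i => algebraMap A (Localization.Away (f i))))
    (m : M) (hm : ∀ i, ∃ k : ℕ, f i ^ k • m = 0) : m = 0 := by
  let D := ∀ i, Localization.Away (f i)
  let ι : A →ₗ[A] D := LinearMap.pi fun i => Algebra.linearMap A (Localization.Away (f i))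
  have hι : Function.Injective ι := hdense
  have h0 : TensorProduct.piRight A A M (fun i => Localization.Away (f i)) (m ⊗ₜ ι 1) = 0 := by
    rw [TensorProduct.piRight_apply, TensorProduct.piRightHom_tmul]
    funext i
    obtain ⟨k, hk⟩ := hm i
    have h1 : (ι 1) i = f i ^ k • IsLocalization.mk' (Localization.Away (f i)) (1 : A)
        (⟨f i ^ k, k, rfl⟩ : Submonoid.powers (f i)) := by
      rw [Algebra.smul_def, IsLocalization.mul_mk'_eq_mk'_of_mul, mul_one]
      exact (map_one (algebraMap A _)).trans (IsLocalization.mk'_self' (Localization.Away (f i))).symm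
    rw [Pi.zero_apply, h1, ← smul_tmul, hk, zero_tmul]
  have h1 : m ⊗ₜ[A] (1 : A) = 0 := by
    refine Module.Flat.lTensor_preserves_injective_linearMap ι hι ?_
    rw [map_zero, LinearMap.lTensor_tmul]
    exact (TensorProduct.piRight A A M _).map_eq_zero_iff.1 h0
  have := congrArg (TensorProduct.rid A M) h1
  rwa [TensorProduct.rid_tmul, one_smul, map_zero] at this

/-- finite presentation of a flat module descends along a dense open of the base -/
theorem fp_of_dense {A B : Type u} [CommRing A] [CommRing B] [Algebra A B] [Algebra.FinitePresentation A B]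
    (N : Type u) [AddCommGroup N] [Module B N] [Module A N] [IsScalarTower A B N] [Module.Finite B N]
    [Module.Flat A N] {n : ℕ} (f : Fin n → A)
    (hdense : Function.Injective (RingHom.pi fun i => algebraMap A (Localization.Away (f i))))
    (hfp : ∀ i, Module.FinitePresentation (Localization.Away (algebraMap A B (f i)))
      (LocalizedModule (Submonoid.powers (algebraMap A B (f i))) N)) : Module.FinitePresentation B N := by
  classical
  obtain ⟨r, φ, hφ⟩ := Module.Finite.exists_fin' B N
  choose K₀ hK₀ hle₀ htor using fun i => by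
    haveI := hfp i
    exact exists_fg_ker_localized φ hφ (Submonoid.powers (algebraMap A B (f i)))
  let K := Finset.univ.sup K₀
  have hK : K.FG := Submodule.fg_finset_sup Finset.univ K₀ fun i _ => hK₀ i
  have hleK : K ≤ LinearMap.ker φ := Finset.sup_le fun i _ => hle₀ i
  have key : ∀ q : PrimeSpectrum B, ∃ (g : B) (K₁ : Submodule B (Fin r → B)), g ∉ q.asIdeal ∧ K₁.FG ∧
      K₁ ≤ LinearMap.ker φ ∧ ∀ k ∈ LinearMap.ker φ, ∃ n : ℕ, g ^ n • k ∈ K₁ := by
    intro q
    haveI : Module.Flat A (LocalizedModule q.asIdeal.primeCompl N) :=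
      InjFibre.flat_localized q.asIdeal.primeCompl (LocalizedModule.mkLinearMap q.asIdeal.primeCompl N)
    haveI := fp_of_flatAt (R := A) N q.asIdeal
    obtain ⟨K', hK', hle', htor'⟩ := exists_fg_ker_localized φ hφ q.asIdeal.primeCompl
    let K₁ := K ⊔ K'
    have hle : K₁ ≤ LinearMap.ker φ := sup_le hleK hle'
    let π : ((Fin r → B) ⧸ K₁) →ₗ[B] N := K₁.liftQ φ hle
    have hπ : Function.Surjective π := fun n => by
      obtain ⟨x, rfl⟩ := hφ n
      exact ⟨K₁.mkQ x, rfl⟩
    obtain ⟨e⟩ := exists_localized_equiv π hπ q.asIdeal.primeCompl fun k hk => by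
      obtain ⟨x, rfl⟩ := Submodule.mkQ_surjective K₁ k
      obtain ⟨t, ht, htx⟩ := htor' x hk
      exact ⟨t, ht, by rw [← map_smul, Submodule.mkQ_apply, Submodule.Quotient.mk_eq_zero]; exact Submodule.mem_sup_right htx⟩
    haveI : Module.FinitePresentation B ((Fin r → B) ⧸ K₁) :=
      Module.finitePresentation_of_surjective K₁.mkQ (Submodule.mkQ_surjective K₁)
        (by rw [Submodule.ker_mkQ]; exact hK.sup hK')
    have hflatq : Module.Flat A (LocalizedModule q.asIdeal.primeCompl ((Fin r → B) ⧸ K₁)) :=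
      Module.Flat.of_linearEquiv (e.restrictScalars A)
    obtain ⟨_, ⟨g, rfl⟩, hgq, hsub⟩ := PrimeSpectrum.isTopologicalBasis_basic_opens.exists_subset_of_mem_open
      (show q ∈ {q' : PrimeSpectrum B | Module.Flat A (LocalizedModule q'.asIdeal.primeCompl ((Fin r → B) ⧸ K₁))} from hflatq)
      FlatSpread.isOpen_flatLocus
    refine ⟨g, K₁, hgq, hK.sup hK', hle, fun x hx => ?_⟩
    haveI : Module.Flat A (LocalizedModule (Submonoid.powers g) ((Fin r → B) ⧸ K₁)) :=
      flat_localized_powers _ g fun σ hσ hg => hsub (show (⟨σ, hσ⟩ : PrimeSpectrum B) ∈ _ from hg)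
    have h0 : LocalizedModule.mkLinearMap (Submonoid.powers g) _ (K₁.mkQ x) = 0 := by
      refine eq_zero_of_dense f hdense _ fun i => ?_
      obtain ⟨_, ⟨k, rfl⟩, hk⟩ := htor i x hx
      refine ⟨k, ?_⟩
      rw [← algebraMap_smul B (f i ^ k), ← map_smul, map_pow, ← map_smul,
        show K₁.mkQ ((algebraMap A B (f i)) ^ k • x) = 0 from (Submodule.Quotient.mk_eq_zero K₁).2
          (Submodule.mem_sup_left (Finset.le_sup (f := K₀) (Finset.mem_univ i) hk)), map_zero]
    obtain ⟨⟨_, k, rfl⟩, hk⟩ := (IsLocalizedModule.eq_zero_iff (Submonoid.powers g) _).1 h0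
    refine ⟨k, ?_⟩
    rw [Submonoid.smul_def, ← map_smul, Submodule.mkQ_apply, Submodule.Quotient.mk_eq_zero] at hk
    exact hk
  choose g K₁ hg hK₁ hle hgK using key
  obtain ⟨s, hs⟩ := isCompact_univ.elim_finite_subcover
    (fun q : PrimeSpectrum B => (PrimeSpectrum.basicOpen (g q) : Set (PrimeSpectrum B)))
    (fun q => (PrimeSpectrum.basicOpen (g q)).isOpen) (fun q _ => Set.mem_iUnion.2 ⟨q, hg q⟩)
  let K₂ := s.sup K₁
  have hker : LinearMap.ker φ = K₂ := by
    refine le_antisymm (fun k hk => ?_) (Finset.sup_le fun q _ => hle q)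
    let I : Ideal B := K₂.colon {k}
    have hI : I = ⊤ := by
      by_contra hne
      obtain ⟨P, hP, hIP⟩ := Ideal.exists_le_maximal I hne
      obtain ⟨q, hq, hPq⟩ := Set.mem_iUnion₂.1 (hs (Set.mem_univ (⟨P, hP.isPrime⟩ : PrimeSpectrum B)))
      obtain ⟨n, hn⟩ := hgK q k hk
      exact hPq (hP.isPrime.mem_of_pow_mem n (hIP (Submodule.mem_colon_singleton.2 (Finset.le_sup (f := K₁) hq hn))))
    have := Submodule.mem_colon_singleton.1 ((Ideal.eq_top_iff_one I).1 hI)
    rwa [one_smul] at this
  exact Module.finitePresentation_of_surjective φ hφ (hker ▸ Submodule.fg_finset_sup s K₁ fun q _ => hK₁ q)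

end Groth.Agent.RG
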