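import Mathlib

/-!
The ideal of determinants of an ideal of a finite free algebra, and its factorisation over an
algebra in which the finite free algebra splits off a factor.
-/

set_option autoImplicit false

universe u

namespace Groth.Agent.RG.DetIdeal

open TensorProduct Module

variable {R T : Type u} [CommRing R] [AddCommGroup T] [Module R T]
  {ι : Type*} [Fintype ι] [DecidableEq ι]

theorem det_mem_span_of_mem_span (b : Basis ι R T) {m : ℕ} (v : Fin m → T) (u : ι → T)
    (hu : ∀ i, u i ∈ Submodule.span R (Set.range v)) :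
    b.det u ∈ Ideal.span (Set.range fun σ : ι → Fin m => b.det (v ∘ σ)) := by
  choose a ha using fun i => (Submodule.mem_span_range_iff_exists_fun R).1 (hu i)
  have he : u = fun i => ∑ j, a i j • v j := funext fun i => (ha i).symm
  rw [he]
  change b.det.toMultilinearMap (fun i => ∑ j, a i j • v j) ∈ _
  rw [MultilinearMap.map_sum]
  refine Ideal.sum_mem _ fun σ _ => ?_
  rw [MultilinearMap.map_smul_univ]
  exact Ideal.mul_mem_left _ _ (Ideal.subset_span ⟨σ, rfl⟩)

theorem det_baseChange_tmul {A C S : Type u} [CommRing A] [AddCommGroup C] [Module A C]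
    [CommRing S] [Algebra A S] (b : Basis ι A C) (u : ι → C) :
    (b.baseChange S).det (fun i => (1 : S) ⊗ₜ[A] u i) = algebraMap A S (b.det u) := by
  rw [Basis.det_apply, Basis.det_apply, RingHom.map_det]
  congr 1
  ext i j
  simp [Basis.toMatrix_apply, Basis.baseChange_repr_tmul, Algebra.smul_def]

variable {A C S : Type u} [CommRing A] [CommRing C] [Algebra A C] [CommRing S] [Algebra A S]

/-- If `C` is finite free over `A` and `S ⊗ C` splits off the factor `S` by `φ` (idempotent `e`),
then the determinant ideal of an ideal of `C` extends in `S` to a multiple of its image. -/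
theorem exists_map_eq_mul (b : Basis ι A C) (φ : C →ₐ[A] S) (e : S ⊗[A] C)
    (he1 : Algebra.TensorProduct.lift (Algebra.ofId S S) φ (fun _ _ => Commute.all _ _) e = 1)
    (he : ∀ c : C, ((1 : S) ⊗ₜ[A] c) * e = φ c • e) {m : ℕ} (s : Fin m → C)
    (hs : ∀ (c : C) (j : Fin m), c * s j ∈ Submodule.span A (Set.range s)) :
    ∃ J' : Ideal S, J'.FG ∧
      (Ideal.span (Set.range fun σ : ι → Fin m => b.det (s ∘ σ))).map (algebraMap A S)
        = Ideal.span (Set.range fun j => φ (s j)) * J' := by
  classical
  let bT : Basis ι S (S ⊗[A] C) := b.baseChange S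
  let ε : (S ⊗[A] C) →ₐ[S] S :=
    Algebra.TensorProduct.lift (Algebra.ofId S S) φ (fun _ _ => Commute.all _ _)
  let v : Fin m → S ⊗[A] C := fun j => (1 : S) ⊗ₜ[A] s j
  have hεv : ∀ j, ε (v j) = φ (s j) := fun j => by simp [ε, v]
  have hmul : ∀ (t : S ⊗[A] C) (j : Fin m), t * v j ∈ Submodule.span S (Set.range v) := by
    intro t j
    induction t using TensorProduct.induction_on with
    | zero => simp
    | tmul l c =>
      have h1 : (l ⊗ₜ[A] c) * v j = l • ((TensorProduct.mk A S C 1) (c * s j)) := by
        simp [v, TensorProduct.smul_tmul', smul_eq_mul]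
      rw [h1]
      refine Submodule.smul_mem _ _ ?_
      have h2 := Submodule.mem_map_of_mem (f := TensorProduct.mk A S C 1) (hs c j)
      rw [Submodule.map_span, ← Set.range_comp] at h2
      exact Submodule.span_subset_span A S _ h2
    | add x y hx hy => rw [add_mul]; exact add_mem hx hy
  have hev : ∀ j, φ (s j) • e ∈ Submodule.span S (Set.range v) := fun j => by
    rw [← he (s j), mul_comm]
    exact hmul e j
  let w : Fin m → S ⊗[A] C := fun j => v j - φ (s j) • e
  have hwv : ∀ j, w j ∈ Submodule.span S (Set.range v) := fun j =>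
    sub_mem (Submodule.subset_span ⟨j, rfl⟩) (hev j)
  have hεw : ∀ j, ε (w j) = 0 := fun j => by
    have h1 : ε e = 1 := he1
    simp [w, hεv, h1]
  -- determinants of vectors in the kernel of `ε` vanish
  have hker : ∀ u : ι → S ⊗[A] C, (∀ i, ε (u i) = 0) → bT.det u = 0 := by
    intro u hu
    let r : ι → S := fun k => ε (bT k)
    let M : Matrix ι ι S := bT.toMatrix u
    have hrM : Matrix.vecMul r M = 0 := by
      funext i
      have h2 := congrArg ε (bT.sum_repr (u i))
      rw [hu i, map_sum] at h2
      simp only [map_smul, smul_eq_mul] at h2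
      simp only [Matrix.vecMul, dotProduct, Pi.zero_apply, r, M, Basis.toMatrix_apply]
      rw [← h2]
      exact Finset.sum_congr rfl fun k _ => mul_comm _ _
    have hd : M.det • r = 0 := by
      have h3 := congrArg (fun x => Matrix.vecMul x M.adjugate) hrM
      simp only [Matrix.vecMul_vecMul, Matrix.zero_vecMul, Matrix.mul_adjugate,
        Matrix.vecMul_smul, Matrix.vecMul_one] at h3
      exact h3
    have hone : (1 : S) = ∑ k, bT.repr (1 : S ⊗[A] C) k * ε (bT k) := by
      calc (1 : S) = ε (1 : S ⊗[A] C) := (map_one ε).symm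
        _ = ε (∑ k, bT.repr (1 : S ⊗[A] C) k • bT k) := by rw [bT.sum_repr]
        _ = _ := by simp only [map_sum, map_smul, smul_eq_mul]
    rw [Basis.det_apply]
    calc M.det = M.det * 1 := (mul_one _).symm
      _ = 0 := by
        rw [hone, Finset.mul_sum]
        refine Finset.sum_eq_zero fun k _ => ?_
        have := congrFun hd k
        simp only [Pi.smul_apply, smul_eq_mul, Pi.zero_apply, r] at this
        linear_combination (bT.repr 1 k) * this
  have hI : (Ideal.span (Set.range fun σ : ι → Fin m => b.det (s ∘ σ))).map (algebraMap A S) =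
      Ideal.span (Set.range fun σ : ι → Fin m => bT.det (v ∘ σ)) := by
    rw [Ideal.map_span, ← Set.range_comp]
    congr 1
    refine congrArg Set.range (funext fun σ => ?_)
    exact (det_baseChange_tmul (S := S) b (s ∘ σ)).symm
  refine ⟨Ideal.span (Set.range fun p : (ι → Fin m) × ι =>
    bT.det (Function.update (w ∘ p.1) p.2 e)), Submodule.fg_span (Set.finite_range _), ?_⟩
  rw [hI]
  apply le_antisymm
  · rw [Ideal.span_le]
    rintro _ ⟨σ, rfl⟩
    change bT.det (v ∘ σ) ∈ _
    have hvσ : v ∘ σ = (fun i => φ (s (σ i)) • e) + (w ∘ σ) := by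
      funext i
      simp [w]
    rw [hvσ]
    change bT.det.toMultilinearMap _ ∈ _
    rw [MultilinearMap.map_add_univ]
    refine Ideal.sum_mem _ fun K _ => ?_
    rcases K.eq_empty_or_nonempty with rfl | ⟨i, hi⟩
    · simp only [Finset.piecewise_empty]
      change bT.det (w ∘ σ) ∈ _
      rw [hker (w ∘ σ) (fun i => hεw _)]
      exact zero_mem _
    · by_cases hK : K = {i}
      · subst hK
        rw [Finset.piecewise_singleton, MultilinearMap.map_update_smul, smul_eq_mul]
        exact Ideal.mul_mem_mul (Ideal.subset_span ⟨σ i, rfl⟩)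
          (Ideal.subset_span ⟨(σ, i), rfl⟩)
      · obtain ⟨k, hk, hki⟩ : ∃ k ∈ K, k ≠ i := by
          by_contra h
          push Not at h
          exact hK (Finset.eq_singleton_iff_unique_mem.2 ⟨hi, h⟩)
        set u := K.piecewise (fun i => φ (s (σ i)) • e) (w ∘ σ) with hu
        have h1 : u = Function.update (Function.update u i (φ (s (σ i)) • e)) k
            (φ (s (σ k)) • e) := by
          funext l
          by_cases hlk : l = k
          · subst hlk; simp [hu, hk]
          · by_cases hli : l = i
            · subst hli; simp [hu, hi, hlk]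
            · simp [hlk, hli]
        rw [h1, MultilinearMap.map_update_smul, Function.update_comm hki.symm,
          MultilinearMap.map_update_smul]
        have h2 : bT.det.toMultilinearMap (Function.update (Function.update u k e) i e) = 0 :=
          bT.det.map_eq_zero_of_eq _ (i := i) (j := k) (by simp [hki]) (Ne.symm hki)
        simp [h2]
  · rw [Ideal.span_mul_span', Ideal.span_le]
    rintro _ ⟨_, ⟨j, rfl⟩, _, ⟨⟨σ, i⟩, rfl⟩, rfl⟩
    change φ (s j) * bT.det (Function.update (w ∘ σ) i e) ∈ _
    rw [← smul_eq_mul]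
    change φ (s j) • bT.det.toMultilinearMap _ ∈ _
    rw [← MultilinearMap.map_update_smul]
    refine det_mem_span_of_mem_span bT v _ fun l => ?_
    by_cases hl : l = i
    · subst hl; simpa using hev j
    · simpa [hl] using hwv (σ l)

/-- The idempotent of `S ⊗ A[X]/(f)` cutting out a root of `f` at which `f'` is a unit. -/
theorem exists_idem (f : Polynomial A) (x : S) (hx : Polynomial.aeval x f = 0)
    (hd : IsUnit (Polynomial.aeval x f.derivative)) :
    ∃ e : S ⊗[A] AdjoinRoot f,
      Algebra.TensorProduct.lift (Algebra.ofId S S)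
          (AdjoinRoot.liftAlgHom f (Algebra.ofId A S) x hx) (fun _ _ => Commute.all _ _) e = 1 ∧
      ∀ c : AdjoinRoot f, ((1 : S) ⊗ₜ[A] c) * e
        = AdjoinRoot.liftAlgHom f (Algebra.ofId A S) x hx c • e := by
  let ρ : S ⊗[A] AdjoinRoot f := (1 : S) ⊗ₜ[A] AdjoinRoot.root f
  let φ := AdjoinRoot.liftAlgHom f (Algebra.ofId A S) x hx
  obtain ⟨f1, hf1⟩ : (Polynomial.X - Polynomial.C x) ∣ f.map (algebraMap A S) := by
    rw [Polynomial.dvd_iff_isRoot, Polynomial.IsRoot.def, Polynomial.eval_map_algebraMap]
    exact hx
  have hu : Polynomial.aeval x f.derivative = f1.eval x := by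
    rw [← Polynomial.eval_map_algebraMap, ← Polynomial.derivative_map, hf1]
    simp [Polynomial.derivative_mul]
  have hρ : (ρ - algebraMap S _ x) * Polynomial.aeval ρ f1 = 0 := by
    have h0 : Polynomial.aeval ρ f = 0 := by
      have := Polynomial.aeval_algHom_apply
        (Algebra.TensorProduct.includeRight (R := A) (A := S) (B := AdjoinRoot f))
        (AdjoinRoot.root f) f
      rw [AdjoinRoot.aeval_eq, AdjoinRoot.mk_self, map_zero] at this
      exact this
    rw [← Polynomial.aeval_map_algebraMap S, hf1] at h0
    simpa using h0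
  refine ⟨((hd.unit⁻¹ : Sˣ) : S) • Polynomial.aeval ρ f1, ?_, ?_⟩
  · rw [map_smul, ← Polynomial.aeval_algHom_apply]
    have h1 : Algebra.TensorProduct.lift (Algebra.ofId S S) φ (fun _ _ => Commute.all _ _) ρ = x := by
      simp [ρ, φ]
    rw [h1, Polynomial.coe_aeval_eq_eval, ← hu, smul_eq_mul]
    exact hd.val_inv_mul
  · intro c
    change _ = φ c • _
    induction c using AdjoinRoot.induction_on with
    | _ p =>
    rw [mul_smul_comm, smul_comm]
    congr 1
    have hroot : ρ * Polynomial.aeval ρ f1 = x • Polynomial.aeval ρ f1 := by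
      rw [Algebra.smul_def]; linear_combination hρ
    induction p using Polynomial.induction_on with
    | C a =>
      rw [AdjoinRoot.mk_C, ← AdjoinRoot.algebraMap_eq, φ.commutes, algebraMap_smul,
        Algebra.smul_def]
      congr 1
      exact (Algebra.TensorProduct.includeRight (R := A) (A := S) (B := AdjoinRoot f)).commutes a
    | add p q hp hq =>
      rw [map_add, TensorProduct.tmul_add, add_mul, map_add, add_smul, hp, hq]
    | monomial n a ih =>
      have h2 : AdjoinRoot.mk f (Polynomial.C a * Polynomial.X ^ (n + 1))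
          = AdjoinRoot.mk f (Polynomial.C a * Polynomial.X ^ n) * AdjoinRoot.root f := by
        rw [← AdjoinRoot.mk_X, ← map_mul, pow_succ, mul_assoc]
      have h3 : ((1 : S) ⊗ₜ[A] (AdjoinRoot.mk f (Polynomial.C a * Polynomial.X ^ n)
          * AdjoinRoot.root f))
          = ((1 : S) ⊗ₜ[A] AdjoinRoot.mk f (Polynomial.C a * Polynomial.X ^ n)) * ρ := by
        simp [ρ]
      have h4 : φ (AdjoinRoot.root f) = x := AdjoinRoot.liftAlgHom_root f (Algebra.ofId A S) x hx
      rw [h2, h3, mul_assoc, hroot, mul_smul_comm, ih]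
      rw [smul_smul, map_mul φ, h4, mul_comm]

end Groth.Agent.RG.DetIdeal
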