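import Groth.Agent.RG.FiniteType

/-!
# Spreading out flatness for algebras of finite type
-/

set_option autoImplicit false
set_option linter.style.haveILetI false
set_option backward.isDefEq.respectTransparency false

universe u

open TensorProduct

namespace Groth.Agent.RG

set_option backward.isDefEq.respectTransparency true in
theorem exists_relFP {R S : Type u} [CommRing R] [CommRing S] [Algebra R S] [Algebra.FiniteType R S]
    (hR : (FlatCA.weakAss R R).Finite) (N : Type u) [AddCommGroup N]
    [Module S N] [Module R N] [IsScalarTower R S N] [Module.Finite S N]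
    (q : Ideal S) [q.IsPrime] (hq : Module.Flat R (LocalizedModule q.primeCompl N)) :
    ∃ g : S, g ∉ q ∧ Module.Flat R (LocalizedModule (Submonoid.powers g) N) ∧
      ∃ (m : ℕ) (ψ : MvPolynomial (Fin m) R →ₐ[R] Localization.Away g), Function.Surjective ψ ∧
        (letI : Module (MvPolynomial (Fin m) R) (LocalizedModule (Submonoid.powers g) N) := Module.compHom _ ψ.toRingHom;
          Module.FinitePresentation (MvPolynomial (Fin m) R) (LocalizedModule (Submonoid.powers g) N)) := by
  obtain ⟨n, f, h, hf, hh, -, hflat, hfp⟩ := exists_fp_flat_ft hR N q hq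
  let P := MvPolynomial (Fin n) R
  letI : Algebra P S := f.toRingHom.toAlgebra
  haveI : IsScalarTower R P S := IsScalarTower.of_algebraMap_eq fun r => (f.commutes r).symm
  letI : Module P N := Module.compHom N f.toRingHom
  haveI : IsScalarTower P S N := IsScalarTower.of_algebraMap_smul fun _ _ => rfl
  haveI : IsScalarTower R P N := IsScalarTower.of_algebraMap_smul fun r x => by
    change f (algebraMap R P r) • x = r • x
    rw [AlgHom.commutes, algebraMap_smul]
  let Ph := Localization.Away h
  let g := f h
  let Sg := Localization.Away g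
  haveI : Algebra.FinitePresentation R Ph := Algebra.FinitePresentation.trans R P Ph
  obtain ⟨m, φ, hφ, hker⟩ := Algebra.FinitePresentation.out (R := R) (A := Ph)
  let κ : Ph →ₐ[R] Sg := IsLocalization.Away.liftAlgHom (S := Ph) h (f := (IsScalarTower.toAlgHom R S Sg).comp f)
    (IsLocalization.Away.algebraMap_isUnit g)
  have hκ : ∀ z : P, κ (algebraMap P Ph z) = algebraMap S Sg (f z) := fun z =>
    IsLocalization.lift_eq _ z
  have hκs : Function.Surjective κ := fun y => by
    obtain ⟨s, ⟨_, k, rfl⟩, rfl⟩ := IsLocalization.exists_mk'_eq (Submonoid.powers g) y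
    obtain ⟨z, rfl⟩ := hf s
    refine ⟨IsLocalization.mk' Ph z (⟨h ^ k, k, rfl⟩ : Submonoid.powers h), ?_⟩
    have e := congrArg κ (IsLocalization.mk'_spec Ph z (⟨h ^ k, k, rfl⟩ : Submonoid.powers h))
    rw [map_mul, hκ, hκ, map_pow] at e
    exact IsLocalization.eq_mk'_iff_mul_eq.2 e
  let ψ : MvPolynomial (Fin m) R →ₐ[R] Sg := κ.comp φ
  refine ⟨g, hh, hflat, m, ψ, hκs.comp hφ, ?_⟩
  let Y := LocalizedModule (Submonoid.powers g) N
  letI : Module Ph Y := Module.compHom Y κ.toRingHom
  haveI : IsScalarTower P Ph Y := IsScalarTower.of_algebraMap_smul fun z y => by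
    change κ (algebraMap P Ph z) • y = z • y
    rw [hκ, algebraMap_smul]
    exact algebraMap_smul S z y
  haveI : IsLocalizedModule (Algebra.algebraMapSubmonoid S (Submonoid.powers h))
      (LocalizedModule.mkLinearMap (Submonoid.powers g) N) := by
    rw [show Algebra.algebraMapSubmonoid S (Submonoid.powers h) = Submonoid.powers g from Submonoid.map_powers _ h]
    infer_instance
  haveI : IsLocalizedModule (Submonoid.powers h) ((LocalizedModule.mkLinearMap (Submonoid.powers g) N).restrictScalars P) :=
    IsLocalizedModule.restrictScalars _ _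
  let e := LinearEquiv.extendScalarsOfIsLocalization (Submonoid.powers h) Ph
    (IsLocalizedModule.iso (Submonoid.powers h) ((LocalizedModule.mkLinearMap (Submonoid.powers g) N).restrictScalars P))
  haveI : Module.FinitePresentation Ph Y := Module.FinitePresentation.of_equiv e
  let P' := MvPolynomial (Fin m) R
  letI : Algebra P' Ph := φ.toRingHom.toAlgebra
  haveI : Module.FinitePresentation P' Ph :=
    Module.finitePresentation_of_surjective (Algebra.linearMap P' Ph) hφ hker
  letI : Module P' Y := Module.compHom Y ψ.toRingHom
  haveI : IsScalarTower P' Ph Y := IsScalarTower.of_algebraMap_smul fun _ _ => rfl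
  exact Module.FinitePresentation.trans P' Y Ph

end Groth.Agent.RG
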