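import Groth.Agent.Hensel.EnvelopeStage
import Groth.Agent.Hensel.EnvelopeHensel
import Groth.Agent.Hensel.HenselizationNoeth
import Groth.Agent.UnramLib.FlatUnram
import Mathlib.RingTheory.AdjoinRoot
import Mathlib.RingTheory.Etale.Field
import Mathlib.RingTheory.Ideal.GoingUp
import Mathlib.RingTheory.QuasiFinite.Basic
import Mathlib.RingTheory.LocalRing.ResidueField.Fiber

/-!
# Modules without socle and the henselization

If a nonzero `v ∈ Aʰ ⊗ Q` lies in `Aʰ ⊗ Aq` for every `q ≠ 0`, then some `q ≠ 0` is killed by `m`.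
-/

set_option autoImplicit false
set_option linter.style.haveILetI false

universe u

open TensorProduct Polynomial

namespace Groth.Agent.RG

/-- an element of `C ⊗ Q` killed by `P` near a prime over `P` gives an element of `Q` killed by `P` -/
theorem exists_killed {A C : Type u} [CommRing A] [CommRing C] [Algebra A C] [Module.Finite A C] [Module.Free A C]
    {Q : Type u} [AddCommGroup Q] [Module A Q] (P : Ideal A) [P.IsPrime]
    (hinj : ∀ a ∉ P, ∀ q : Q, a • q = 0 → q = 0) (w : C ⊗[A] Q) (𝔭₀ : Ideal C) [𝔭₀.IsPrime]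
    (hw : ∀ t ∉ 𝔭₀, t • w ≠ 0) (hP : ∀ p ∈ P, ∃ t ∉ 𝔭₀, t • p • w = 0) :
    ∃ q : Q, q ≠ 0 ∧ ∀ p ∈ P, p • q = 0 := by
  classical
  let b := Module.Free.chooseBasis A C
  let e := TensorProduct.equivFinsuppOfBasisLeft (N := Q) b
  have hY : ∀ a ∉ P, ∀ y : C ⊗[A] Q, a • y = 0 → y = 0 := fun a ha y hy => e.injective (by
    rw [map_zero]
    refine Finsupp.ext fun i => hinj a ha _ ?_
    have := congrArg (fun f => f i) (congrArg e hy)
    simpa using this)
  let 𝔞 : Ideal C := LinearMap.ker (LinearMap.toSpanSingleton C _ w)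
  have h𝔞 : ∀ c, c ∈ 𝔞 ↔ c • w = 0 := fun c => Iff.rfl
  have hd : Disjoint (𝔞 : Set C) ((𝔭₀.primeCompl ⊔ P.primeCompl.map (algebraMap A C) : Submonoid C) : Set C) := by
    rw [Set.disjoint_left]
    intro x hx hx'
    obtain ⟨t, ht, _, ⟨a, ha, rfl⟩, rfl⟩ := Submonoid.mem_sup.1 hx'
    refine hw t ht (hY a ha _ ?_)
    rw [← algebraMap_smul C a, smul_smul, mul_comm]
    exact (h𝔞 _).1 hx
  obtain ⟨𝔭₁, hp₁, h𝔞le, hd₁⟩ := Ideal.exists_le_prime_disjoint _ _ hd
  haveI := hp₁
  have ht₁ : ∀ t ∉ 𝔭₁, t • w ≠ 0 := fun t ht h => ht (h𝔞le ((h𝔞 t).2 h))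
  have h𝔭₀ : ∀ t ∉ 𝔭₀, t ∉ 𝔭₁ := fun t ht h =>
    Set.disjoint_left.1 hd₁ h (Submonoid.mem_sup_left ht)
  have hcomap : 𝔭₁.comap (algebraMap A C) = P := by
    refine le_antisymm (fun a ha => ?_) fun p hp => ?_
    · by_contra hap
      exact Set.disjoint_left.1 hd₁ ha (Submonoid.mem_sup_right ⟨a, hap, rfl⟩)
    · obtain ⟨t, ht, htp⟩ := hP p hp
      refine (hp₁.mem_or_mem (h𝔞le ((h𝔞 (t * algebraMap A C p)).2 ?_))).resolve_left (h𝔭₀ t ht)
      rw [mul_smul, algebraMap_smul]
      exact htp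
  -- an element lying in all the other primes over `P`
  have hfin : {Q' : Ideal C | Q'.IsPrime ∧ Q'.comap (algebraMap A C) = P ∧ Q' ≠ 𝔭₁}.Finite :=
    (Algebra.QuasiFinite.finite_primesOver (S := C) P).subset fun Q' h => ⟨h.1, ⟨h.2.1.symm⟩⟩
  have hne : ∀ Q' ∈ hfin.toFinset, ∃ c ∈ Q', c ∉ 𝔭₁ := fun Q' hQ' => by
    rw [Set.Finite.mem_toFinset] at hQ'
    obtain ⟨hp, hc, hne⟩ := hQ'
    haveI := hp
    by_contra hcon
    push Not at hcon
    refine hne (le_antisymm hcon fun x hx => ?_)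
    by_contra hx'
    have hlt := Ideal.comap_lt_comap_of_integral_mem_sdiff (R := A) hcon ⟨hx, hx'⟩ (Algebra.IsIntegral.isIntegral x)
    rw [hc, hcomap] at hlt
    exact lt_irrefl _ hlt
  choose! c hcQ hc₁ using hne
  let s : C := ∏ Q' ∈ hfin.toFinset, c Q'
  have hs₁ : s ∉ 𝔭₁ := fun h => by
    obtain ⟨Q', hQ', h'⟩ := hp₁.prod_mem_iff.1 h
    exact hc₁ Q' hQ' h'
  have hs : ∀ Q' : Ideal C, Q'.IsPrime → Q'.comap (algebraMap A C) = P → s ∉ Q' → Q' = 𝔭₁ := by
    intro Q' hp hc hsQ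
    by_contra hne
    have hm : Q' ∈ hfin.toFinset := hfin.mem_toFinset.2 ⟨hp, hc, hne⟩
    exact hsQ (Ideal.mem_of_dvd _ (Finset.dvd_prod_of_mem c hm) (hcQ Q' hm))
  -- its equation
  obtain ⟨h, hmon, hroot⟩ := Algebra.IsIntegral.isIntegral (R := A) s
  have hex : ∃ i, h.coeff i ∉ P := ⟨h.natDegree, by
    rw [hmon.coeff_natDegree]
    exact fun h1 => (‹P.IsPrime›).ne_top ((Ideal.eq_top_iff_one P).2 h1)⟩
  let d := Nat.find hex
  have hd0 : h.coeff d ∉ P := Nat.find_spec hex
  have hlt : ∀ i < d, h.coeff i ∈ P := fun i hi => not_not.1 (Nat.find_min hex hi)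
  let low : A[X] := ∑ i ∈ Finset.range d, monomial i (h.coeff i)
  have hlow : ∀ i, low.coeff i = if i < d then h.coeff i else 0 := fun i => by
    simp [low, Polynomial.finset_sum_coeff, Polynomial.coeff_monomial]
  obtain ⟨g, hg⟩ : X ^ d ∣ h - low := X_pow_dvd_iff.2 fun i hi => by
    rw [coeff_sub, hlow, if_pos hi, sub_self]
  have hg0 : g.coeff 0 = h.coeff d := by
    have := congrArg (fun f => f.coeff (0 + d)) hg
    simp only [coeff_X_pow_mul, coeff_sub, hlow, zero_add, lt_irrefl, if_false, sub_zero] at this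
    rw [this]
    simpa using (coeff_X_pow_mul g d 0).symm
  let J : Ideal C := Ideal.span ((fun i => algebraMap A C (h.coeff i)) '' (Finset.range d : Set ℕ))
  have hsg : s ^ d * aeval s g ∈ J := by
    have h1 := congrArg (aeval s) hg
    rw [map_sub, map_mul, map_pow, aeval_X] at h1
    rw [← h1, show aeval s h = 0 from hroot, zero_sub, neg_mem_iff, map_sum]
    refine J.sum_mem fun i hi => ?_
    rw [aeval_monomial]
    exact J.mul_mem_right _ (Ideal.subset_span ⟨i, hi, rfl⟩)
  have hgs : aeval s g = s * aeval s g.divX + algebraMap A C (h.coeff d) := by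
    conv_lhs => rw [← X_mul_divX_add g]
    rw [map_add, map_mul, aeval_X, aeval_C, hg0]
  -- modify `w` so that the low coefficients kill it
  have hti : ∀ i, ∃ t ∉ 𝔭₀, i < d → t • h.coeff i • w = 0 := fun i => by
    by_cases hi : i < d
    · obtain ⟨t, ht, h'⟩ := hP _ (hlt i hi)
      exact ⟨t, ht, fun _ => h'⟩
    · exact ⟨1, fun h1 => (‹𝔭₀.IsPrime›).ne_top ((Ideal.eq_top_iff_one _).2 h1), fun h' => absurd h' hi⟩
  choose t ht htw using hti
  let T : C := ∏ i ∈ Finset.range d, t i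
  have hT : T ∉ 𝔭₁ := fun h => by
    obtain ⟨i, -, h'⟩ := hp₁.prod_mem_iff.1 h
    exact h𝔭₀ _ (ht i) h'
  have hJ : ∀ j ∈ J, j • T • w = 0 := by
    intro j hj
    induction hj using Submodule.span_induction with
    | mem x hx =>
      obtain ⟨i, hi, rfl⟩ := hx
      obtain ⟨r, hr⟩ := Finset.dvd_prod_of_mem t hi
      change algebraMap A C (h.coeff i) • T • w = 0
      rw [algebraMap_smul, show T = r * t i by rw [mul_comm]; exact hr, mul_smul, ← smul_comm r, ← smul_comm (t i),
        htw i (Finset.mem_range.1 hi), smul_zero]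
    | zero => rw [zero_smul]
    | add x y _ _ hx hy => rw [add_smul, hx, hy, add_zero]
    | smul r x _ hx => rw [smul_eq_mul, mul_smul, hx, smul_zero]
  -- powers of `s` stabilise
  have hstab : ∀ y : C ⊗[A] Q, (∀ j ∈ J, j • y = 0) → ∀ m, s ^ (d + m) • y = 0 → s ^ d • y = 0 := by
    intro y hy m
    induction m with
    | zero => exact id
    | succ m ih =>
      intro hm
      refine ih (hY _ hd0 _ ?_)
      have h1 : (s ^ m * (s ^ d * aeval s g)) • y = 0 := hy _ (J.mul_mem_left _ hsg)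
      rw [hgs, show s ^ m * (s ^ d * (s * aeval s g.divX + algebraMap A C (h.coeff d))) =
          aeval s g.divX * s ^ (d + (m + 1)) + algebraMap A C (h.coeff d) * s ^ (d + m) by ring,
        add_smul, mul_smul, hm, smul_zero, zero_add, mul_smul, algebraMap_smul] at h1
      exact h1
  have hkill : ∀ p ∈ P, p • s ^ d • T • w = 0 := by
    intro p hp
    obtain ⟨tp, htp, hpw⟩ := hP p hp
    have htp₁ := h𝔭₀ tp htp
    by_contra hne'
    let I : Ideal C := Ideal.span {tp} ⊔ J
    have hdis : Disjoint (I : Set C) ((Submonoid.powers s ⊔ P.primeCompl.map (algebraMap A C) : Submonoid C) : Set C) := by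
      rw [Set.disjoint_left]
      intro x hx hx'
      obtain ⟨_, ⟨N, rfl⟩, _, ⟨a, ha, rfl⟩, rfl⟩ := Submonoid.mem_sup.1 hx'
      obtain ⟨u, hu, j, hj, hxe⟩ := Submodule.mem_sup.1 hx
      obtain ⟨r, rfl⟩ := Ideal.mem_span_singleton'.1 hu
      apply hne'
      have hy : ∀ j ∈ J, j • p • T • w = 0 := fun j hj => by rw [smul_comm, hJ j hj, smul_zero]
      have h0 : (algebraMap A C a * s ^ N) • p • T • w = 0 := by
        rw [mul_comm, ← hxe, add_smul, hy j hj, add_zero, mul_smul, smul_comm p T w, smul_comm tp T, hpw,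
          smul_zero, smul_zero]
      rw [mul_smul, algebraMap_smul] at h0
      have h1 := hY a ha _ h0
      rw [smul_comm p]
      exact hstab _ hy N (by rw [pow_add, mul_smul, h1, smul_zero])
    obtain ⟨𝔭₂, hp₂, hle, hd₂⟩ := Ideal.exists_le_prime_disjoint _ _ hdis
    haveI := hp₂
    have hc₂ : 𝔭₂.comap (algebraMap A C) ≤ P := fun a ha => by
      by_contra hap
      exact Set.disjoint_left.1 hd₂ ha (Submonoid.mem_sup_right ⟨a, hap, rfl⟩)
    have hs₂ : s ∉ 𝔭₂ := fun h =>
      Set.disjoint_left.1 hd₂ h (Submonoid.mem_sup_left (Submonoid.mem_powers s))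
    obtain ⟨𝔭₃, h23, hp₃, hc₃⟩ := Ideal.exists_ideal_over_prime_of_isIntegral P 𝔭₂ hc₂
    have hs₃ : s ∉ 𝔭₃ := by
      intro hs'
      have hg2 : aeval s g ∈ 𝔭₂ := (hp₂.mem_or_mem (hle (Submodule.mem_sup_right hsg))).resolve_left
        fun h' => hs₂ (hp₂.mem_of_pow_mem _ h')
      refine hd0 (hc₃ ▸ ?_)
      rw [Ideal.mem_comap, show algebraMap A C (h.coeff d) = aeval s g - s * aeval s g.divX by rw [hgs]; ring]
      exact sub_mem (h23 hg2) (𝔭₃.mul_mem_right _ hs')
    have he := hs 𝔭₃ hp₃ hc₃ hs₃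
    subst he
    exact htp₁ (h23 (hle (Submodule.mem_sup_left (Ideal.mem_span_singleton_self tp))))
  have hne : e (s ^ d • T • w) ≠ 0 := fun h0 => by
    rw [LinearEquiv.map_eq_zero_iff, smul_smul] at h0
    exact ht₁ _ (fun h => (hp₁.mem_or_mem h).elim (fun h' => hs₁ (hp₁.mem_of_pow_mem _ h')) hT) h0
  obtain ⟨i, hi⟩ := Finsupp.ne_iff.1 hne
  refine ⟨_, by simpa using hi, fun p hp => ?_⟩
  have := congrArg (fun f => f i) (congrArg e (hkill p hp))
  simpa using this

/-- elements of `C ⊗ Q` vanishing in a flat local `C`-algebra die near the closed point -/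
theorem exists_smul_eq_zero {C W Y : Type u} [CommRing C] [CommRing W] [IsLocalRing W] [Algebra C W] [Module.Flat C W]
    [AddCommGroup Y] [Module C Y] (z : Y) (hz : (1 : W) ⊗ₜ[C] z = 0) :
    ∃ t ∉ (IsLocalRing.maximalIdeal W).comap (algebraMap C W), t • z = 0 := by
  by_contra hcon
  push Not at hcon
  let K : Ideal C := LinearMap.ker (LinearMap.toSpanSingleton C Y z)
  have hle : K ≤ (IsLocalRing.maximalIdeal W).comap (algebraMap C W) := fun t ht => by
    by_contra h
    exact hcon t h ht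
  let j : (C ⧸ K) →ₗ[C] Y := Submodule.liftQ K (LinearMap.toSpanSingleton C Y z) le_rfl
  have hj : Function.Injective j := LinearMap.ker_eq_bot.1 (Submodule.ker_liftQ_eq_bot _ _ _ le_rfl)
  have h1 : (1 : W) ⊗ₜ[C] (Ideal.Quotient.mk K 1) = 0 := by
    refine Module.Flat.lTensor_preserves_injective_linearMap (M := W) j hj ?_
    rw [map_zero, LinearMap.lTensor_tmul, ← hz]
    congr 1
    exact one_smul C z
  have h2 := congrArg (TensorProduct.tensorQuotEquivQuotSMul W K) h1
  rw [map_zero, TensorProduct.tensorQuotEquivQuotSMul_tmul_mk, one_smul, Submodule.Quotient.mk_eq_zero,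
    Ideal.smul_top_eq_map] at h2
  exact IsLocalRing.notMem_maximalIdeal.2 isUnit_one (Ideal.map_le_iff_le_comap.2 hle h2)

/-- `exists_killed` for an element given in a flat local algebra -/
theorem exists_killed_of_map {A C W : Type u} [CommRing A] [CommRing C] [CommRing W] [IsLocalRing W] [Algebra A C]
    [Algebra A W] [Algebra C W] [IsScalarTower A C W] [Module.Finite A C] [Module.Free A C] [Module.Flat C W]
    {Q : Type u} [AddCommGroup Q] [Module A Q] (P : Ideal A) [P.IsPrime]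
    (hinj : ∀ a ∉ P, ∀ q : Q, a • q = 0 → q = 0) (w : C ⊗[A] Q) (v : W ⊗[A] Q) (c : W) (hc : IsUnit c)
    (hv : v ≠ 0) (hPv : ∀ p ∈ P, p • v = 0)
    (hw : AlgebraTensorModule.rTensor A Q (Algebra.linearMap C W) w = c • v) :
    ∃ q : Q, q ≠ 0 ∧ ∀ p ∈ P, p • q = 0 := by
  let ι := AlgebraTensorModule.rTensor A Q (Algebra.linearMap C W)
  have hι : ∀ z, AlgebraTensorModule.cancelBaseChange A C C W Q ((1 : W) ⊗ₜ[C] z) = ι z := by
    intro z
    induction z using TensorProduct.induction_on with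
    | zero => simp
    | tmul t q => simp [ι, Algebra.smul_def]
    | add x y hx hy => rw [tmul_add, map_add, map_add, hx, hy]
  refine exists_killed P hinj w ((IsLocalRing.maximalIdeal W).comap (algebraMap C W)) (fun t ht h => hv ?_)
    fun p hp => ?_
  · have h1 := congrArg ι h
    rw [map_smul, map_zero, hw, ← algebraMap_smul W t (c • v), smul_smul] at h1
    exact ((IsLocalRing.notMem_maximalIdeal.1 ht).mul hc).smul_left_cancel.1 (h1.trans (smul_zero _).symm)
  · refine exists_smul_eq_zero (p • w) ((AlgebraTensorModule.cancelBaseChange A C C W Q).injective ?_)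
    rw [hι, map_zero, LinearMap.map_smul_of_tower, hw, smul_comm, hPv p hp, smul_zero]

/-- stage form of `exists_killed_of_map` -/
theorem exists_killed_stage {A W : Type u} [CommRing A] [CommRing W] [IsLocalRing W] [Algebra A W] [Module.Flat A W]
    {Q : Type u} [AddCommGroup Q] [Module A Q] (P : Ideal A) [P.IsPrime]
    (hinj : ∀ a ∉ P, ∀ q : Q, a • q = 0 → q = 0) (v : W ⊗[A] Q) (hv : v ≠ 0) (hPv : ∀ p ∈ P, p • v = 0)
    (S : Finset (W × Q)) (hS : v = ∑ i ∈ S, i.1 ⊗ₜ[A] i.2) (f : A[X]) (hf : f.Monic) (g : AdjoinRoot f)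
    [Algebra.Etale A (Localization.Away g)] (φ : Localization.Away g →ₐ[A] W) (b : Fin S.card → AdjoinRoot f) (c : W)
    (hc : IsUnit c) (hb : ∀ k, φ (algebraMap _ _ (b k)) = (S.equivFin.symm k).1.1 * c) :
    ∃ q : Q, q ≠ 0 ∧ ∀ p ∈ P, p • q = 0 := by
  haveI := hf.finite_adjoinRoot
  haveI := hf.free_adjoinRoot
  letI := φ.toRingHom.toAlgebra
  haveI : IsScalarTower A (Localization.Away g) W := IsScalarTower.of_algebraMap_eq fun a => (φ.commutes a).symm
  haveI : Module.Flat (Localization.Away g) W := UnramLib.flat_of_formallyUnramified A _ W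
  letI : Algebra (AdjoinRoot f) W :=
    ((algebraMap (Localization.Away g) W).comp (algebraMap (AdjoinRoot f) (Localization.Away g))).toAlgebra
  haveI : IsScalarTower (AdjoinRoot f) (Localization.Away g) W := IsScalarTower.of_algebraMap_eq fun _ => rfl
  haveI : IsScalarTower A (AdjoinRoot f) W := IsScalarTower.of_algebraMap_eq fun a => by
    rw [IsScalarTower.algebraMap_apply (AdjoinRoot f) (Localization.Away g) W,
      ← IsScalarTower.algebraMap_apply A (AdjoinRoot f) (Localization.Away g),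
      ← IsScalarTower.algebraMap_apply]
  haveI : Module.Flat (Localization.Away g) W := UnramLib.flat_of_formallyUnramified A _ W
  haveI : Module.Flat (AdjoinRoot f) (Localization.Away g) := IsLocalization.flat _ (Submonoid.powers g)
  haveI : Module.Flat (AdjoinRoot f) W := Module.Flat.trans (AdjoinRoot f) (Localization.Away g) W
  let w : AdjoinRoot f ⊗[A] Q := ∑ i, b i ⊗ₜ ((S.equivFin.symm i).1 : W × Q).2
  let ι : AdjoinRoot f ⊗[A] Q →ₗ[AdjoinRoot f] W ⊗[A] Q :=
    AlgebraTensorModule.rTensor A Q (Algebra.linearMap (AdjoinRoot f) W)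
  have hιw : ι w = c • v := by
    rw [hS, ← Finset.sum_coe_sort, ← S.equivFin.symm.sum_comp, Finset.smul_sum, map_sum]
    refine Finset.sum_congr rfl fun i _ => ?_
    rw [TensorProduct.smul_tmul', smul_eq_mul, mul_comm c]
    simp only [ι, AlgebraTensorModule.rTensor_tmul, Algebra.linearMap_apply]
    rw [← hb i]
    rfl
  exact exists_killed_of_map P hinj w v c hc hv hPv hιw


theorem etale_exists_sq {A B : Type u} [CommRing A] [CommRing B] [Algebra A B] [Algebra.Etale A B] (P : Ideal A) [P.IsPrime]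
    (x : B) : ∃ c ∉ P, ∃ y : B, c • x - x ^ 2 * y ∈ P • (⊤ : Submodule A B) := by
  haveI : Algebra.Etale P.ResidueField (P.Fiber B) := inferInstance
  obtain ⟨I, _, F, _, _, e, -⟩ := (Algebra.Etale.iff_exists_algEquiv_prod P.ResidueField (P.Fiber B)).1 ‹_›
  let x' : P.Fiber B := 1 ⊗ₜ x
  obtain ⟨y', hy'⟩ : ∃ y', x' = x' ^ 2 * y' := by
    refine ⟨e.symm fun i => (e x' i)⁻¹, e.injective ?_⟩
    rw [map_mul, map_pow, e.apply_symm_apply]
    funext i
    rcases eq_or_ne (e x' i) 0 with h | h <;> simp [h, sq]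
  obtain ⟨c, hc, y, hy⟩ := Ideal.Fiber.exists_smul_eq_one_tmul P y'
  refine ⟨c, hc, y, ?_⟩
  have h0 : (1 : P.ResidueField) ⊗ₜ[A] (c • x - x ^ 2 * y) = 0 := by
    have e1 : c • x' = x' ^ 2 * (c • y') := by rw [mul_smul_comm, ← hy']
    rw [hy] at e1
    rw [tmul_sub, sub_eq_zero, tmul_smul]
    refine e1.trans ?_
    simp [x', sq, Algebra.TensorProduct.tmul_mul_tmul]
  haveI : Module.Flat A B := inferInstance
  have h1 : (1 : A ⧸ P) ⊗ₜ[A] (c • x - x ^ 2 * y) = 0 := by
    refine Module.Flat.rTensor_preserves_injective_linearMap (M := B)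
      (IsScalarTower.toAlgHom A (A ⧸ P) P.ResidueField).toLinearMap
      P.injective_algebraMap_quotient_residueField ?_
    rw [map_zero, LinearMap.rTensor_tmul]
    simpa using h0
  have h2 := congrArg (TensorProduct.quotTensorEquivQuotSMul B P) h1
  rw [map_zero] at h2
  change TensorProduct.quotTensorEquivQuotSMul B P (Ideal.Quotient.mk _ 1 ⊗ₜ _) = 0 at h2
  rw [TensorProduct.quotTensorEquivQuotSMul_mk_tmul, one_smul, Submodule.Quotient.mk_eq_zero] at h2
  exact h2

/-- stage form of the non-maximal case -/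
theorem mem_of_div_stage {A W : Type u} [CommRing A] [IsLocalRing A] [CommRing W] [IsLocalRing W] [Algebra A W]
    (hmap : (IsLocalRing.maximalIdeal A).map (algebraMap A W) = IsLocalRing.maximalIdeal W)
    {Q : Type u} [AddCommGroup Q] [Module A Q] (P : Ideal A) [hPp : P.IsPrime] (v : W ⊗[A] Q)
    (q : Q) (hPq : ∀ p ∈ P, p • q = 0) (hdivP : ∀ x : A, x • q = 0 → x ∈ P)
    (hdiv : ∀ q' : Q, q' ≠ 0 → ∃ θ : W, v = θ ⊗ₜ q') (θ : W) (hθ : v = θ ⊗ₜ q)
    (a : A) (ham : a ∈ IsLocalRing.maximalIdeal A) (haP : a ∉ P) (f : A[X]) (g : AdjoinRoot f)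
    [Algebra.Etale A (Localization.Away g)] (φ : Localization.Away g →ₐ[A] W) (b : Fin 1 → AdjoinRoot f) (u : W)
    (hu : IsUnit u) (hb : ∀ k, φ (algebraMap _ _ (b k)) = θ * u) : ∃ c ∉ P, c • v = 0 := by
  obtain ⟨c, hc, y, hy⟩ := etale_exists_sq P (algebraMap (AdjoinRoot f) (Localization.Away g) (b 0))
  obtain ⟨θ', hθ'⟩ := hdiv ((c * a) • q) fun h =>
    (hPp.mul_notMem hc haP) (hdivP _ h)
  have hkill : ∀ z ∈ P • (⊤ : Submodule A (Localization.Away g)), φ z ⊗ₜ[A] q = 0 := by
    intro z hz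
    induction hz using Submodule.smul_induction_on' with
    | smul p hp z _ => rw [map_smul, smul_tmul, hPq p hp, tmul_zero]
    | add x _ y _ hx hy => rw [map_add, add_tmul, hx, hy, add_zero]
  have hrel := hkill _ hy
  simp only [map_sub, map_smul, map_mul, map_pow, hb 0] at hrel
  rw [TensorProduct.sub_tmul, sub_eq_zero] at hrel
  -- `c • (θ u ⊗ q) = (θ u)² y ⊗ q`
  have h2 : c • v = (θ * (u * φ y)) • v := by
    refine hu.smul_left_cancel.1 ?_
    rw [smul_comm u c, hθ, smul_tmul', smul_eq_mul, mul_comm u θ, smul_tmul', hrel, smul_tmul', smul_tmul',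
      smul_eq_mul, smul_eq_mul]
    ring_nf
  have h3 : θ • v = (a • θ') • (c • v) := by
    conv_lhs => rw [hθ']
    rw [hθ, smul_tmul', smul_tmul', smul_tmul', smul_eq_mul, smul_eq_mul, ← smul_tmul, smul_mul_assoc,
      mul_smul_comm, smul_smul, mul_comm θ θ', mul_comm a c]
  refine ⟨c, hc, ?_⟩
  have h4 : c • v = (u * φ y * (a • θ')) • (c • v) := by
    conv_lhs => rw [h2, mul_comm, mul_smul, h3, smul_smul]
  have hunit : IsUnit (1 - u * φ y * (a • θ')) := by
    apply IsLocalRing.notMem_maximalIdeal.1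
    intro h
    apply (IsLocalRing.maximalIdeal.isMaximal W).ne_top
    rw [Ideal.eq_top_iff_one, ← sub_add_cancel (1 : W) (u * φ y * (a • θ'))]
    refine add_mem h (Ideal.mul_mem_left _ _ ?_)
    rw [Algebra.smul_def, ← hmap]
    exact Ideal.mul_mem_right _ _ (Ideal.mem_map_of_mem _ ham)
  exact hunit.smul_left_cancel.1 (by rw [sub_smul, one_smul, ← h4, sub_self, smul_zero])

/-- every finite family comes from one standard étale algebra -/
def HasStages (A W : Type u) [CommRing A] [CommRing W] [Algebra A W] : Prop :=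
  ∀ (n : ℕ) (z : Fin n → W), ∃ (f : A[X]) (_ : f.Monic) (g : AdjoinRoot f) (_ : Algebra.Etale A (Localization.Away g))
      (φ : Localization.Away g →ₐ[A] W) (b : Fin n → AdjoinRoot f) (c : W), IsUnit c ∧
        ∀ k, φ (algebraMap _ _ (b k)) = z k * c

theorem exists_socle {A W : Type u} [CommRing A] [IsLocalRing A] [CommRing W] [IsLocalRing W] [Algebra A W]
    [Module.Flat A W] (hmap : (IsLocalRing.maximalIdeal A).map (algebraMap A W) = IsLocalRing.maximalIdeal W)
    (hst : HasStages A W) {Q : Type u} [AddCommGroup Q] [Module A Q] (v : W ⊗[A] Q) (hv : v ≠ 0)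
    (hdiv : ∀ q : Q, q ≠ 0 → ∃ θ : W, v = θ ⊗ₜ q) :
    ∃ q : Q, q ≠ 0 ∧ ∀ a ∈ IsLocalRing.maximalIdeal A, a • q = 0 := by
  classical
  let P : Ideal A := LinearMap.ker (LinearMap.toSpanSingleton A _ v)
  have hPmem : ∀ a, a ∈ P ↔ a • v = 0 := fun a => Iff.rfl
  have hdivP : ∀ (a : A) (q : Q), a • q = 0 → q ≠ 0 → a ∈ P := by
    intro a q h hq
    obtain ⟨θ, hθ⟩ := hdiv q hq
    rw [hPmem, hθ, ← tmul_smul, h, tmul_zero]
  have hinj : ∀ a ∉ P, ∀ q : Q, a • q = 0 → q = 0 := fun a ha q h => by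
    by_contra hq
    exact ha (hdivP a q h hq)
  have hinjH : ∀ a ∉ P, ∀ z : W ⊗[A] Q, a • z = 0 → z = 0 := by
    intro a ha z hz
    have hmap : Function.Injective (LinearMap.lsmul A Q a) :=
      (injective_iff_map_eq_zero _).2 fun q h => hinj a ha q h
    refine Module.Flat.lTensor_preserves_injective_linearMap (M := W) _ hmap ?_
    rw [map_zero]
    refine (?_ : _ = a • z).trans hz
    clear hz
    induction z using TensorProduct.induction_on with
    | zero => simp
    | tmul h q => simp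
    | add x y hx hy => rw [map_add, smul_add, hx, hy]
  haveI hPp : P.IsPrime := by
    refine ⟨fun h => hv ?_, fun {a b} hab => ?_⟩
    · simpa using (hPmem 1).1 (h ▸ trivial)
    · by_contra hcon
      push Not at hcon
      refine hcon.2 ((hPmem b).2 (hinjH a hcon.1 _ ?_))
      rw [smul_smul]
      exact (hPmem _).1 hab
  -- some nonzero element is killed by `P`
  obtain ⟨q, hq, hPq⟩ : ∃ q : Q, q ≠ 0 ∧ ∀ p ∈ P, p • q = 0 := by
    obtain ⟨S, hS⟩ := TensorProduct.exists_finset v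
    obtain ⟨f, hf, g, _, φ, b, c, hc, hb⟩ := hst _ (fun i => ((S.equivFin.symm i).1 : W × Q).1)
    exact exists_killed_stage P hinj v hv (fun p hp => (hPmem p).1 hp) S hS f hf g φ b c hc hb
  by_cases hPm : IsLocalRing.maximalIdeal A ≤ P
  · exact ⟨q, hq, fun a ha => hPq a (hPm ha)⟩
  obtain ⟨a, ham, haP⟩ := SetLike.not_le_iff_exists.1 hPm
  obtain ⟨θ, hθ⟩ := hdiv q hq
  obtain ⟨c, hc, hcv⟩ := (by
    obtain ⟨f, _, g, _, φ, b, u, hu, hb⟩ := hst 1 (fun _ : Fin 1 => θ)
    exact mem_of_div_stage hmap P v q hPq (fun x h => hdivP x q h hq) hdiv θ hθ a ham haP f g φ b u hu hb :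
      ∃ c ∉ P, c • v = 0)
  exact absurd ((hPmem c).2 hcv) hc


section env

open IsLocalRing

variable (A : Type u) [CommRing A] [IsLocalRing A]

local notation "H" => Hensel.Env A (ResidueField A)

/-- finitely many elements of the henselization come from one standard étale algebra -/
theorem hasStages_env : HasStages A H := by
  intro n z
  classical
  haveI := Hensel.flat_env A (ResidueField A)
  obtain ⟨P, T, _, _, _, ψ, χ, h1, -, -, hz⟩ := Hensel.exists_local_stage A (ResidueField A)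
    (Hensel.envRes A (ResidueField A)) (Hensel.envRes_eq_zero_iff A (ResidueField A))
    (IsScalarTower.toAlgHom A (Hensel.EnvTop A (ResidueField A)) H) (Hensel.envRes_algebraMap A (ResidueField A))
    (Hensel.env_hloc A (ResidueField A)) z
  let g : AdjoinRoot P.f := AdjoinRoot.mk P.f P.g
  let φ : Localization.Away g →ₐ[A] H := (χ.comp ψ).comp P.equivAwayAdjoinRoot.symm.toAlgHom
  haveI : Algebra.Etale A (Localization.Away g) := Algebra.Etale.of_equiv P.equivAwayAdjoinRoot
  have hnum : ∀ x : P.Ring, ∃ b d : AdjoinRoot P.f, IsUnit (φ (algebraMap _ _ d)) ∧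
      φ (algebraMap _ _ b) = χ (ψ x) * φ (algebraMap _ _ d) := by
    intro x
    obtain ⟨⟨b, gN⟩, hb⟩ := IsLocalization.surj (Submonoid.powers g) (P.equivAwayAdjoinRoot x)
    refine ⟨b, gN.1, (IsLocalization.map_units _ gN).map φ, ?_⟩
    rw [← hb, map_mul]
    simp [φ]
    rfl
  have hloc : ∀ k, ∃ b d : AdjoinRoot P.f, IsUnit (φ (algebraMap _ _ d)) ∧
      φ (algebraMap _ _ b) = z k * φ (algebraMap _ _ d) := by
    intro k
    obtain ⟨y, hy⟩ := hz k
    obtain ⟨x, c₀, hc₀, hxy⟩ := h1 y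
    obtain ⟨b, d, hd, hb⟩ := hnum x
    obtain ⟨b', d', hd', hb'⟩ := hnum c₀
    refine ⟨b * d', b' * d, ?_, ?_⟩
    · rw [map_mul, map_mul, hb']
      exact ((hc₀.map χ).mul hd').mul hd
    · rw [map_mul, map_mul, map_mul, map_mul, hb, hb', ← hxy, map_mul, hy]
      ring
  choose b d hd hbd using hloc
  refine ⟨P.f, P.monic_f, g, inferInstance, φ, fun k => b k * ∏ j ∈ Finset.univ.erase k, d j,
    φ (algebraMap _ _ (∏ j, d j)), ?_, fun k => ?_⟩
  · rw [map_prod, map_prod]
    exact IsUnit.prod_univ_iff.2 hd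
  · rw [← Finset.mul_prod_erase _ _ (Finset.mem_univ k)]
    simp only [map_mul, hbd]
    ring

end env

end Groth.Agent.RG
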