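import Groth.Agent.RG.Content
import Groth.Prelude.Def_Found
import Mathlib.RingTheory.Flat.Basic

/-!
# Flat modules with contents are Mittag-Leffler
-/

set_option autoImplicit false
set_option linter.style.haveILetI false

universe u

open TensorProduct

namespace Groth.Agent.RG

theorem isMittagLeffler_of_ctn {A : Type u} [CommRing A] {N : Type u} [AddCommGroup N] [Module A N] [Module.Flat A N]
    (hN : Ctn A N) : CAlg.IsMittagLeffler A N := by
  classical
  intro ι Q _ _
  rw [injective_iff_map_eq_zero]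
  intro z hz
  obtain ⟨S, rfl⟩ := TensorProduct.exists_finset z
  let e := S.equivFin
  let x : Fin S.card → N := fun k => (e.symm k).1.1
  let φ : (Fin S.card → A) →ₗ[A] (∀ i, Q i) := Fintype.linearCombination A fun k => (e.symm k).1.2
  have hres : ∀ {Y : Type u} [AddCommGroup Y] [Module A Y] (g : (∀ i, Q i) →ₗ[A] Y),
      g.lTensor N (∑ p ∈ S, p.1 ⊗ₜ[A] p.2) =
        ((LinearMap.ker (g ∘ₗ φ)).liftQ (g ∘ₗ φ) le_rfl).lTensor N (res (LinearMap.ker (g ∘ₗ φ)) x) := by
    intro Y _ _ g
    rw [map_sum, ← Finset.sum_coe_sort, ← e.symm.sum_comp]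
    simp [res, map_sum, x, φ, Fintype.linearCombination_apply_single]
  obtain ⟨V, -, hV⟩ := hN _ x
  have hVi : ∀ i, V ≤ LinearMap.ker ((LinearMap.proj (R := A) (φ := Q) i) ∘ₗ φ) := fun i => by
    refine (hV _).1 (Module.Flat.lTensor_preserves_injective_linearMap _
      (LinearMap.ker_eq_bot.1 (Submodule.ker_liftQ_eq_bot _ _ le_rfl le_rfl)) ?_)
    rw [map_zero, ← hres]
    have h0 : piRightHom A A N Q (∑ p ∈ S, p.1 ⊗ₜ[A] p.2) i = 0 := congrFun hz i
    rw [← h0, map_sum, map_sum, Finset.sum_apply]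
    simp
  have h := hres (LinearMap.id : (∀ i, Q i) →ₗ[A] _)
  rw [LinearMap.lTensor_id, LinearMap.id_apply] at h
  rw [h, (hV _).2 fun v hv => LinearMap.mem_ker.2 (funext fun i => LinearMap.mem_ker.1 (hVi i hv)), map_zero]

end Groth.Agent.RG
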