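import Groth.Agent.RG.Devissage
import Groth.Agent.RG.HenselCore
import Groth.Agent.Hensel.Henselization

/-!
# The theorem of Raynaud–Gruson over a local ring

`main`: for a finitely presented algebra `S`, a prime `q` over `m`, a finitely presented module `N` and
a map `u : N_q → M` to a flat module which is injective on the closed fibre, `N_q` is flat and `u` is
universally injective.
-/

set_option autoImplicit false
set_option linter.style.haveILetI false
set_option backward.isDefEq.respectTransparency false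

universe u

open TensorProduct

namespace Groth.Agent.RG

local notation "𝔪" => IsLocalRing.maximalIdeal

/-- the henselian case -/
theorem good_any {A : Type u} [CommRing A] [HenselianLocalRing A] {B : Type u} [CommRing B] [Algebra A B]
    [Algebra.FinitePresentation A B] (q : Ideal B) [q.IsPrime] [q.LiesOver (𝔪 A)]
    (N : Type u) [AddCommGroup N] [Module B N] [Module A N] [IsScalarTower A B N] [Module.FinitePresentation B N]
    (hN : RelFlat A (LocalizedModule q.primeCompl N)) :
    Module.Flat A (LocalizedModule q.primeCompl N) ∧ Ctn A (LocalizedModule q.primeCompl N) := by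
  obtain ⟨n, f, hf, -⟩ := Algebra.FinitePresentation.out (R := A) (A := B)
  refine good A n B q f ?_ N hN
  letI := f.toRingHom.toAlgebra
  haveI : Module.Finite (MvPolynomial (Fin n) A) B := Module.Finite.of_surjective (Algebra.linearMap _ B) hf
  infer_instance

theorem quot_top_killed {A V : Type u} [CommRing A] [IsLocalRing A] [AddCommGroup V] [Module A V]
    {K : Submodule A V} (hK : 𝔪 A • (⊤ : Submodule A V) ≤ K) : ∀ a ∈ 𝔪 A, ∀ v : V ⧸ K, a • v = 0 := by
  intro a ha v
  obtain ⟨v, rfl⟩ := Submodule.mkQ_surjective _ v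
  rw [← map_smul, Submodule.mkQ_apply, Submodule.Quotient.mk_eq_zero]
  exact hK (Submodule.smul_mem_smul ha trivial)

theorem smul_top_eq_bot {A V : Type u} [CommRing A] [IsLocalRing A] [AddCommGroup V] [Module A V]
    (hV : ∀ a ∈ 𝔪 A, ∀ v : V, a • v = 0) : 𝔪 A • (⊤ : Submodule A V) = ⊥ :=
  le_antisymm (Submodule.smul_le.2 fun a ha v _ => by simp [hV a ha v]) bot_le

/-- base change of the hypothesis on a map to a flat module -/
theorem RelFlat.baseChange_map {H R : Type u} [CommRing H] [IsLocalRing H] [CommRing R] [Algebra H R]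
    {N' : Type u} [AddCommGroup N'] [Module R N'] [Module H N'] [IsScalarTower H R N']
    (W : Type u) [CommRing W] [Algebra R W] [Algebra H W] [IsScalarTower H R W] [Module.Flat R W]
    {M : Type u} [AddCommGroup M] [Module H M] [Module.Flat H M] (u₀ : N' →ₗ[H] M)
    (h : ∀ x, u₀ x ∈ 𝔪 H • (⊤ : Submodule H M) →
      ∀ w : W, w ⊗ₜ[R] x ∈ 𝔪 H • (⊤ : Submodule H (W ⊗[R] N'))) :
    RelFlat H (W ⊗[R] N') := by
  intro J hJ z hz
  obtain ⟨z', rfl⟩ := (AlgebraTensorModule.assoc H R R W N' J).symm.surjective z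
  have hcomm : ∀ {V : Type u} [AddCommGroup V] [Module H V] (f : J →ₗ[H] V) (z' : W ⊗[R] (N' ⊗[H] J)),
      AlgebraTensorModule.assoc H R R W N' V (f.lTensor (W ⊗[R] N') ((AlgebraTensorModule.assoc H R R W N' J).symm z')) =
        (AlgebraTensorModule.lTensor R N' f).lTensor W z' := by
    intro V _ _ f z'
    induction z' using TensorProduct.induction_on with
    | zero => simp
    | tmul w y =>
      induction y using TensorProduct.induction_on with
      | zero => simp
      | tmul x j => simp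
      | add a b ha hb => simp only [tmul_add, map_add, ha, hb]
    | add a b ha hb => simp only [map_add, ha, hb]
  have h0 : (AlgebraTensorModule.lTensor R N' J.subtype).lTensor W z' = 0 := by
    rw [← hcomm, hz, map_zero]
  obtain ⟨k, rfl⟩ := ((Module.Flat.lTensor_exact W (LinearMap.exact_subtype_ker_map
    (AlgebraTensorModule.lTensor R N' J.subtype))) z').1 h0
  apply (AlgebraTensorModule.assoc H R R W N' _).injective
  rw [hcomm, map_zero, ← LinearMap.comp_apply, ← LinearMap.lTensor_comp]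
  clear hz h0
  induction k using TensorProduct.induction_on with
  | zero => rw [map_zero]
  | add a b ha hb => rw [map_add, ha, hb, add_zero]
  | tmul w k =>
    obtain ⟨y, hy⟩ := k
    rw [LinearMap.lTensor_tmul]
    simp only [LinearMap.comp_apply, Submodule.coe_subtype]
    apply (AlgebraTensorModule.assoc H R R W N' _).symm.injective
    rw [map_zero]
    let jw : N' →ₗ[H] W ⊗[R] N' := (TensorProduct.mk R W N' w).restrictScalars H
    have hjw : ∀ {V : Type u} [AddCommGroup V] [Module H V] (y : N' ⊗[H] V),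
        (AlgebraTensorModule.assoc H R R W N' V).symm (w ⊗ₜ y) = jw.rTensor V y := by
      intro V _ _ y
      induction y using TensorProduct.induction_on with
      | zero => simp
      | tmul x v => simp [jw]
      | add a b ha hb => rw [tmul_add, map_add, map_add, ha, hb]
    rw [hjw]
    let mJ : Submodule H J := 𝔪 H • ⊤
    let yb : N' ⊗[H] (↥J ⧸ mJ) := mJ.mkQ.lTensor N' y
    change jw.rTensor _ yb = 0
    have hu0 : u₀.rTensor _ yb = 0 := by
      have h1 : u₀.rTensor J y = 0 := by
        apply Module.Flat.lTensor_preserves_injective_linearMap (M := M) J.subtype J.injective_subtype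
        rw [← LinearMap.comp_apply, LinearMap.lTensor_comp_rTensor, ← LinearMap.rTensor_comp_lTensor,
          LinearMap.comp_apply, map_zero]
        rw [show J.subtype.lTensor N' y = 0 from hy, map_zero]
      simp only [yb]
      rw [← LinearMap.comp_apply, LinearMap.rTensor_comp_lTensor, ← LinearMap.lTensor_comp_rTensor,
        LinearMap.comp_apply, h1, map_zero]
    let mM : Submodule H M := 𝔪 H • ⊤
    let mL : Submodule H (W ⊗[R] N') := 𝔪 H • ⊤
    let K₀ : Submodule H N' := mM.comap u₀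
    have hK₀ : 𝔪 H • (⊤ : Submodule H N') ≤ K₀ := Submodule.smul_le.2 fun a ha x _ => by
      change u₀ (a • x) ∈ mM
      rw [map_smul]
      exact Submodule.smul_mem_smul ha trivial
    let ub : (N' ⧸ K₀) →ₗ[H] M ⧸ mM := K₀.mapQ mM u₀ le_rfl
    have hub : ∀ x, ub x ∈ 𝔪 H • (⊤ : Submodule H (M ⧸ mM)) → x ∈ 𝔪 H • (⊤ : Submodule H (N' ⧸ K₀)) := by
      intro x hx
      rw [smul_top_eq_bot (quot_top_killed le_rfl), Submodule.mem_bot] at hx
      obtain ⟨x, rfl⟩ := Submodule.mkQ_surjective _ x
      rw [Submodule.mkQ_apply, Submodule.mapQ_apply, Submodule.Quotient.mk_eq_zero] at hx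
      rw [Submodule.mkQ_apply, (Submodule.Quotient.mk_eq_zero K₀).2 hx]
      exact zero_mem _
    have hXq : K₀.mkQ.rTensor _ yb = 0 := by
      apply rTensor_injective_of_killed ub hub _ quot_smul_top_killed
      rw [map_zero, ← LinearMap.rTensor_comp_apply, show ub ∘ₗ K₀.mkQ = mM.mkQ ∘ₗ u₀ from LinearMap.ext fun _ => rfl,
        LinearMap.rTensor_comp_apply, hu0, map_zero]
    let jb : (N' ⧸ K₀) →ₗ[H] (W ⊗[R] N') ⧸ mL := K₀.mapQ mL jw fun x hx => h x hx w
    apply rTensor_injective_of_killed mL.mkQ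
      (fun x hx => by
        rw [smul_top_eq_bot (quot_top_killed le_rfl), Submodule.mem_bot, Submodule.mkQ_apply,
          Submodule.Quotient.mk_eq_zero] at hx
        exact hx) _ quot_smul_top_killed
    rw [map_zero, ← LinearMap.rTensor_comp_apply, show mL.mkQ ∘ₗ jw = jb ∘ₗ K₀.mkQ from LinearMap.ext fun _ => rfl,
      LinearMap.rTensor_comp_apply, hXq, map_zero]

/-- `N_q → W ⊗ N` is universally injective over the base -/
theorem pure_to_local {A B : Type u} [CommRing A] [CommRing B] [Algebra A B] (q : Ideal B)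
    [q.IsPrime] (N : Type u) [AddCommGroup N] [Module B N] [Module A N] [IsScalarTower A B N]
    (W : Type u) [CommRing W] [IsLocalRing W] [Algebra B W] [Algebra A W] [IsScalarTower A B W] [Module.Flat B W]
    (hW : (𝔪 W).comap (algebraMap B W) = q) :
    ∃ j : LocalizedModule q.primeCompl N →ₗ[A] W ⊗[B] N,
      (∀ n, j (LocalizedModule.mkLinearMap q.primeCompl N n) = 1 ⊗ₜ n) ∧
      ∀ (Q : Type u) [AddCommGroup Q] [Module A Q], Function.Injective (j.rTensor Q) := by
  let R := Localization.AtPrime q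
  have hu : ∀ b : q.primeCompl, IsUnit (algebraMap B W b) := fun b => by
    by_contra hb
    exact b.2 ((SetLike.ext_iff.1 hW (b : B)).1 ((IsLocalRing.mem_maximalIdeal _).2 hb))
  letI : Algebra R W := (IsLocalization.lift (S := R) hu).toAlgebra
  haveI : IsScalarTower B R W := IsScalarTower.of_algebraMap_eq fun b => by
    rw [RingHom.algebraMap_toAlgebra, IsLocalization.lift_eq]
  haveI : IsScalarTower A R W := IsScalarTower.of_algebraMap_eq fun a => by
    rw [IsScalarTower.algebraMap_apply A B R, ← IsScalarTower.algebraMap_apply B R W,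
      ← IsScalarTower.algebraMap_apply]
  haveI : Module.Flat R W := (Module.flat_iff_of_isLocalization R q.primeCompl W).2 inferInstance
  haveI : IsLocalHom (algebraMap R W) := ⟨fun x hx => by
    obtain ⟨b, s, rfl⟩ := IsLocalization.exists_mk'_eq q.primeCompl x
    have h1 : IsUnit (algebraMap B W b) := by
      have e := congrArg (algebraMap R W) (IsLocalization.mk'_spec R b s)
      rw [map_mul, ← IsScalarTower.algebraMap_apply, ← IsScalarTower.algebraMap_apply] at e
      rw [← e]
      exact hx.mul (hu s)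
    rw [IsLocalization.AtPrime.isUnit_mk'_iff]
    intro hb
    exact (IsLocalRing.mem_maximalIdeal _).1 ((SetLike.ext_iff.1 hW b).2 hb) h1⟩
  haveI : Module.FaithfullyFlat R W := Module.FaithfullyFlat.of_flat_of_isLocalHom
  let X := LocalizedModule q.primeCompl N
  let e : W ⊗[R] X ≃ₗ[A] W ⊗[B] N :=
    ((AlgebraTensorModule.congr (LinearEquiv.refl W W) (LocalizedModule.equivTensorProduct q.primeCompl N)).trans
      (AlgebraTensorModule.cancelBaseChange B R W W N)).restrictScalars A
  refine ⟨e.toLinearMap.comp ((TensorProduct.mk R W X 1).restrictScalars A), fun n => ?_, fun Q _ _ => ?_⟩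
  · change AlgebraTensorModule.cancelBaseChange B R W W N (AlgebraTensorModule.congr (LinearEquiv.refl W W)
      (LocalizedModule.equivTensorProduct q.primeCompl N) (1 ⊗ₜ LocalizedModule.mk n 1)) = _
    rw [AlgebraTensorModule.congr_tmul, LocalizedModule.equivTensorProduct_apply_mk]
    simp [Localization.mk_one]
    erw [AlgebraTensorModule.cancelBaseChange_tmul, one_smul]
  · rw [LinearMap.rTensor_comp]
    exact (e.rTensor Q).injective.comp (pure_mk (R := R) W Q)

theorem exists_tmul_of_mem_span {H A Q : Type u} [CommRing A] [AddCommGroup H] [Module A H] [AddCommGroup Q]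
    [Module A Q] (q : Q) (y : H ⊗[A] ↥(Submodule.span A {q})) :
    ∃ θ : H, θ ⊗ₜ[A] q = (Submodule.span A {q}).subtype.lTensor H y := by
  induction y using TensorProduct.induction_on with
  | zero => exact ⟨0, by simp⟩
  | tmul h v =>
    obtain ⟨a, ha⟩ := Submodule.mem_span_singleton.1 v.2
    exact ⟨a • h, by rw [LinearMap.lTensor_tmul, Submodule.coe_subtype, ← ha, tmul_smul, smul_tmul']⟩
  | add x y hx hy =>
    obtain ⟨a, ha⟩ := hx
    obtain ⟨b, hb⟩ := hy
    exact ⟨a + b, by rw [add_tmul, ha, hb, map_add]⟩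

/-- a maximal submodule modulo which an element survives -/
theorem exists_maximal_survive {A X Q : Type u} [CommRing A] [AddCommGroup X] [Module A X] [AddCommGroup Q]
    [Module A Q] (z : X ⊗[A] Q) (hz : z ≠ 0) :
    ∃ W : Submodule A Q, W.mkQ.lTensor X z ≠ 0 ∧ ∀ W', W < W' → W'.mkQ.lTensor X z = 0 := by
  classical
  let S : Set (Submodule A Q) := {W | W.mkQ.lTensor X z ≠ 0}
  have hbot : (⊥ : Submodule A Q) ∈ S := fun h => by
    refine hz (((Submodule.quotEquivOfEqBot ⊥ rfl).symm.lTensor X).injective (?_ : _ = _))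
    rw [map_zero]
    exact h
  obtain ⟨W, -, hW⟩ : ∃ W, ⊥ ≤ W ∧ Maximal (fun W => W ∈ S) W := by
    refine zorn_le_nonempty₀ S (fun c hcS hc W₀ hW₀ => ?_) ⊥ hbot
    refine ⟨sSup c, fun h => ?_, fun W hW => le_sSup hW⟩
    obtain ⟨y, hy⟩ := (lTensor_exact X (LinearMap.exact_subtype_mkQ (sSup c)) (Submodule.mkQ_surjective _) z).1 h
    have key : ∀ y : X ⊗[A] ↥(sSup c), ∃ W ∈ c, W.mkQ.lTensor X ((sSup c).subtype.lTensor X y) = 0 := by
      intro y
      induction y using TensorProduct.induction_on with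
      | zero => exact ⟨W₀, hW₀, by simp⟩
      | tmul x v =>
        obtain ⟨W, hW, hv⟩ := (Submodule.mem_sSup_of_directed ⟨W₀, hW₀⟩ hc.directedOn).1 v.2
        refine ⟨W, hW, ?_⟩
        rw [LinearMap.lTensor_tmul, LinearMap.lTensor_tmul, Submodule.coe_subtype, Submodule.mkQ_apply,
          (Submodule.Quotient.mk_eq_zero W).2 hv, tmul_zero]
      | add a b ha hb =>
        obtain ⟨Wa, hWa, ha⟩ := ha
        obtain ⟨Wb, hWb, hb⟩ := hb
        obtain ⟨W, hW, hla, hlb⟩ := hc.directedOn Wa hWa Wb hWb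
        refine ⟨W, hW, ?_⟩
        rw [map_add, map_add, ← Submodule.factor_comp_mk hla, LinearMap.lTensor_comp_apply, ha, map_zero, zero_add,
          Submodule.factor_comp_mk hla, ← Submodule.factor_comp_mk hlb, LinearMap.lTensor_comp_apply, hb, map_zero]
    obtain ⟨W, hW, h0⟩ := key y
    rw [hy] at h0
    exact hcS hW h0
  refine ⟨W, hW.prop, fun W' hlt => ?_⟩
  by_contra h
  exact hW.not_prop_of_gt hlt h

/-- an element lying in `X ⊗ Aq` for every `q ≠ 0` produces an element killed by `m` -/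
def HasSocle (A X : Type u) [CommRing A] [IsLocalRing A] [AddCommGroup X] [Module A X] : Prop :=
  ∀ (Q : Type u) [AddCommGroup Q] [Module A Q] (z : X ⊗[A] Q), z ≠ 0 →
    (∀ W' : Submodule A Q, W' ≠ ⊥ → W'.mkQ.lTensor X z = 0) → ∃ q : Q, q ≠ 0 ∧ ∀ a ∈ 𝔪 A, a • q = 0

theorem hasSocle_of_content {A H : Type u} [CommRing A] [IsLocalRing A] [CommRing H] [IsLocalRing H] [Algebra A H]
    [Module.Flat A H] (hmap : (𝔪 A).map (algebraMap A H) = 𝔪 H) (hst : HasStages A H)
    {X : Type u} [AddCommGroup X] [Module A X]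
    {L : Type u} [AddCommGroup L] [Module A L] [Module H L] [IsScalarTower A H L] [Module.Flat H L] (hL : Ctn H L)
    (j : X →ₗ[A] L) (hj : ∀ (Q : Type u) [AddCommGroup Q] [Module A Q], Function.Injective (j.rTensor Q)) :
    HasSocle A X := by
  classical
  intro Q' _ _ z hz hmin
  -- content over `H`
  let e : ∀ (Q : Type u) [AddCommGroup Q] [Module A Q], L ⊗[H] (H ⊗[A] Q) ≃ₗ[H] L ⊗[A] Q := fun Q _ _ =>
    AlgebraTensorModule.cancelBaseChange A H H L Q
  have he : ∀ {Q₁ Q₂ : Type u} [AddCommGroup Q₁] [Module A Q₁] [AddCommGroup Q₂] [Module A Q₂] (f : Q₁ →ₗ[A] Q₂)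
      (y : L ⊗[H] (H ⊗[A] Q₁)), e Q₂ ((f.baseChange H).lTensor L y) = f.lTensor L (e Q₁ y) := by
    intro Q₁ Q₂ _ _ _ _ f y
    induction y using TensorProduct.induction_on with
    | zero => simp
    | tmul l p =>
      induction p using TensorProduct.induction_on with
      | zero => simp
      | tmul h q => simp [e]
      | add a b ha hb => simp only [tmul_add, map_add, ha, hb]
    | add a b ha hb => simp only [map_add, ha, hb]
  let ζ : L ⊗[H] (H ⊗[A] Q') := (e Q').symm (j.rTensor Q' z)
  have hζ : ζ ≠ 0 := fun h => hz (hj Q' (by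
    rw [map_zero, show j.rTensor Q' z = e Q' ζ from ((e Q').apply_symm_apply _).symm, h, map_zero]))
  obtain ⟨S, hS⟩ := TensorProduct.exists_finset ζ
  let r := S.card
  let es := S.equivFin
  let x : Fin r → L := fun i => (es.symm i).1.1
  let φ : (Fin r → H) →ₗ[H] H ⊗[A] Q' := Fintype.linearCombination H fun i => (es.symm i).1.2
  have hres : ∀ {Y : Type u} [AddCommGroup Y] [Module H Y] (g : H ⊗[A] Q' →ₗ[H] Y),
      g.lTensor L ζ = ((LinearMap.ker (g ∘ₗ φ)).liftQ (g ∘ₗ φ) le_rfl).lTensor L (res (LinearMap.ker (g ∘ₗ φ)) x) := by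
    intro Y _ _ g
    rw [hS, map_sum, ← Finset.sum_coe_sort, ← es.symm.sum_comp]
    simp [res, map_sum, x, φ, Fintype.linearCombination_apply_single]
    rfl
  obtain ⟨V, -, hV⟩ := hL r x
  have hV' : ∀ W' : Submodule A Q', W' ≠ ⊥ → V ≤ LinearMap.ker (W'.mkQ.baseChange H ∘ₗ φ) := by
    intro W' hW'
    refine (hV _).1 (Module.Flat.lTensor_preserves_injective_linearMap _
      (LinearMap.ker_eq_bot.1 (Submodule.ker_liftQ_eq_bot _ _ le_rfl le_rfl)) ?_)
    rw [map_zero, ← hres]
    apply (e _).injective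
    rw [he, map_zero, LinearEquiv.apply_symm_apply, ← LinearMap.comp_apply, LinearMap.lTensor_comp_rTensor,
      ← LinearMap.rTensor_comp_lTensor, LinearMap.comp_apply, hmin W' hW', map_zero]
  obtain ⟨v₀, hv₀, hv₀'⟩ : ∃ v₀ ∈ V, φ v₀ ≠ 0 := by
    by_contra hcon
    push Not at hcon
    refine hζ ?_
    have h := hres (LinearMap.id : H ⊗[A] Q' →ₗ[H] _)
    rw [LinearMap.lTensor_id, LinearMap.id_apply] at h
    rw [h, (hV _).2 fun v hv => by simpa using hcon v hv, map_zero]
  obtain ⟨q, hq, hkill⟩ := exists_socle hmap hst (φ v₀) hv₀' fun q hq => by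
    have h0 : (Submodule.span A {q}).mkQ.lTensor H (φ v₀) = 0 :=
      hV' (Submodule.span A {q}) (fun h => hq ((Submodule.span_singleton_eq_bot).1 h)) hv₀
    obtain ⟨y, hy⟩ := (lTensor_exact H (LinearMap.exact_subtype_mkQ _) (Submodule.mkQ_surjective _) (φ v₀)).1 h0
    obtain ⟨θ, hθ⟩ := exists_tmul_of_mem_span q y
    exact ⟨θ, hy.symm.trans hθ.symm⟩
  exact ⟨q, hq, hkill⟩

/-- universal injectivity from the socle property -/
theorem injective_of_socle {A : Type u} [CommRing A] [IsLocalRing A] {X : Type u} [AddCommGroup X] [Module A X]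
    (hX : HasSocle A X)
    {M : Type u} [AddCommGroup M] [Module A M] [Module.Flat A M] (u : X →ₗ[A] M)
    (hu : ∀ x, u x ∈ 𝔪 A • (⊤ : Submodule A M) → x ∈ 𝔪 A • (⊤ : Submodule A X))
    (Q : Type u) [AddCommGroup Q] [Module A Q] : Function.Injective (u.rTensor Q) := by
  classical
  rw [injective_iff_map_eq_zero]
  intro z₀ hz₀
  by_contra hne
  obtain ⟨W, hzW, hWmax⟩ := exists_maximal_survive z₀ hne
  let Q' := Q ⧸ W
  let z : X ⊗[A] Q' := W.mkQ.lTensor X z₀
  have huz : u.rTensor Q' z = 0 := by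
    simp only [z, Q']
    rw [← LinearMap.comp_apply, LinearMap.rTensor_comp_lTensor, ← LinearMap.lTensor_comp_rTensor,
      LinearMap.comp_apply, hz₀, map_zero]
  have hmin : ∀ W' : Submodule A Q', W' ≠ ⊥ → W'.mkQ.lTensor X z = 0 := by
    intro W' hW'
    let W'' := W'.comap W.mkQ
    have hlt : W < W'' := by
      refine lt_of_le_of_ne (Submodule.le_comap_mkQ W W') fun h => hW' ?_
      rw [← Submodule.map_comap_eq_of_surjective (Submodule.mkQ_surjective W) W']
      change Submodule.map W.mkQ W'' = ⊥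
      rw [← h, Submodule.mkQ_map_self]
    let p : Q ⧸ W'' →ₗ[A] Q' ⧸ W' := W''.mapQ W' W.mkQ le_rfl
    have := congrArg (p.lTensor X) (hWmax W'' hlt)
    rw [map_zero, ← LinearMap.lTensor_comp_apply] at this
    rw [← LinearMap.lTensor_comp_apply]
    exact this
  have hdec : ∀ q : Q', q ≠ 0 → ∃ y, (Submodule.span A {q}).subtype.lTensor X y = z := fun q hq =>
    (lTensor_exact X (LinearMap.exact_subtype_mkQ _) (Submodule.mkQ_surjective _) z).1
      (hmin _ fun h => hq ((Submodule.span_singleton_eq_bot).1 h))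
  -- no socle
  have hsoc : ∀ q : Q', q ≠ 0 → ¬ ∀ a ∈ 𝔪 A, a • q = 0 := by
    intro q hq hk
    obtain ⟨y, hy⟩ := hdec q hq
    refine hzW ?_
    change z = 0
    rw [← hy]
    have hk' : ∀ a ∈ 𝔪 A, ∀ v : ↥(Submodule.span A {q}), a • v = 0 := by
      rintro a ha ⟨v, hv⟩
      obtain ⟨c, rfl⟩ := Submodule.mem_span_singleton.1 hv
      ext
      change a • c • q = 0
      rw [smul_comm, hk a ha, smul_zero]
    rw [show y = 0 from rTensor_injective_of_killed u hu _ hk' ?_, map_zero]
    rw [map_zero]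
    apply Module.Flat.lTensor_preserves_injective_linearMap (M := M) _ (Submodule.span A {q}).injective_subtype
    rw [← LinearMap.comp_apply, LinearMap.lTensor_comp_rTensor, ← LinearMap.rTensor_comp_lTensor,
      LinearMap.comp_apply, hy, huz, map_zero]
  obtain ⟨q, hq, hkill⟩ := hX Q' z hzW hmin
  exact hsoc q hq hkill

theorem smul_top_le_map {A H Y : Type u} [CommRing A] [IsLocalRing A] [CommRing H] [IsLocalRing H] [Algebra A H]
    (hmap : (𝔪 A).map (algebraMap A H) = 𝔪 H) [AddCommGroup Y] [Module A Y] [Module H Y] [IsScalarTower A H Y]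
    (y : Y) (hy : y ∈ 𝔪 A • (⊤ : Submodule A Y)) : y ∈ 𝔪 H • (⊤ : Submodule H Y) := by
  refine Submodule.smul_induction_on hy (fun a ha y _ => ?_) fun _ _ => add_mem
  rw [← algebraMap_smul H a y]
  exact Submodule.smul_mem_smul (hmap ▸ Ideal.mem_map_of_mem _ ha) trivial

theorem tmul_mem_smul_top {H R W N' : Type u} [CommRing H] [IsLocalRing H] [CommRing R] [Algebra H R]
    [AddCommGroup N'] [Module R N'] [Module H N'] [IsScalarTower H R N'] [CommRing W] [Algebra R W] [Algebra H W]
    [IsScalarTower H R W] (x n' : N') (hxn : x - n' ∈ 𝔪 H • (⊤ : Submodule H N'))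
    (h1 : (1 : W) ⊗ₜ[R] n' ∈ 𝔪 H • (⊤ : Submodule H (W ⊗[R] N'))) (w : W) :
    w ⊗ₜ[R] x ∈ 𝔪 H • (⊤ : Submodule H (W ⊗[R] N')) := by
  have hmT : ∀ {Y : Type u} [AddCommGroup Y] [Module H Y] (f : Y →ₗ[H] W ⊗[R] N') (y : Y),
      y ∈ 𝔪 H • (⊤ : Submodule H Y) → f y ∈ 𝔪 H • (⊤ : Submodule H (W ⊗[R] N')) := fun f y hy => by
    have := Submodule.mem_map_of_mem (f := f) hy
    rw [Submodule.map_smul''] at this
    exact Submodule.smul_mono le_rfl le_top this
  let gw : W ⊗[R] N' →ₗ[H] W ⊗[R] N' :=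
    { toFun := fun y => w • y, map_add' := smul_add w, map_smul' := fun c y => smul_comm w c y }
  have e1 : w ⊗ₜ[R] x = w ⊗ₜ[R] (x - n') + gw ((1 : W) ⊗ₜ[R] n') := by
    simp [gw, smul_tmul', ← tmul_add]
  rw [e1]
  exact add_mem (hmT ((TensorProduct.mk R W N' w).restrictScalars H) _ hxn) (hmT gw _ h1)

section main

attribute [local instance] Algebra.TensorProduct.rightAlgebra

/-- relations die in the local ring of the base change -/
theorem relFlat_tensor {A H S R W : Type u} [CommRing A] [IsLocalRing A] [CommRing H] [IsLocalRing H] [Algebra A H]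
    [Module.FaithfullyFlat A H] (hmap : (𝔪 A).map (algebraMap A H) = 𝔪 H)
    (hres : ∀ h : H, ∃ a : A, h - algebraMap A H a ∈ 𝔪 H) [CommRing S] [Algebra A S] (q : Ideal S) [q.IsPrime]
    [CommRing R] [Algebra A R] [Algebra H R] [Algebra S R] [IsScalarTower A H R] [IsScalarTower A S R]
    [Algebra.IsPushout A H S R] [CommRing W] [Algebra A W] [Algebra H W] [Algebra S W] [Algebra R W]
    [IsScalarTower A H W] [IsScalarTower H R W] [IsScalarTower S R W] [IsScalarTower A S W] [Module.Flat R W]
    (N : Type u) [AddCommGroup N] [Module S N] [Module A N] [IsScalarTower A S N] {M : Type u} [AddCommGroup M]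
    [Module A M] [Module.Flat A M] (u : LocalizedModule q.primeCompl N →ₗ[A] M)
    (hu : ∀ x, u x ∈ 𝔪 A • (⊤ : Submodule A M) → x ∈ 𝔪 A • (⊤ : Submodule A (LocalizedModule q.primeCompl N)))
    (j : LocalizedModule q.primeCompl N →ₗ[A] W ⊗[S] N)
    (hjn : ∀ n, j (LocalizedModule.mkLinearMap q.primeCompl N n) = 1 ⊗ₜ n) :
    RelFlat H (W ⊗[R] (R ⊗[S] N)) := by
  let N' := R ⊗[S] N
  -- the map on the base change
  let ec : N' ≃ₗ[H] H ⊗[A] N := Algebra.IsPushout.cancelBaseChange A H S R N
  have hec : ∀ n : N, ec.symm (1 ⊗ₜ n) = 1 ⊗ₜ n := fun n =>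
    ec.symm_apply_eq.2 (Algebra.IsPushout.cancelBaseChange_tmul A H S R N n).symm
  let un : N →ₗ[A] M := u ∘ₗ (LocalizedModule.mkLinearMap q.primeCompl N).restrictScalars A
  let u₀ : N' →ₗ[H] H ⊗[A] M := un.baseChange H ∘ₗ ec.toLinearMap
  have hgen : ∀ y : H ⊗[A] N, ∃ n : N, y - 1 ⊗ₜ n ∈ 𝔪 H • (⊤ : Submodule H (H ⊗[A] N)) := by
    intro y
    induction y using TensorProduct.induction_on with
    | zero => exact ⟨0, by simp⟩
    | tmul h n =>
      obtain ⟨a, ha⟩ := hres h
      refine ⟨a • n, ?_⟩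
      rw [show h ⊗ₜ[A] n - 1 ⊗ₜ (a • n) = (h - algebraMap A H a) • ((1 : H) ⊗ₜ[A] n) by
        rw [smul_tmul', smul_eq_mul, mul_one, sub_tmul, Algebra.algebraMap_eq_smul_one, smul_tmul]]
      exact Submodule.smul_mem_smul ha trivial
    | add a b ha hb =>
      obtain ⟨na, ha⟩ := ha
      obtain ⟨nb, hb⟩ := hb
      exact ⟨na + nb, by rw [tmul_add, add_sub_add_comm]; exact add_mem ha hb⟩
  have hmT : ∀ {Y Z : Type u} [AddCommGroup Y] [Module H Y] [AddCommGroup Z] [Module H Z] (f : Y →ₗ[H] Z) (y : Y),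
      y ∈ 𝔪 H • (⊤ : Submodule H Y) → f y ∈ 𝔪 H • (⊤ : Submodule H Z) := fun f y hy => by
    have := Submodule.mem_map_of_mem (f := f) hy
    rw [Submodule.map_smul''] at this
    exact Submodule.smul_mono le_rfl le_top this
  have hkillH : ∀ (V : Type u) [AddCommGroup V] [Module A V], (∀ a ∈ 𝔪 A, ∀ v : V, a • v = 0) →
      ∀ y ∈ 𝔪 H • (⊤ : Submodule H (H ⊗[A] V)), y = 0 := by
    intro V _ _ hV y hy
    rw [← Submodule.mem_bot H]
    refine Submodule.smul_le.2 (fun h hh v _ => ?_) hy
    rw [Submodule.mem_bot]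
    rw [← hmap] at hh
    induction hh using Submodule.span_induction with
    | mem h hh =>
      obtain ⟨a, ha, rfl⟩ := hh
      rw [algebraMap_smul]
      induction v using TensorProduct.induction_on with
      | zero => rw [smul_zero]
      | tmul x v => rw [← tmul_smul, hV a ha, tmul_zero]
      | add x y hx hy => rw [smul_add, hx trivial, hy trivial, add_zero]
    | zero => rw [zero_smul]
    | add x y _ _ hx hy => rw [add_smul, hx, hy, add_zero]
    | smul c x _ hx => rw [smul_eq_mul, mul_smul, hx, smul_zero]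
  refine RelFlat.baseChange_map W u₀ fun x hx w => ?_
  obtain ⟨n, hn⟩ := hgen (ec x)
  have hxn : x - 1 ⊗ₜ n ∈ 𝔪 H • (⊤ : Submodule H N') := by
    have := hmT ec.symm.toLinearMap _ hn
    simpa [hec] using this
  have hmem : u₀ (1 ⊗ₜ n) ∈ 𝔪 H • (⊤ : Submodule H (H ⊗[A] M)) := by
    have := sub_mem hx (hmT u₀ _ hxn)
    rwa [map_sub, sub_sub_cancel] at this
  have hM : un n ∈ 𝔪 A • (⊤ : Submodule A M) := by
    rw [← Submodule.Quotient.mk_eq_zero]
    let p := (𝔪 A • (⊤ : Submodule A M)).mkQ
    apply Module.FaithfullyFlat.tensorProduct_mk_injective (A := A) (B := H) (M ⧸ (𝔪 A • (⊤ : Submodule A M)))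
    rw [map_zero]
    have h1 := hkillH _ (quot_top_killed le_rfl) _ (hmT (p.baseChange H) _ hmem)
    have h2 : u₀ (1 ⊗ₜ n) = (1 : H) ⊗ₜ[A] un n := by
      simp only [u₀, LinearMap.comp_apply, LinearEquiv.coe_coe]
      rw [← hec n, LinearEquiv.apply_symm_apply, LinearMap.baseChange_tmul]
    rw [h2, LinearMap.baseChange_tmul] at h1
    exact h1
  have hX := hu _ hM
  have hL : (1 : W) ⊗ₜ[S] n ∈ 𝔪 A • (⊤ : Submodule A (W ⊗[S] N)) := by
    have := Submodule.mem_map_of_mem (f := j) hX
    rw [Submodule.map_smul''] at this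
    rw [← hjn]
    exact Submodule.smul_mono le_rfl le_top this
  let ecL : W ⊗[R] N' ≃ₗ[W] W ⊗[S] N := AlgebraTensorModule.cancelBaseChange S R W W N
  have hL' : (1 : W) ⊗ₜ[R] ((1 : R) ⊗ₜ[S] n) ∈ 𝔪 H • (⊤ : Submodule H (W ⊗[R] N')) := by
    let f : W ⊗[S] N →ₗ[H] W ⊗[R] N' := (ecL.symm.restrictScalars H).toLinearMap
    have hf : f ((1 : W) ⊗ₜ[S] n) = (1 : W) ⊗ₜ[R] ((1 : R) ⊗ₜ[S] n) :=
      ecL.symm_apply_eq.2 (by
        erw [AlgebraTensorModule.cancelBaseChange_tmul, one_smul])
    rw [← hf]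
    apply hmT
    exact smul_top_le_map hmap _ hL
  exact tmul_mem_smul_top x _ hxn hL' w

/-- the main theorem, over an abstract base change -/
theorem main_abs {A : Type u} [CommRing A] [IsLocalRing A] {H : Type u} [CommRing H] [HenselianLocalRing H]
    [Algebra A H] [Module.Flat A H] [IsLocalHom (algebraMap A H)] (hmap : (𝔪 A).map (algebraMap A H) = 𝔪 H)
    (hres : ∀ h : H, ∃ a : A, h - algebraMap A H a ∈ 𝔪 H) (hst : HasStages A H)
    {S : Type u} [CommRing S] [Algebra A S] [Algebra.FinitePresentation A S] (q : Ideal S) [q.IsPrime]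
    [q.LiesOver (𝔪 A)] (N : Type u) [AddCommGroup N] [Module S N] [Module A N] [IsScalarTower A S N]
    [Module.FinitePresentation S N] {M : Type u} [AddCommGroup M] [Module A M] [Module.Flat A M]
    (u : LocalizedModule q.primeCompl N →ₗ[A] M)
    (hu : ∀ x, u x ∈ 𝔪 A • (⊤ : Submodule A M) → x ∈ 𝔪 A • (⊤ : Submodule A (LocalizedModule q.primeCompl N)))
    (R : Type u) [CommRing R] [Algebra A R] [Algebra H R] [Algebra S R] [IsScalarTower A H R] [IsScalarTower A S R]
    [Algebra.IsPushout A H S R] [Algebra.FinitePresentation H R] [Module.Flat S R] (q' : Ideal R) [q'.IsPrime]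
    [q'.LiesOver (IsLocalRing.maximalIdeal H)] (hq' : q'.comap (algebraMap S R) = q) :
    Module.Flat A (LocalizedModule q.primeCompl N) ∧ HasSocle A (LocalizedModule q.primeCompl N) := by
  let N' := R ⊗[S] N
  haveI : Module.FaithfullyFlat A H := Module.FaithfullyFlat.of_flat_of_isLocalHom
  let W := Localization.AtPrime q'
  haveI : Module.Flat S W := Module.Flat.trans S R W
  have hWq : (𝔪 W).comap (algebraMap S W) = q := by
    rw [IsScalarTower.algebraMap_eq S R W, ← Ideal.comap_comap,
      show (𝔪 W).comap (algebraMap R W) = q' from IsLocalization.AtPrime.comap_maximalIdeal W q']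
    exact hq'
  obtain ⟨j, hjn, hj⟩ := pure_to_local (A := A) q N W hWq
  haveI : IsScalarTower A H W := IsScalarTower.to₁₂₄ A H R W
  have hrel : RelFlat H (W ⊗[R] N') := relFlat_tensor hmap hres q N u hu j hjn
  let eL : LocalizedModule q'.primeCompl N' ≃ₗ[H] W ⊗[S] N :=
    (((LocalizedModule.equivTensorProduct q'.primeCompl N').restrictScalars H).trans
      ((AlgebraTensorModule.cancelBaseChange S R W W N).restrictScalars H))
  have hrel' : RelFlat H (LocalizedModule q'.primeCompl N') :=
    hrel.of_equiv ((LocalizedModule.equivTensorProduct q'.primeCompl N').restrictScalars H)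
  obtain ⟨hflat, hctn⟩ := good_any (A := H) q' N' hrel'
  haveI : Module.Flat H (W ⊗[S] N) := Module.Flat.of_linearEquiv eL.symm
  haveI : Module.Flat A (W ⊗[S] N) := Module.Flat.trans A H (W ⊗[S] N)
  exact ⟨flat_of_pure j hj, hasSocle_of_content hmap hst (hctn.of_equiv eL.symm) j hj⟩

/-- the main theorem, with the henselization abstracted -/
theorem main_aux {A : Type u} [CommRing A] [IsLocalRing A] {H : Type u} [CommRing H] [HenselianLocalRing H]
    [Algebra A H] [Module.Flat A H] [IsLocalHom (algebraMap A H)] (hmap : (𝔪 A).map (algebraMap A H) = 𝔪 H)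
    (hres : ∀ h : H, ∃ a : A, h - algebraMap A H a ∈ 𝔪 H) (hst : HasStages A H)
    {S : Type u} [CommRing S] [Algebra A S] [Algebra.FinitePresentation A S] (q : Ideal S) [q.IsPrime]
    [q.LiesOver (𝔪 A)] (N : Type u) [AddCommGroup N] [Module S N] [Module A N] [IsScalarTower A S N]
    [Module.FinitePresentation S N] {M : Type u} [AddCommGroup M] [Module A M] [Module.Flat A M]
    (u : LocalizedModule q.primeCompl N →ₗ[A] M)
    (hu : ∀ x, u x ∈ 𝔪 A • (⊤ : Submodule A M) → x ∈ 𝔪 A • (⊤ : Submodule A (LocalizedModule q.primeCompl N))) :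
    Module.Flat A (LocalizedModule q.primeCompl N) ∧ HasSocle A (LocalizedModule q.primeCompl N) := by
  let R := H ⊗[A] S
  haveI : Module.Flat S R := Module.Flat.of_linearEquiv (Algebra.TensorProduct.commRight A S H).symm.toLinearEquiv
  -- the prime
  have hbij : Function.Bijective (Ideal.quotientMap (𝔪 H) (algebraMap A H)
      (Ideal.map_le_iff_le_comap.1 hmap.le)) := by
    letI := Ideal.Quotient.field (𝔪 A)
    refine ⟨RingHom.injective _, fun y => ?_⟩
    obtain ⟨h, rfl⟩ := Ideal.Quotient.mk_surjective y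
    obtain ⟨a, ha⟩ := hres h
    exact ⟨Ideal.Quotient.mk _ a, (Ideal.Quotient.mk_eq_mk_iff_sub_mem _ _).2 (by
      rw [← neg_sub, neg_mem_iff]; exact ha)⟩
  let ρ₀ : (A ⧸ 𝔪 A) →+* q.ResidueField := Ideal.Quotient.lift (𝔪 A) (algebraMap A q.ResidueField) fun a ha => by
    rw [IsScalarTower.algebraMap_apply A S q.ResidueField, Ideal.algebraMap_residueField_eq_zero]
    exact (Ideal.mem_of_liesOver q (𝔪 A) a).1 ha
  let ρ : H →ₐ[A] q.ResidueField :=
    { (ρ₀.comp (RingEquiv.ofBijective _ hbij).symm.toRingHom).comp (Ideal.Quotient.mk (𝔪 H)) with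
      commutes' := fun a => by
        change ρ₀ ((RingEquiv.ofBijective _ hbij).symm (Ideal.Quotient.mk (𝔪 H) (algebraMap A H a))) = _
        rw [show Ideal.Quotient.mk (𝔪 H) (algebraMap A H a) =
          RingEquiv.ofBijective _ hbij (Ideal.Quotient.mk (𝔪 A) a) from rfl, RingEquiv.symm_apply_apply]
        rfl }
  let ψ : R →ₐ[A] q.ResidueField :=
    Algebra.TensorProduct.lift ρ (IsScalarTower.toAlgHom A S q.ResidueField) fun _ _ => Commute.all _ _
  let q' : Ideal R := RingHom.ker ψ.toRingHom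
  haveI : q'.IsPrime := RingHom.ker_isPrime _
  haveI : q'.LiesOver (𝔪 H) := ⟨by
    refine ((IsLocalRing.maximalIdeal.isMaximal H).eq_of_le (Ideal.IsPrime.under H q').ne_top fun h hh => ?_)
    change ψ (h ⊗ₜ 1) = 0
    have : ρ h = 0 := by
      change ρ₀ ((RingEquiv.ofBijective _ hbij).symm (Ideal.Quotient.mk (𝔪 H) h)) = 0
      rw [Ideal.Quotient.eq_zero_iff_mem.2 hh, map_zero, map_zero]
    simp only [ψ]
    rw [Algebra.TensorProduct.lift_tmul, this, zero_mul]⟩
  refine main_abs hmap hres hst q N u hu R q' ?_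
  ext s
  change ψ ((1 : H) ⊗ₜ s) = 0 ↔ s ∈ q
  simp only [ψ]
  rw [Algebra.TensorProduct.lift_tmul, map_one, one_mul]
  exact Ideal.algebraMap_residueField_eq_zero

end main

set_option backward.isDefEq.respectTransparency true in
/-- flatness and the socle property -/
theorem main_socle {A : Type u} [CommRing A] [IsLocalRing A]
    {S : Type u} [CommRing S] [Algebra A S] [Algebra.FinitePresentation A S] (q : Ideal S) [q.IsPrime]
    [q.LiesOver (𝔪 A)] (N : Type u) [AddCommGroup N] [Module S N] [Module A N] [IsScalarTower A S N]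
    [Module.FinitePresentation S N] {M : Type u} [AddCommGroup M] [Module A M] [Module.Flat A M]
    (u : LocalizedModule q.primeCompl N →ₗ[A] M)
    (hu : ∀ x, u x ∈ 𝔪 A • (⊤ : Submodule A M) → x ∈ 𝔪 A • (⊤ : Submodule A (LocalizedModule q.primeCompl N))) :
    Module.Flat A (LocalizedModule q.primeCompl N) ∧ HasSocle A (LocalizedModule q.primeCompl N) := by
  haveI := Hensel.flat_env A (IsLocalRing.ResidueField A)
  haveI := Hensel.henselian_env A (IsLocalRing.ResidueField A)
  haveI := Hensel.isLocalHom_env A (IsLocalRing.ResidueField A)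
  refine main_aux (H := Hensel.Env A (IsLocalRing.ResidueField A))
    (Hensel.map_maximalIdeal_env A (IsLocalRing.ResidueField A)) (fun h => ?_) (hasStages_env A) q N u hu
  obtain ⟨r, hr⟩ := IsLocalRing.residue_surjective (Hensel.envRes A (IsLocalRing.ResidueField A) h)
  refine ⟨r, (Hensel.envRes_eq_zero_iff A _ _).1 ?_⟩
  rw [map_sub, AlgHom.commutes, ← hr, IsLocalRing.ResidueField.algebraMap_eq, sub_self]

set_option backward.isDefEq.respectTransparency true in
/-- the main theorem -/
theorem main {A : Type u} [CommRing A] [IsLocalRing A]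
    {S : Type u} [CommRing S] [Algebra A S] [Algebra.FinitePresentation A S] (q : Ideal S) [q.IsPrime]
    [q.LiesOver (𝔪 A)] (N : Type u) [AddCommGroup N] [Module S N] [Module A N] [IsScalarTower A S N]
    [Module.FinitePresentation S N] {M : Type u} [AddCommGroup M] [Module A M] [Module.Flat A M]
    (u : LocalizedModule q.primeCompl N →ₗ[A] M)
    (hu : ∀ x, u x ∈ 𝔪 A • (⊤ : Submodule A M) → x ∈ 𝔪 A • (⊤ : Submodule A (LocalizedModule q.primeCompl N))) :
    Module.Flat A (LocalizedModule q.primeCompl N) ∧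
      ∀ (Q : Type u) [AddCommGroup Q] [Module A Q], Function.Injective (u.rTensor Q) := by
  obtain ⟨h1, h2⟩ := main_socle q N u hu
  exact ⟨h1, fun Q _ _ => injective_of_socle h2 u hu Q⟩

end Groth.Agent.RG
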