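import Groth.Agent.RG.Content
import Mathlib.RingTheory.Flat.FaithfullyFlat.Algebra
import Mathlib.RingTheory.Flat.Equalizer

/-!
# Relations modulo `m`

`RelFlat A X`: for every finitely generated ideal `J`, a relation in the kernel of `X ⊗ J → X`
dies in `X ⊗ J/mJ`.  This is what survives in a source of a map to a flat module that is injective
on the closed fibre, and, unlike that hypothesis, it can be pushed through flat base change.
-/

set_option autoImplicit false
set_option linter.style.haveILetI false

universe u

open TensorProduct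

namespace Groth.Agent.RG

variable {A : Type u} [CommRing A] [IsLocalRing A]

local notation "𝔪" => IsLocalRing.maximalIdeal A

/-- relations die modulo `m` -/
def RelFlat (A : Type u) [CommRing A] [IsLocalRing A] (X : Type u) [AddCommGroup X] [Module A X] : Prop :=
  ∀ J : Ideal A, J.FG → ∀ z : X ⊗[A] J, J.subtype.lTensor X z = 0 →
    ((IsLocalRing.maximalIdeal A • (⊤ : Submodule A J)).mkQ).lTensor X z = 0

theorem quot_smul_top_killed {V : Type u} [AddCommGroup V] [Module A V] :
    ∀ a ∈ 𝔪, ∀ v : V ⧸ (𝔪 • (⊤ : Submodule A V)), a • v = 0 := by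
  intro a ha v
  obtain ⟨v, rfl⟩ := Submodule.mkQ_surjective _ v
  rw [← map_smul, Submodule.mkQ_apply, Submodule.Quotient.mk_eq_zero]
  exact Submodule.smul_mem_smul ha trivial

/-- a map which is injective on the closed fibre is injective after tensoring with modules killed by `m` -/
theorem rTensor_injective_of_killed {X M : Type u} [AddCommGroup X] [Module A X] [AddCommGroup M] [Module A M]
    (u : X →ₗ[A] M)
    (hu : ∀ x, u x ∈ 𝔪 • (⊤ : Submodule A M) → x ∈ 𝔪 • (⊤ : Submodule A X))
    (V : Type u) [AddCommGroup V] [Module A V] (hV : ∀ a ∈ 𝔪, ∀ v : V, a • v = 0) :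
    Function.Injective (u.rTensor V) := by
  rw [← LinearMap.lTensor_inj_iff_rTensor_inj]
  exact LocalCrit.lTensor_injective_of_killed u ((LocalCrit.quot_lTensor_injective_iff _ u).2 hu) V hV

theorem RelFlat.of_map {X M : Type u} [AddCommGroup X] [Module A X] [AddCommGroup M] [Module A M]
    [Module.Flat A M] (u : X →ₗ[A] M)
    (hu : ∀ x, u x ∈ 𝔪 • (⊤ : Submodule A M) → x ∈ 𝔪 • (⊤ : Submodule A X)) : RelFlat A X := by
  intro J _ z hz
  have h1 : u.rTensor J z = 0 := by
    apply Module.Flat.lTensor_preserves_injective_linearMap (M := M) J.subtype J.injective_subtype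
    rw [← LinearMap.comp_apply, LinearMap.lTensor_comp_rTensor, ← LinearMap.rTensor_comp_lTensor,
      LinearMap.comp_apply, hz, map_zero, map_zero]
  apply rTensor_injective_of_killed u hu _ quot_smul_top_killed
  rw [← LinearMap.comp_apply, LinearMap.rTensor_comp_lTensor, ← LinearMap.lTensor_comp_rTensor,
    LinearMap.comp_apply, h1, map_zero, map_zero]

theorem RelFlat.of_flat {X : Type u} [AddCommGroup X] [Module A X] [Module.Flat A X] : RelFlat A X :=
  RelFlat.of_map LinearMap.id fun _ h => h

theorem RelFlat.of_equiv {X Y : Type u} [AddCommGroup X] [Module A X] [AddCommGroup Y] [Module A Y]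
    (e : X ≃ₗ[A] Y) (h : RelFlat A Y) : RelFlat A X := by
  intro J hJ z hz
  have h1 : J.subtype.lTensor Y (e.toLinearMap.rTensor J z) = 0 := by
    rw [← LinearMap.comp_apply, LinearMap.lTensor_comp_rTensor, ← LinearMap.rTensor_comp_lTensor,
      LinearMap.comp_apply, hz, map_zero]
  have h2 := h J hJ _ h1
  rw [← LinearMap.comp_apply, LinearMap.lTensor_comp_rTensor, ← LinearMap.rTensor_comp_lTensor,
    LinearMap.comp_apply] at h2
  exact (e.rTensor _).injective (h2.trans (map_zero _).symm)

/-- base change along a flat algebra preserves `RelFlat` -/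
theorem RelFlat.baseChange {R : Type u} [CommRing R] [Algebra A R] {X : Type u} [AddCommGroup X] [Module R X]
    [Module A X] [IsScalarTower A R X] (W : Type u) [CommRing W] [Algebra R W] [Algebra A W]
    [IsScalarTower A R W] [Module.Flat R W] (h : RelFlat A X) : RelFlat A (W ⊗[R] X) := by
  intro J hJ z hz
  obtain ⟨z', rfl⟩ := (AlgebraTensorModule.assoc A R R W X J).symm.surjective z
  have hcomm : ∀ {V : Type u} [AddCommGroup V] [Module A V] (f : J →ₗ[A] V) (z' : W ⊗[R] (X ⊗[A] J)),
      AlgebraTensorModule.assoc A R R W X V (f.lTensor (W ⊗[R] X) ((AlgebraTensorModule.assoc A R R W X J).symm z')) =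
        (AlgebraTensorModule.lTensor R X f).lTensor W z' := by
    intro V _ _ f z'
    induction z' using TensorProduct.induction_on with
    | zero => simp
    | tmul w y =>
      induction y using TensorProduct.induction_on with
      | zero => simp
      | tmul x j => simp
      | add a b ha hb => simp only [tmul_add, map_add, ha, hb]
    | add a b ha hb => simp only [map_add, ha, hb]
  have h0 : (AlgebraTensorModule.lTensor R X J.subtype).lTensor W z' = 0 := by
    rw [← hcomm, hz, map_zero]
  obtain ⟨k, rfl⟩ := ((Module.Flat.lTensor_exact W (LinearMap.exact_subtype_ker_map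
    (AlgebraTensorModule.lTensor R X J.subtype))) z').1 h0
  apply (AlgebraTensorModule.assoc A R R W X _).injective
  rw [hcomm, map_zero, ← LinearMap.comp_apply, ← LinearMap.lTensor_comp]
  convert LinearMap.zero_apply k
  convert LinearMap.lTensor_zero W
  refine LinearMap.ext fun y => ?_
  exact h J hJ y.1 y.2

omit [IsLocalRing A] in
/-- `X → W ⊗ X` is universally injective over `A` for `W` faithfully flat -/
theorem pure_mk {R : Type u} [CommRing R] [Algebra A R] {X : Type u} [AddCommGroup X] [Module R X]
    [Module A X] [IsScalarTower A R X] (W : Type u) [CommRing W] [Algebra R W] [Algebra A W]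
    [IsScalarTower A R W] [Module.FaithfullyFlat R W] (Q : Type u) [AddCommGroup Q] [Module A Q] :
    Function.Injective (((TensorProduct.mk R W X 1).restrictScalars A).rTensor Q) := by
  refine Function.Injective.of_comp (f := AlgebraTensorModule.assoc A R R W X Q) ?_
  have : ∀ z : X ⊗[A] Q, AlgebraTensorModule.assoc A R R W X Q
      (((TensorProduct.mk R W X 1).restrictScalars A).rTensor Q z) = TensorProduct.mk R W (X ⊗[A] Q) 1 z := by
    intro z
    induction z using TensorProduct.induction_on with
    | zero => simp
    | tmul x q => simp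
    | add a b ha hb => simp only [map_add, ha, hb]
  intro a b hab
  simp only [Function.comp_apply, this] at hab
  exact Module.FaithfullyFlat.tensorProduct_mk_injective (A := R) (B := W) _ hab

omit [IsLocalRing A] in
/-- a universally injective submodule of a flat module is flat -/
theorem flat_of_pure {X Y : Type u} [AddCommGroup X] [Module A X] [AddCommGroup Y] [Module A Y]
    [Module.Flat A Y] (j : X →ₗ[A] Y)
    (hj : ∀ (Q : Type u) [AddCommGroup Q] [Module A Q], Function.Injective (j.rTensor Q)) :
    Module.Flat A X := by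
  refine Module.Flat.iff_lTensor_injective'.2 fun J => ?_
  refine Function.Injective.of_comp (f := j.rTensor A) ?_
  rw [← LinearMap.coe_comp, LinearMap.rTensor_comp_lTensor, ← LinearMap.lTensor_comp_rTensor, LinearMap.coe_comp]
  exact (Module.Flat.lTensor_preserves_injective_linearMap _ J.injective_subtype).comp (hj J)

/-- The one-step lemma: a map `α` from a flat module with contents, injective on the closed fibre, into a
module with `RelFlat` is injective, has cokernel with `RelFlat`, and if that cokernel is flat, so is the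
target. -/
theorem RelFlat.step {F Y Z : Type u} [AddCommGroup F] [Module A F] [Module.Flat A F] [AddCommGroup Y]
    [Module A Y] [AddCommGroup Z] [Module A Z] (hF : Ctn A F) (α : F →ₗ[A] Y) (β : Y →ₗ[A] Z)
    (hex : Function.Exact α β) (hβ : Function.Surjective β)
    (hα : ∀ c, α c ∈ 𝔪 • (⊤ : Submodule A Y) → c ∈ 𝔪 • (⊤ : Submodule A F)) (hY : RelFlat A Y) :
    Function.Injective α ∧ RelFlat A Z ∧
      (Module.Flat A Z → Module.Flat A Y ∧
        ∀ (Q : Type u) [AddCommGroup Q] [Module A Q], Function.Injective (α.rTensor Q)) := by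
  classical
  let μ : ∀ (X : Type u) [AddCommGroup X] [Module A X] (J : Ideal A), X ⊗[A] J →ₗ[A] X :=
    fun X _ _ J => (TensorProduct.rid A X).toLinearMap.comp (J.subtype.lTensor X)
  have hμ : ∀ (X : Type u) [AddCommGroup X] [Module A X] (J : Ideal A) (x : X),
      x ∈ J • (⊤ : Submodule A X) → ∃ w, μ X J w = x := by
    intro X _ _ J x hx
    induction hx using Submodule.smul_induction_on' with
    | smul a ha x _ => exact ⟨x ⊗ₜ ⟨a, ha⟩, by simp [μ]⟩
    | add a _ b _ ha hb =>
      obtain ⟨wa, rfl⟩ := ha
      obtain ⟨wb, rfl⟩ := hb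
      exact ⟨wa + wb, map_add _ _ _⟩
  have hμnat : ∀ {X X' : Type u} [AddCommGroup X] [Module A X] [AddCommGroup X'] [Module A X']
      (f : X →ₗ[A] X') (J : Ideal A) (w : X ⊗[A] J), μ X' J (f.rTensor J w) = f (μ X J w) := by
    intro X X' _ _ _ _ f J w
    induction w using TensorProduct.induction_on with
    | zero => simp
    | tmul x j => simp [μ]
    | add a b ha hb => simp only [map_add, ha, hb]
  have hμres : ∀ {X : Type u} [AddCommGroup X] [Module A X] (J : Ideal A) (w : X ⊗[A] J),
      μ X J w = 0 → J.subtype.lTensor X w = 0 := fun J w h =>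
    (TensorProduct.rid A _).injective (h.trans (map_zero _).symm)
  have pureJ : ∀ J : Ideal A, J.FG → ∀ c, α c ∈ J • (⊤ : Submodule A Y) → c ∈ J • (⊤ : Submodule A F) := by
    intro J hJ c hc
    obtain ⟨V, hV, hcV⟩ := hF 1 fun _ => c
    let T : (Fin 1 → A) →ₗ[A] A := LinearMap.proj 0
    let I0 : Ideal A := V.map T
    have hI0 : ∀ K : Ideal A, c ∈ K • (⊤ : Submodule A F) → I0 ≤ K := by
      intro K hK
      have hle : V ≤ Submodule.comap T K := by
        refine (hcV _).1 (res_eq_zero_of_span ?_)
        clear hc hcV
        induction hK using Submodule.smul_induction_on' with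
        | smul a ha x _ => exact Submodule.subset_span ⟨fun _ => a, ha, x, rfl⟩
        | add x _ y _ hx hy => exact add_mem hx hy
      exact Submodule.map_le_iff_le_comap.2 hle
    have hc0 : c ∈ I0 • (⊤ : Submodule A F) := by
      obtain ⟨w, hw⟩ := exists_of_res_eq_zero ((hcV V).2 le_rfl)
      rw [← congrFun hw 0]
      clear hw
      induction w using TensorProduct.induction_on with
      | zero => simp
      | tmul x v =>
        simp only [LinearMap.lTensor_tmul, Submodule.coe_subtype, piScalarRight_apply, piScalarRightHom_tmul]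
        exact Submodule.smul_mem_smul (Submodule.mem_map_of_mem v.2) trivial
      | add a b ha hb => simp only [map_add, Pi.add_apply]; exact add_mem ha hb
    let I := I0 ⊔ J
    have hI : I.FG := (hV.map T).sup hJ
    obtain ⟨w0, hw0⟩ := hμ F I0 c hc0
    obtain ⟨wJ, hwJ⟩ := hμ Y J (α c) hc
    let w := (Submodule.inclusion (le_sup_left : I0 ≤ I)).lTensor F w0
    let z := α.rTensor I w - (Submodule.inclusion (le_sup_right : J ≤ I)).lTensor Y wJ
    have hincl : ∀ {X : Type u} [AddCommGroup X] [Module A X] {K K' : Ideal A} (h : K ≤ K') (y : X ⊗[A] K),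
        μ X K' ((Submodule.inclusion h).lTensor X y) = μ X K y := by
      intro X _ _ K K' h y
      induction y using TensorProduct.induction_on with
      | zero => simp
      | tmul x j => simp [μ]
      | add a b ha hb => simp only [map_add, ha, hb]
    have hz : μ Y I z = 0 := by
      simp only [z, w, map_sub, hμnat, hincl, hw0, hwJ, sub_self]
    have hz' := hY I hI z (hμres I z hz)
    let K : Submodule A I := 𝔪 • ⊤ ⊔ LinearMap.range (Submodule.inclusion (le_sup_right : J ≤ I))
    let p : (↥I ⧸ (𝔪 • (⊤ : Submodule A I))) →ₗ[A] (↥I ⧸ K) := Submodule.factor le_sup_left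
    have hKkill : ∀ a ∈ 𝔪, ∀ v : ↥I ⧸ K, a • v = 0 := by
      intro a ha v
      obtain ⟨v, rfl⟩ := Submodule.mkQ_surjective _ v
      rw [← map_smul, Submodule.mkQ_apply, Submodule.Quotient.mk_eq_zero]
      exact Submodule.mem_sup_left (Submodule.smul_mem_smul ha trivial)
    have h2 : K.mkQ.lTensor F w = 0 := by
      apply rTensor_injective_of_killed α hα _ hKkill
      rw [map_zero, ← LinearMap.comp_apply, LinearMap.rTensor_comp_lTensor, ← LinearMap.lTensor_comp_rTensor,
        LinearMap.comp_apply]
      have h3 : K.mkQ.lTensor Y z = 0 := by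
        rw [show K.mkQ = p ∘ₗ (𝔪 • (⊤ : Submodule A I)).mkQ from LinearMap.ext fun _ => rfl,
          LinearMap.lTensor_comp, LinearMap.comp_apply, hz', map_zero]
      rw [map_sub, ← LinearMap.lTensor_comp_apply, show K.mkQ ∘ₗ Submodule.inclusion (le_sup_right : J ≤ I) = 0 from
        LinearMap.ext fun j => (Submodule.Quotient.mk_eq_zero K).2 (Submodule.mem_sup_right ⟨j, rfl⟩),
        LinearMap.lTensor_zero, LinearMap.zero_apply, sub_zero] at h3
      exact h3
    obtain ⟨k, hk⟩ := (lTensor_exact F (LinearMap.exact_subtype_mkQ K) K.mkQ_surjective w).1 h2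
    let K' : Ideal A := 𝔪 • I ⊔ J
    have hKK' : ∀ y ∈ K, (y : A) ∈ K' := by
      intro y hy
      obtain ⟨y1, hy1, _, ⟨j, rfl⟩, rfl⟩ := Submodule.mem_sup.1 hy
      refine add_mem (Submodule.mem_sup_left ?_) (Submodule.mem_sup_right j.2)
      clear hy
      induction hy1 using Submodule.smul_induction_on' with
      | smul a ha x _ => exact Submodule.smul_mem_smul ha x.2
      | add a _ b _ ha hb => exact add_mem ha hb
    have hcK : c ∈ K' • (⊤ : Submodule A F) := by
      rw [← hw0, ← hincl (le_sup_left : I0 ≤ I), show (Submodule.inclusion (le_sup_left : I0 ≤ I)).lTensor F w0 = w from rfl, ← hk]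
      clear hk
      induction k using TensorProduct.induction_on with
      | zero => simp
      | tmul x y =>
        simp only [μ, LinearMap.comp_apply, LinearMap.lTensor_tmul, Submodule.coe_subtype, LinearEquiv.coe_coe,
          TensorProduct.rid_tmul]
        exact Submodule.smul_mem_smul (hKK' y.1 y.2) trivial
      | add a b ha hb => simp only [map_add]; exact add_mem ha hb
    have hIJ : I ≤ J := Submodule.le_of_le_smul_of_le_jacobson_bot hI (IsLocalRing.maximalIdeal_le_jacobson ⊥)
      ((sup_le (hI0 K' hcK) le_sup_right).trans (le_of_eq (sup_comm _ _)))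
    exact Submodule.smul_mono ((le_sup_left : I0 ≤ I).trans hIJ) le_rfl hc0
  have hinj : Function.Injective α := (injective_iff_map_eq_zero α).2 fun c hc => by
    simpa using pureJ ⊥ Submodule.fg_bot c (by simp [hc])
  refine ⟨hinj, fun J hJ z hz => ?_, fun hZ => ?_⟩
  · obtain ⟨z', rfl⟩ := LinearMap.rTensor_surjective J hβ z
    have h0 : β (μ Y J z') = 0 := by
      rw [← hμnat]
      change TensorProduct.rid A Z (J.subtype.lTensor Z (β.rTensor J z')) = 0
      rw [hz, map_zero]
    obtain ⟨c, hc⟩ := (hex _).1 h0
    have hc' : α c ∈ J • (⊤ : Submodule A Y) := by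
      rw [hc]
      clear hc h0 hz
      induction z' using TensorProduct.induction_on with
      | zero => simp
      | tmul y j =>
        simp only [μ, LinearMap.comp_apply, LinearMap.lTensor_tmul, Submodule.coe_subtype, LinearEquiv.coe_coe,
          TensorProduct.rid_tmul]
        exact Submodule.smul_mem_smul j.2 trivial
      | add a b ha hb => simp only [map_add]; exact add_mem ha hb
    obtain ⟨w, hw⟩ := hμ F J c (pureJ J hJ c hc')
    have h1 := hY J hJ (z' - α.rTensor J w) (hμres J _ (by rw [map_sub, hμnat, hw, hc, sub_self]))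
    rw [map_sub, sub_eq_zero] at h1
    rw [← LinearMap.comp_apply, LinearMap.lTensor_comp_rTensor, ← LinearMap.rTensor_comp_lTensor,
      LinearMap.comp_apply, h1, ← LinearMap.comp_apply, ← LinearMap.comp_apply, LinearMap.comp_assoc,
      show ((𝔪 • (⊤ : Submodule A J)).mkQ.lTensor Y) ∘ₗ α.rTensor J =
        α.rTensor _ ∘ₗ (𝔪 • (⊤ : Submodule A J)).mkQ.lTensor F by
        rw [LinearMap.lTensor_comp_rTensor, LinearMap.rTensor_comp_lTensor],
      ← LinearMap.comp_assoc, ← LinearMap.rTensor_comp, hex.linearMap_comp_eq_zero, LinearMap.rTensor_zero,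
      LinearMap.zero_comp, LinearMap.zero_apply]
  · refine ⟨Module.Flat.iff_lTensor_injective.2 fun J hJ => (injective_iff_map_eq_zero _).2 fun z hz => ?_, fun Q _ _ => ?_⟩
    · have hzZ : β.rTensor J z = 0 := by
        apply Module.Flat.lTensor_preserves_injective_linearMap (M := Z) J.subtype J.injective_subtype
        rw [← LinearMap.comp_apply, LinearMap.lTensor_comp_rTensor, ← LinearMap.rTensor_comp_lTensor,
          LinearMap.comp_apply, hz, map_zero, map_zero]
      obtain ⟨w, rfl⟩ := ((rTensor_exact J hex hβ) z).1 hzZ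
      have hw : μ F J w = 0 := hinj (by
        rw [map_zero, ← hμnat]
        exact (congrArg (TensorProduct.rid A Y) hz).trans (map_zero _))
      have := Module.Flat.lTensor_preserves_injective_linearMap (M := F) J.subtype J.injective_subtype
        ((hμres J w hw).trans (map_zero _).symm)
      rw [this, map_zero]
    · rw [← LinearMap.lTensor_inj_iff_rTensor_inj]
      exact LinearMap.lTensor_injective_of_exact_of_flat β hβ α hinj hex Q

end Groth.Agent.RG
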