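import Groth.Agent.LocalCrit.UnivInj
import Mathlib.RingTheory.Filtration
import Mathlib.RingTheory.FiniteType
import Mathlib.RingTheory.Polynomial.Basic
import Mathlib.Algebra.Algebra.Subalgebra.Tower

/-!
# Content along a section

For a finite type algebra with a section cut out, up to squares, by a sequence with "coefficient
functionals", a vector is, up to an element which is `1` on the section, a combination of its
coefficient vectors.  Krull's intersection theorem is applied on a noetherian subring.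
-/

set_option autoImplicit false
set_option linter.style.haveILetI false
set_option backward.isDefEq.respectTransparency false

universe u

open MvPolynomial

namespace Groth.Agent.RG

theorem le_sup_pow {R : Type u} [CommRing R] {I T : Ideal R} (h : I ≤ T ⊔ I ^ 2) :
    ∀ k, I ≤ T ⊔ I ^ (k + 1)
  | 0 => le_sup_of_le_right (by rw [Submodule.pow_one])
  | k + 1 => by
    refine h.trans (sup_le le_sup_left ?_)
    rw [Submodule.pow_succ, Submodule.pow_one]
    refine (Ideal.mul_mono_right (le_sup_pow h k)).trans ?_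
    rw [Ideal.mul_sup]
    refine sup_le_sup Ideal.mul_le_right (le_of_eq ?_)
    rw [← pow_succ']

/-- exponents of total degree less than `k` -/
def degLT (n k : ℕ) : Finset (Fin n → ℕ) :=
  (Fintype.piFinset fun _ => Finset.range k).filter fun m => ∑ i, m i < k

theorem mem_degLT {n k : ℕ} {m : Fin n → ℕ} : m ∈ degLT n k ↔ ∑ i, m i < k := by
  simp only [degLT, Finset.mem_filter, Fintype.mem_piFinset, Finset.mem_range, and_iff_right_iff_imp]
  exact fun h i => lt_of_le_of_lt (Finset.single_le_sum (fun j _ => Nat.zero_le (m j)) (Finset.mem_univ i)) h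

theorem core {A S : Type u} [CommRing A] [CommRing S] [Algebra A S] [Algebra.FiniteType A S] {n : ℕ}
    (σ : S →ₐ[A] A) (t : Fin n → S) (hσt : ∀ i, σ (t i) = 0)
    (hI : RingHom.ker σ ≤ Ideal.span (Set.range t) ⊔ RingHom.ker σ ^ 2)
    (φ : (Fin n → ℕ) → S →ₗ[A] A)
    (hφ : ∀ m k, ∑ i, m i < k → ∀ s ∈ RingHom.ker σ ^ k, φ m s = 0)
    (hφt : ∀ m m', φ m (∏ i, t i ^ m' i) = if m' = m then 1 else 0) {r : ℕ} (x : Fin r → S) :
    (Submodule.span A (Set.range fun m i => φ m (x i))).FG ∧
      ∃ s, σ s = 1 ∧ s • x ∈ Submodule.span S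
        ((fun v i => algebraMap A S (v i)) '' (Submodule.span A (Set.range fun m i => φ m (x i)) : Set (Fin r → A))) := by
  classical
  obtain ⟨N, f, hf⟩ := Algebra.FiniteType.iff_quotient_mvPolynomial''.1 (inferInstance : Algebra.FiniteType A S)
  let g : Fin N → A := fun a => σ (f (X a))
  let ii : Fin N → S := fun a => f (X a) - algebraMap A S (g a)
  have hdiff : ∀ p, f p - algebraMap A S (σ (f p)) ∈ Ideal.span (Set.range ii) := by
    intro p
    induction p using MvPolynomial.induction_on with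
    | C a =>
      have : f (C a) = algebraMap A S a := f.commutes a
      simp [this]
    | add p q hp hq => simpa [map_add, add_sub_add_comm] using add_mem hp hq
    | mul_X p a hp =>
      have e : f (p * X a) - algebraMap A S (σ (f (p * X a))) =
          (f p - algebraMap A S (σ (f p))) * f (X a) + algebraMap A S (σ (f p)) * ii a := by
        simp only [ii, g, map_mul]
        ring
      rw [e]
      exact add_mem (Ideal.mul_mem_right _ _ hp) (Ideal.mul_mem_left _ _ (Ideal.subset_span ⟨a, rfl⟩))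
  have hkerS : ∀ y ∈ RingHom.ker σ, y ∈ Ideal.span (Set.range ii) := by
    intro y hy
    obtain ⟨p, rfl⟩ := hf y
    have := hdiff p
    rwa [RingHom.mem_ker.1 hy, map_zero, sub_zero] at this
  have hii : ∀ a, ii a ∈ RingHom.ker σ := fun a => by simp [ii, g]
  have hsq : ∀ a, ii a ∈ Ideal.span (Set.range (Sum.elim t fun bc : Fin N × Fin N => ii bc.1 * ii bc.2)) := by
    intro a
    refine (sup_le (Ideal.span_mono ?_) ?_ : Ideal.span (Set.range t) ⊔ RingHom.ker σ ^ 2 ≤ _) (hI (hii a))
    · rintro _ ⟨i, rfl⟩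
      exact ⟨Sum.inl i, rfl⟩
    · refine le_trans (Ideal.pow_right_mono (fun y hy => hkerS y hy) 2) ?_
      rw [Submodule.pow_succ, Submodule.pow_one, Ideal.span_mul_span, Ideal.span_le]
      rintro _ ⟨_, ⟨b, rfl⟩, _, ⟨c, rfl⟩, rfl⟩
      exact Ideal.subset_span ⟨Sum.inr (b, c), rfl⟩
  choose co hco using fun a => (Ideal.mem_span_range_iff_exists_fun).1 (hsq a)
  choose P hP using fun a j => hf (co a j)
  choose T hT using fun i => hf (t i)
  choose Xp hXp using fun i => hf (x i)
  let Cf : Set A := Set.range g ∪ (⋃ a, ⋃ j, ((P a j).coeffs : Set A)) ∪ (⋃ i, ((T i).coeffs : Set A)) ∪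
    ⋃ i, ((Xp i).coeffs : Set A)
  have hCf : Cf.Finite :=
    (((Set.finite_range g).union (Set.finite_iUnion fun a => Set.finite_iUnion fun j => Finset.finite_toSet _)).union
      (Set.finite_iUnion fun i => Finset.finite_toSet _)).union (Set.finite_iUnion fun i => Finset.finite_toSet _)
  let A₀ : Subalgebra ℤ A := Algebra.adjoin ℤ Cf
  haveI : Algebra.FiniteType ℤ A₀ := (A₀.fg_iff_finiteType).1 (Subalgebra.fg_def.2 ⟨Cf, hCf, rfl⟩)
  haveI : IsNoetherianRing A₀ := Algebra.FiniteType.isNoetherianRing ℤ A₀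
  let e : MvPolynomial (Fin N) A₀ →+* S := f.toRingHom.comp (MvPolynomial.map A₀.val.toRingHom)
  let S₀ : Subring S := e.range
  haveI : IsNoetherianRing S₀ := isNoetherianRing_range e
  have hCA : Cf ⊆ A₀ := Algebra.subset_adjoin
  have hpoly : ∀ p : MvPolynomial (Fin N) A, (p.coeffs : Set A) ⊆ A₀ → f p ∈ S₀ := fun p hp => by
    obtain ⟨q, rfl⟩ := (mem_range_map_iff_coeffs_subset (f := A₀.val.toRingHom)).2 fun a ha => ⟨⟨a, hp ha⟩, rfl⟩
    exact ⟨q, rfl⟩
  have hA₀ : ∀ a : A₀, algebraMap A S a ∈ S₀ := fun a =>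
    ⟨C a, by simpa [e] using f.commutes (a : A)⟩
  let a₀ : A₀ →+* S₀ := ((algebraMap A S).comp A₀.val.toRingHom).codRestrict S₀ hA₀
  have hσA : ∀ y ∈ S₀, σ y ∈ A₀ := by
    rintro _ ⟨p, rfl⟩
    induction p using MvPolynomial.induction_on with
    | C a =>
      have : e (C a) = algebraMap A S a := by simpa [e] using f.commutes (a : A)
      simp [this]
    | add p q hp hq => simpa [map_add] using add_mem hp hq
    | mul_X p a hp =>
      rw [map_mul, map_mul]
      exact mul_mem hp (hCA (Or.inl (Or.inl (Or.inl ⟨a, by simp [g, e]⟩))))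
  have hiS : ∀ a, ii a ∈ S₀ := fun a =>
    sub_mem ⟨X a, by simp [e]⟩ (hA₀ ⟨g a, hCA (Or.inl (Or.inl (Or.inl ⟨a, rfl⟩)))⟩)
  have htS : ∀ i, t i ∈ S₀ := fun i => hT i ▸
    hpoly _ fun a ha => hCA (Or.inl (Or.inr (Set.mem_iUnion.2 ⟨i, ha⟩)))
  have hxS : ∀ i, x i ∈ S₀ := fun i => hXp i ▸
    hpoly _ fun a ha => hCA (Or.inr (Set.mem_iUnion.2 ⟨i, ha⟩))
  have hcS : ∀ a j, co a j ∈ S₀ := fun a j => hP a j ▸
    hpoly _ fun b hb => hCA (Or.inl (Or.inl (Or.inr (Set.mem_iUnion.2 ⟨a, Set.mem_iUnion.2 ⟨j, hb⟩⟩))))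
  let i₀ : Fin N → S₀ := fun a => ⟨ii a, hiS a⟩
  let t₀ : Fin n → S₀ := fun i => ⟨t i, htS i⟩
  let I₀ : Ideal S₀ := Ideal.span (Set.range i₀)
  have hker₀ : ∀ y : S₀, y - a₀ ⟨σ (y : S), hσA _ y.2⟩ ∈ I₀ := by
    rintro ⟨_, p, rfl⟩
    induction p using MvPolynomial.induction_on with
    | C a =>
      have : e (C a) = algebraMap A S a := by simpa [e] using f.commutes (a : A)
      convert I₀.zero_mem
      rw [sub_eq_zero]
      exact Subtype.ext (show e (C a) = algebraMap A S (σ (e (C a))) by simp [this])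
    | add p q hp hq =>
      convert add_mem hp hq using 1
      exact Subtype.ext (show e (p + q) - algebraMap A S (σ (e (p + q))) =
        (e p - algebraMap A S (σ (e p))) + (e q - algebraMap A S (σ (e q))) by simp only [map_add]; ring)
    | mul_X p a hp =>
      have hXa : e (X a) = f (X a) := by simp [e]
      convert add_mem (I₀.mul_mem_right ⟨e (X a), X a, rfl⟩ hp)
        (I₀.mul_mem_left (a₀ ⟨σ (e p), hσA _ ⟨p, rfl⟩⟩) (Ideal.subset_span ⟨a, rfl⟩ : i₀ a ∈ I₀)) using 1
      exact Subtype.ext (show e (p * X a) - algebraMap A S (σ (e (p * X a))) =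
        (e p - algebraMap A S (σ (e p))) * e (X a) + algebraMap A S (σ (e p)) * ii a by
          simp only [map_mul, ii, g, hXa]; ring)
  have hI₀ker : I₀ ≤ (RingHom.ker σ).comap S₀.subtype := by
    rw [Ideal.span_le]
    rintro _ ⟨a, rfl⟩
    exact hii a
  have hpow : ∀ k, ∀ z ∈ I₀ ^ k, (z : S) ∈ RingHom.ker σ ^ k := fun k z hz =>
    Ideal.le_comap_pow S₀.subtype k (Ideal.pow_right_mono hI₀ker k hz)
  have ht₀ : ∀ i, t₀ i ∈ I₀ := fun i => by
    convert hker₀ (t₀ i)
    rw [eq_sub_iff_add_eq, add_eq_left]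
    exact Subtype.ext (show algebraMap A S (σ (t i)) = 0 by rw [hσt, map_zero])
  have hT₀ : I₀ ≤ Ideal.span (Set.range t₀) ⊔ I₀ ^ 2 := by
    rw [Ideal.span_le]
    rintro _ ⟨a, rfl⟩
    have : i₀ a = ∑ j, (⟨co a j, hcS a j⟩ : S₀) *
        Sum.elim t₀ (fun bc : Fin N × Fin N => i₀ bc.1 * i₀ bc.2) j := by
      refine Subtype.ext ?_
      rw [AddSubmonoidClass.coe_finset_sum]
      refine (hco a).symm.trans (Finset.sum_congr rfl fun j _ => ?_)
      rcases j with i | bc <;> rfl
    rw [this]
    refine Submodule.sum_mem _ fun j _ => Ideal.mul_mem_left _ _ ?_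
    rcases j with i | bc
    · exact Submodule.mem_sup_left (Ideal.subset_span ⟨i, rfl⟩)
    · refine Submodule.mem_sup_right ?_
      rw [Submodule.pow_succ, Submodule.pow_one]
      exact Ideal.mul_mem_mul (Ideal.subset_span ⟨_, rfl⟩) (Ideal.subset_span ⟨_, rfl⟩)
  let mon : (Fin n → ℕ) → S := fun m => ∏ i, t i ^ m i
  let M : ℕ → Submodule A₀ S := fun k =>
    Submodule.span A₀ (mon '' (degLT n k : Set (Fin n → ℕ)) ∪ Subtype.val '' ((I₀ ^ k : Ideal S₀) : Set S₀))
  have hM : ∀ k, ∀ y : S₀, (y : S) ∈ M k := by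
    intro k
    induction k with
    | zero => exact fun y => Submodule.subset_span (Or.inr ⟨y, by simp, rfl⟩)
    | succ k ih =>
      intro y
      have hy : (y : S) = algebraMap A S (σ (y : S)) + (y - a₀ ⟨σ (y : S), hσA _ y.2⟩ : S₀) := by
        simp [a₀]
      rw [hy]
      refine add_mem ?_ ?_
      · have h1 : algebraMap A S (σ (y : S)) = (⟨σ (y : S), hσA _ y.2⟩ : A₀) • mon 0 := by
          rw [show mon 0 = 1 by simp [mon], Subalgebra.smul_def, Algebra.smul_def, mul_one]
        rw [h1]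
        exact Submodule.smul_mem _ _ (Submodule.subset_span (Or.inl ⟨0, mem_degLT.2 (by simp), rfl⟩))
      · obtain ⟨u, hu, z, hz, huz⟩ := Submodule.mem_sup.1 (le_sup_pow hT₀ k (hker₀ y))
        rw [← huz, Subring.coe_add]
        refine add_mem ?_ (Submodule.subset_span (Or.inr ⟨z, hz, rfl⟩))
        obtain ⟨c, rfl⟩ := Ideal.mem_span_range_iff_exists_fun.1 hu
        rw [AddSubmonoidClass.coe_finset_sum]
        refine Submodule.sum_mem _ fun j _ => ?_
        rw [Subring.coe_mul]
        refine Submodule.span_induction (p := fun w _ => w * (t₀ j : S) ∈ M (k + 1)) ?_ ?_ ?_ ?_ (ih (c j))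
        · rintro _ (⟨m, hm, rfl⟩ | ⟨z', hz', rfl⟩)
          · refine Submodule.subset_span (Or.inl ⟨m + Pi.single j 1, mem_degLT.2 ?_, ?_⟩)
            · have := mem_degLT.1 hm
              simp only [Pi.add_apply, Finset.sum_add_distrib, Finset.sum_pi_single', Finset.mem_univ, if_true]
              omega
            · simp only [mon, t₀, Pi.add_apply, pow_add, Finset.prod_mul_distrib]
              congr 1
              rw [Finset.prod_eq_single j (fun i _ hi => by simp [hi]) (by simp)]
              simp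
          · refine Submodule.subset_span (Or.inr ⟨z' * t₀ j, ?_, rfl⟩)
            rw [pow_succ]
            exact Ideal.mul_mem_mul hz' (ht₀ j)
        · simp
        · intro a b _ _ ha hb
          rw [add_mul]
          exact add_mem ha hb
        · intro a b _ hb
          rw [smul_mul_assoc]
          exact Submodule.smul_mem _ _ hb
  have hexp : ∀ k, ∀ y ∈ M k, (∀ m ∈ degLT n k, φ m y ∈ A₀) ∧
      y - ∑ m ∈ degLT n k, algebraMap A S (φ m y) * mon m ∈ Subtype.val '' ((I₀ ^ k : Ideal S₀) : Set S₀) := by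
    intro k y hy
    induction hy using Submodule.span_induction with
    | mem y hy =>
      rcases hy with ⟨m', hm', rfl⟩ | ⟨z, hz, rfl⟩
      · refine ⟨fun m _ => by rw [hφt]; split <;> simp, 0, by simp, ?_⟩
        rw [Finset.sum_eq_single m' (fun m _ hne => by simp [mon, hφt, Ne.symm hne]) (fun h => absurd hm' h)]
        simp [mon, hφt]
      · have h0 : ∀ m ∈ degLT n k, φ m (z : S) = 0 := fun m hm => hφ m k (mem_degLT.1 hm) _ (hpow k z hz)
        refine ⟨fun m hm => by rw [h0 m hm]; exact zero_mem _, z, hz, ?_⟩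
        rw [Finset.sum_eq_zero fun m hm => by rw [h0 m hm, map_zero, zero_mul], sub_zero]
    | zero => exact ⟨by simp, 0, by simp, by simp⟩
    | add a b _ _ ha hb =>
      obtain ⟨ha1, za, hza, ea⟩ := ha
      obtain ⟨hb1, zb, hzb, eb⟩ := hb
      refine ⟨fun m hm => by rw [map_add]; exact add_mem (ha1 m hm) (hb1 m hm), za + zb, add_mem hza hzb, ?_⟩
      rw [Subring.coe_add, ea, eb]
      simp only [map_add, add_mul, Finset.sum_add_distrib]
      ring
    | smul c a _ ha =>
      obtain ⟨ha1, za, hza, ea⟩ := ha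
      have hc : c • a = algebraMap A S c * a := by rw [Subalgebra.smul_def, Algebra.smul_def]
      have hφc : ∀ m, φ m (c • a) = (c : A) * φ m a := fun m => by
        rw [hc, ← Algebra.smul_def, map_smul, smul_eq_mul]
      refine ⟨fun m hm => by rw [hφc]; exact mul_mem c.2 (ha1 m hm), a₀ c * za, Ideal.mul_mem_left _ _ hza, ?_⟩
      rw [Subring.coe_mul, ea, hc, mul_sub, Finset.mul_sum]
      congr 1
      refine Finset.sum_congr rfl fun m _ => ?_
      rw [← hc, hφc, map_mul, mul_assoc]
      rfl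
  have hxA : ∀ m i, φ m (x i) ∈ A₀ := fun m i =>
    (hexp (∑ j, m j + 1) _ (hM _ ⟨x i, hxS i⟩)).1 m (mem_degLT.2 (Nat.lt_succ_self _))
  let v₀ : (Fin n → ℕ) → Fin r → A₀ := fun m i => ⟨φ m (x i), hxA m i⟩
  set V := Submodule.span A (Set.range fun m i => φ m (x i)) with hV
  let W₀ : Submodule S₀ (Fin r → S₀) := Submodule.span S₀ (Set.range fun m i => a₀ (v₀ m i))
  refine ⟨?_, ?_⟩
  · obtain ⟨G, hG⟩ := IsNoetherian.noetherian (Submodule.span A₀ (Set.range v₀))
    let ι : (Fin r → A₀) → (Fin r → A) := fun v i => (v i : A)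
    refine ⟨G.image ι, le_antisymm (Submodule.span_le.2 ?_) (Submodule.span_le.2 ?_)⟩
    · intro w hw
      obtain ⟨v, hv, rfl⟩ := Finset.mem_image.1 hw
      have hv' : v ∈ Submodule.span A₀ (Set.range v₀) := hG ▸ Submodule.subset_span hv
      clear hv hw
      induction hv' using Submodule.span_induction with
      | mem v hv => obtain ⟨m, rfl⟩ := hv; exact Submodule.subset_span ⟨m, rfl⟩
      | zero => exact V.zero_mem
      | add a b _ _ ha hb => exact (show ι (a + b) = ι a + ι b from rfl) ▸ add_mem ha hb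
      | smul c a _ ha =>
        exact (show ι (c • a) = (c : A) • ι a from rfl) ▸ V.smul_mem _ ha
    · rintro _ ⟨m, rfl⟩
      have hv' : v₀ m ∈ Submodule.span A₀ (G : Set (Fin r → A₀)) := hG ▸ Submodule.subset_span ⟨m, rfl⟩
      suffices ∀ v ∈ Submodule.span A₀ (G : Set (Fin r → A₀)), ι v ∈ Submodule.span A (G.image ι : Set (Fin r → A)) from
        this _ hv'
      intro v hv
      induction hv using Submodule.span_induction with
      | mem v hv => exact Submodule.subset_span (Finset.mem_image_of_mem ι hv)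
      | zero => exact zero_mem _
      | add a b _ _ ha hb => exact (show ι (a + b) = ι a + ι b from rfl) ▸ add_mem ha hb
      | smul c a _ ha =>
        exact (show ι (c • a) = (c : A) • ι a from rfl) ▸ Submodule.smul_mem _ _ ha
  · let x₀ : Fin r → S₀ := fun i => ⟨x i, hxS i⟩
    have hx₀ : Submodule.Quotient.mk x₀ ∈ (⨅ k : ℕ, I₀ ^ k • ⊤ : Submodule S₀ ((Fin r → S₀) ⧸ W₀)) := by
      rw [Submodule.mem_iInf]
      intro k
      choose z hz hze using fun i => (hexp k _ (hM k (x₀ i))).2
      let mon₀ : (Fin n → ℕ) → S₀ := fun m => ∏ i, t₀ i ^ m i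
      have hmon₀ : ∀ m, (mon₀ m : S) = mon m := fun m => by simp [mon₀, mon, t₀]
      have e1 : x₀ = z + ∑ m ∈ degLT n k, mon₀ m • (fun i => a₀ (v₀ m i)) := by
        funext i
        refine Subtype.ext ?_
        rw [Pi.add_apply, Finset.sum_apply, Subring.coe_add, AddSubmonoidClass.coe_finset_sum]
        simp only [Pi.smul_apply, smul_eq_mul, Subring.coe_mul, hmon₀]
        rw [hze i, sub_add, eq_comm, sub_eq_self, sub_eq_zero]
        exact Finset.sum_congr rfl fun m _ => mul_comm _ _
      rw [e1, Submodule.Quotient.mk_add,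
        (Submodule.Quotient.mk_eq_zero W₀).2 (Submodule.sum_mem _ fun m _ =>
          Submodule.smul_mem _ _ (Submodule.subset_span ⟨m, rfl⟩)), add_zero, pi_eq_sum_univ' z]
      rw [← Submodule.mkQ_apply, map_sum]
      refine Submodule.sum_mem _ fun i _ => ?_
      rw [map_smul]
      exact Submodule.smul_mem_smul (hz i) trivial
    obtain ⟨⟨c, hc⟩, hcx⟩ := (Ideal.mem_iInf_smul_pow_eq_bot_iff I₀ _).1 hx₀
    refine ⟨1 - (c : S), by rw [map_sub, map_one, (RingHom.mem_ker.1 (hI₀ker hc) : σ (c : S) = 0), sub_zero], ?_⟩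
    have h0 : (1 - c) • x₀ ∈ W₀ := by
      rw [← Submodule.Quotient.mk_eq_zero, Submodule.Quotient.mk_smul, sub_smul, one_smul]
      exact sub_eq_zero.2 hcx.symm
    suffices ∀ w ∈ W₀, (fun i => (w i : S)) ∈ Submodule.span S ((fun v i => algebraMap A S (v i)) '' (V : Set (Fin r → A))) by
      convert this _ h0 using 1
      funext i
      simp [x₀]
    intro w hw
    induction hw using Submodule.span_induction with
    | mem w hw =>
      obtain ⟨m, rfl⟩ := hw
      exact Submodule.subset_span ⟨_, Submodule.subset_span ⟨m, rfl⟩, rfl⟩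
    | zero => exact zero_mem _
    | add a b _ _ ha hb => exact add_mem ha hb
    | smul c a _ ha => exact Submodule.smul_mem _ (c : S) ha

end Groth.Agent.RG
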